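import Mathlib.RingTheory.Flat.Basic
import Mathlib.RingTheory.Flat.Tensor
import Mathlib.RingTheory.TensorProduct.Quotient
import Mathlib.LinearAlgebra.TensorProduct.Tower
import Mathlib.LinearAlgebra.TensorProduct.RightExactness
import Mathlib.Algebra.Module.Torsion.Basic

/-!
Local flatness criterion for a square-zero ideal (helper84).
-/

set_option autoImplicit false
universe u v w w'
open TensorProduct

namespace Groth.Agent.Lib.Helper84

section
variable {A : Type u} [CommRing A] (I : Ideal A) (M : Type v) [AddCommGroup M] [Module A M]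

/-- If `A/I ⊗ M` is flat over `A/I`, then `- ⊗_A M` preserves injections of `A/I`-modules. -/
theorem rTensor_injective_of_flat_quotient [Module.Flat (A ⧸ I) ((A ⧸ I) ⊗[A] M)]
    {N' : Type w} {N : Type w'} [AddCommGroup N'] [Module A N'] [AddCommGroup N] [Module A N]
    [Module (A ⧸ I) N'] [IsScalarTower A (A ⧸ I) N'] [Module (A ⧸ I) N]
    [IsScalarTower A (A ⧸ I) N]
    (f : N' →ₗ[A] N) (hf : Function.Injective f) : Function.Injective (f.rTensor M) := by
  let fbar : N' →ₗ[A ⧸ I] N := f.extendScalarsOfSurjective Ideal.Quotient.mk_surjective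
  let e' := TensorProduct.AlgebraTensorModule.cancelBaseChange A (A ⧸ I) (A ⧸ I) N' M
  let e := TensorProduct.AlgebraTensorModule.cancelBaseChange A (A ⧸ I) (A ⧸ I) N M
  have comm : ∀ x, e (fbar.rTensor ((A ⧸ I) ⊗[A] M) x) = f.rTensor M (e' x) := by
    intro x
    induction x using TensorProduct.induction_on with
    | zero => simp
    | tmul n y =>
      induction y using TensorProduct.induction_on with
      | zero => simp
      | tmul a m =>
        simp only [e, e', fbar, LinearMap.rTensor_tmul,
          TensorProduct.AlgebraTensorModule.cancelBaseChange_tmul,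
          LinearMap.extendScalarsOfSurjective_apply]
        obtain ⟨a, rfl⟩ := Ideal.Quotient.mk_surjective a
        rw [← Ideal.Quotient.algebraMap_eq, algebraMap_smul, algebraMap_smul, map_smul]
      | add x y hx hy => simp only [TensorProduct.tmul_add, map_add, hx, hy]
    | add x y hx hy => simp only [map_add, hx, hy]
  have hinj : Function.Injective (fbar.rTensor ((A ⧸ I) ⊗[A] M)) :=
    Module.Flat.rTensor_preserves_injective_linearMap fbar hf
  intro x y hxy
  obtain ⟨x', rfl⟩ := e'.surjective x
  obtain ⟨y', rfl⟩ := e'.surjective y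
  rw [← comm, ← comm] at hxy
  rw [hinj (e.injective hxy)]

/-- Variant with torsion hypotheses instead of `A/I`-module structures. -/
theorem rTensor_injective_of_flat_quotient_of_torsion [Module.Flat (A ⧸ I) ((A ⧸ I) ⊗[A] M)]
    {N' : Type w} {N : Type w'} [AddCommGroup N'] [Module A N'] [AddCommGroup N] [Module A N]
    (hN' : Module.IsTorsionBySet A N' (I : Set A)) (hN : Module.IsTorsionBySet A N (I : Set A))
    (f : N' →ₗ[A] N) (hf : Function.Injective f) : Function.Injective (f.rTensor M) := by
  letI := hN'.module
  letI := hN.module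
  exact rTensor_injective_of_flat_quotient I M f hf

end

section
variable {A : Type u} [CommRing A] (I : Ideal A) (M : Type v) [AddCommGroup M] [Module A M]

/-- Local flatness criterion for a square-zero ideal: if `I² = 0`, `A/I ⊗ M` is flat over `A/I`
and `I ⊗ M → M` is injective, then `M` is flat over `A`. -/
theorem flat_of_sq_zero (hI : I * I = ⊥) [Module.Flat (A ⧸ I) ((A ⧸ I) ⊗[A] M)]
    (hinj : Function.Injective (I.subtype.rTensor M)) : Module.Flat A M := by
  rw [Module.Flat.iff_rTensor_injective']
  intro J
  have hII : ∀ a ∈ I, ∀ b ∈ I, a * b = 0 := by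
    intro a ha b hb
    have : a * b ∈ I * I := Ideal.mul_mem_mul ha hb
    rwa [hI] at this
  let K : Submodule A A := J ⊓ I
  let ιKJ : K →ₗ[A] J := Submodule.inclusion inf_le_left
  let ιKI : K →ₗ[A] I := Submodule.inclusion inf_le_right
  let π : A →ₗ[A] A ⧸ I := Submodule.mkQ I
  let q : J →ₗ[A] A ⧸ I := π ∘ₗ J.subtype
  let Q : Submodule A (A ⧸ I) := LinearMap.range q
  let q' : J →ₗ[A] Q := q.rangeRestrict
  have hexact : Function.Exact ιKJ q' := by
    intro j
    constructor
    · intro hj
      have hj' : q j = 0 := congrArg Subtype.val hj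
      have hjI : (j : A) ∈ I := by
        have : Submodule.Quotient.mk (p := I) (j : A) = 0 := hj'
        rwa [Submodule.Quotient.mk_eq_zero] at this
      exact ⟨⟨j, ⟨j.2, hjI⟩⟩, rfl⟩
    · rintro ⟨k, rfl⟩
      apply Subtype.ext
      change Submodule.Quotient.mk (p := I) (k : A) = 0
      rw [Submodule.Quotient.mk_eq_zero]
      exact k.2.2
  have hq' : Function.Surjective q' := LinearMap.surjective_rangeRestrict q
  have hex := rTensor_exact M hexact hq'
  have hK : Module.IsTorsionBySet A K (I : Set A) := by
    intro k a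
    apply Subtype.ext
    exact hII _ a.2 _ k.2.2
  have hIt : Module.IsTorsionBySet A I (I : Set A) := by
    intro k a
    apply Subtype.ext
    exact hII _ a.2 _ k.2
  have hAI : Module.IsTorsionBySet A (A ⧸ I) (I : Set A) := by
    intro x a
    obtain ⟨x, rfl⟩ := Ideal.Quotient.mk_surjective x
    rw [← Ideal.Quotient.mk_eq_mk, ← Submodule.Quotient.mk_smul, Submodule.Quotient.mk_eq_zero]
    exact I.mul_mem_right _ a.2
  have hQ : Module.IsTorsionBySet A Q (I : Set A) := by
    intro x a
    apply Subtype.ext
    exact hAI (x := (x : A ⧸ I)) (a := a)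
  have h1 : Function.Injective (ιKI.rTensor M) :=
    rTensor_injective_of_flat_quotient_of_torsion I M hK hIt ιKI (Submodule.inclusion_injective _)
  have h2 : Function.Injective (Q.subtype.rTensor M) :=
    rTensor_injective_of_flat_quotient_of_torsion I M hQ hAI Q.subtype Subtype.val_injective
  rw [injective_iff_map_eq_zero]
  intro z hz
  have e1 : Q.subtype.rTensor M (q'.rTensor M z) = π.rTensor M (J.subtype.rTensor M z) := by
    rw [← LinearMap.comp_apply, ← LinearMap.rTensor_comp, ← LinearMap.comp_apply,
      ← LinearMap.rTensor_comp]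
    rfl
  have hz' : q'.rTensor M z = 0 := h2 (by rw [e1, hz, map_zero, map_zero])
  obtain ⟨w, hw⟩ := (hex z).mp hz'
  have e2 : I.subtype.rTensor M (ιKI.rTensor M w) = J.subtype.rTensor M (ιKJ.rTensor M w) := by
    rw [← LinearMap.comp_apply, ← LinearMap.rTensor_comp, ← LinearMap.comp_apply,
      ← LinearMap.rTensor_comp]
    rfl
  have hw0 : w = 0 := h1 (hinj (by rw [e2, hw, hz, map_zero, map_zero]))
  rw [← hw, hw0, map_zero]

end

end Groth.Agent.Lib.Helper84
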