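import Mathlib.LinearAlgebra.Contraction
import Mathlib.LinearAlgebra.LeftExact
import Mathlib.Algebra.Module.FinitePresentation
import Mathlib.RingTheory.Flat.Basic

/-!
`M^* ⊗ N → Hom(M, N)` is bijective for `M` finitely presented and `N` flat (helper84).
-/

set_option autoImplicit false
universe u v w
open TensorProduct

namespace Groth.Agent.Lib.Helper84

/-- For `M` finitely presented and `N` flat the canonical map `M^* ⊗ N → Hom(M, N)` is
bijective. -/
theorem dualTensorHom_bijective_of_finitePresentation_of_flat (R : Type u) [CommRing R]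
    (M : Type v) [AddCommGroup M] [Module R M] (N : Type w) [AddCommGroup N] [Module R N]
    [Module.FinitePresentation R M] [Module.Flat R N] :
    Function.Bijective (dualTensorHom R M N) := by
  obtain ⟨n, m, f, g, hf, hfg⟩ := Module.FinitePresentation.exists_fin' R M
  have hF0 : Function.Bijective (dualTensorHom R (Fin n → R) N) := dualTensorHom_bijective
  have hF1 : Function.Bijective (dualTensorHom R (Fin m → R) N) := dualTensorHom_bijective
  have nat_f : ∀ x, dualTensorHom R (Fin n → R) N (f.dualMap.rTensor N x) =
      (dualTensorHom R M N x) ∘ₗ f := fun x =>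
    LinearMap.congr_fun (dualTensorHom_comp_rTensor_dualMap (R := R) (P := N) f) x
  have nat_g : ∀ y, dualTensorHom R (Fin m → R) N (g.dualMap.rTensor N y) =
      (dualTensorHom R (Fin n → R) N y) ∘ₗ g := fun y =>
    LinearMap.congr_fun (dualTensorHom_comp_rTensor_dualMap (R := R) (P := N) g) y
  have hinj0 : Function.Injective f.dualMap :=
    LinearMap.lcomp_injective_of_surjective (S := R) (N := R) f hf
  have hinj_f : Function.Injective (f.dualMap.rTensor N) :=
    Module.Flat.rTensor_preserves_injective_linearMap _ hinj0
  have hex0 : Function.Exact f.dualMap g.dualMap :=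
    LinearMap.exact_lcomp_of_exact_of_surjective R hfg hf
  have hex : Function.Exact (f.dualMap.rTensor N) (g.dualMap.rTensor N) :=
    Module.Flat.rTensor_exact N hex0
  constructor
  · intro x y hxy
    apply hinj_f
    apply hF0.1
    rw [nat_f, nat_f, hxy]
  · intro φ
    obtain ⟨y, hy⟩ := hF0.2 (φ ∘ₗ f)
    have h0 : g.dualMap.rTensor N y = 0 := by
      apply hF1.1
      rw [map_zero, nat_g, hy]
      ext z
      simp [hfg.apply_apply_eq_zero]
    obtain ⟨x, hx⟩ := (hex y).mp h0
    refine ⟨x, ?_⟩
    apply LinearMap.lcomp_injective_of_surjective (S := R) (N := N) f hf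
    change (dualTensorHom R M N x) ∘ₗ f = φ ∘ₗ f
    rw [← nat_f, hx, hy]

end Groth.Agent.Lib.Helper84
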