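import Groth.Prelude.Def_ComodSub
import Groth.Agent.Lib.Helper84.DualTensorFlat
import Mathlib.RingTheory.Flat.Stability

/-!
The left dual comodule of a finitely presented comodule over a flat coalgebra (helper84).
-/

set_option autoImplicit false
universe u v w
open TensorProduct

namespace Groth.Agent.Lib.Helper84.LDual

section
variable {k : Type u} [CommRing k] {A : Type v} [AddCommGroup A] [Module k A]
  {M : Type w} [AddCommGroup M] [Module k M]

local notation "D" => Module.Dual k M

/-- Evaluation at `m`: `A ⊗ M^* → A`, `a ⊗ φ ↦ φ m • a`. -/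
noncomputable def evL (m : M) : A ⊗[k] D →ₗ[k] A :=
  (TensorProduct.rid k A).toLinearMap ∘ₗ LinearMap.lTensor A (LinearMap.applyₗ m)

@[simp] theorem evL_tmul (m : M) (a : A) (φ : D) : evL (A := A) m (a ⊗ₜ[k] φ) = φ m • a := by
  simp [evL]

theorem evL_eq_dualTensorHom (m : M) (y : A ⊗[k] D) :
    evL m y = dualTensorHom k M A (TensorProduct.comm k A D y) m := by
  induction y using TensorProduct.induction_on with
  | zero => simp
  | tmul a φ => simp
  | add x y hx hy => simp only [map_add, hx, hy, LinearMap.add_apply]

/-- The map `g' ↦ lid (g' ⊗ id) z` for `z : M ⊗ A`. -/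
noncomputable def FF (z : M ⊗[k] A) : D →ₗ[k] A where
  toFun g' := TensorProduct.lid k A (g'.rTensor A z)
  map_add' g₁ g₂ := by rw [LinearMap.rTensor_add, LinearMap.add_apply, map_add]
  map_smul' r g₁ := by
    rw [LinearMap.rTensor_smul, LinearMap.smul_apply, map_smul, RingHom.id_apply]

@[simp] theorem FF_apply (z : M ⊗[k] A) (g' : D) :
    FF z g' = TensorProduct.lid k A (g'.rTensor A z) := rfl

theorem FF_add (z z' : M ⊗[k] A) : FF (z + z') = FF z + FF z' := by
  ext g'; simp

theorem FF_zero : FF (0 : M ⊗[k] A) = 0 := by
  ext g'; simp

/-- `m' ↦ evL m' y`, linear in `m'`. -/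
noncomputable def beta (y : A ⊗[k] D) : M →ₗ[k] A where
  toFun m' := evL m' y
  map_add' m₁ m₂ := by
    induction y using TensorProduct.induction_on with
    | zero => simp
    | tmul a φ => simp [add_smul]
    | add x y hx hy => simp only [map_add, hx, hy]; abel
  map_smul' r m₁ := by
    induction y using TensorProduct.induction_on with
    | zero => simp
    | tmul a φ => simp [mul_smul]
    | add x y hx hy => simp only [map_add, hx, hy, smul_add]

@[simp] theorem beta_apply (y : A ⊗[k] D) (m' : M) : beta y m' = evL m' y := rfl

theorem L3 (y : A ⊗[k] D) (z : M ⊗[k] A) :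
    (FF z).lTensor A y = (beta y).rTensor A z := by
  induction z using TensorProduct.induction_on with
  | zero => simp [FF_zero]
  | tmul m' b =>
    induction y using TensorProduct.induction_on with
    | zero => simp
    | tmul a φ =>
      simp only [LinearMap.lTensor_tmul, FF_apply, LinearMap.rTensor_tmul, TensorProduct.lid_tmul,
        beta_apply, evL_tmul]
      rw [TensorProduct.smul_tmul]
    | add x y hx hy =>
      rw [map_add, hx, hy]
      have : beta (x + y) = beta x + beta y := by
        ext m''; simp
      rw [this, LinearMap.rTensor_add, LinearMap.add_apply]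
  | add z z' hz hz' =>
    rw [FF_add, LinearMap.lTensor_add, LinearMap.add_apply, hz, hz', map_add]

theorem L1 (g : D) (w : (M ⊗[k] A) ⊗[k] A) :
    ((TensorProduct.lid k A).toLinearMap.rTensor A) (((g.rTensor A).rTensor A) w) =
      TensorProduct.lid k (A ⊗[k] A) ((g.rTensor (A ⊗[k] A)) (TensorProduct.assoc k M A A w)) := by
  induction w using TensorProduct.induction_on with
  | zero => simp
  | tmul x b =>
    induction x using TensorProduct.induction_on with
    | zero => simp
    | tmul m' a => simp [TensorProduct.smul_tmul']
    | add x y hx hy => simp only [TensorProduct.add_tmul, map_add, hx, hy]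
  | add x y hx hy => simp only [map_add, hx, hy]

end

section
variable {k : Type u} [CommRing k] {A : Type v} [AddCommGroup A] [Module k A] [Coalgebra k A]
  {M : Type w} [AddCommGroup M] [Module k M]

local notation "D" => Module.Dual k M
local notation "Δ" => (CoalgebraStruct.comul (R := k) (A := A))
local notation "ε" => (CoalgebraStruct.counit (R := k) (A := A))

theorem L2 (y : A ⊗[k] D) (m : M) :
    (evL (A := A) m).lTensor A (TensorProduct.assoc k A A D ((LinearMap.rTensor D Δ) y)) =
      Δ (evL m y) := by
  induction y using TensorProduct.induction_on with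
  | zero => simp
  | tmul a φ =>
    simp only [LinearMap.rTensor_tmul, evL_tmul, map_smul]
    induction (Δ a) using TensorProduct.induction_on with
    | zero => simp
    | tmul a₁ a₂ => simp [TensorProduct.tmul_smul]
    | add x y hx hy => simp only [TensorProduct.add_tmul, map_add, hx, hy, smul_add]
  | add x y hx hy => simp only [map_add, hx, hy]

theorem L4 (y : A ⊗[k] D) (m : M) :
    (TensorProduct.lid k D ((LinearMap.rTensor D ε) y)) m = ε (evL m y) := by
  induction y using TensorProduct.induction_on with
  | zero => simp
  | tmul a φ => simp [mul_comm]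
  | add x y hx hy => simp only [map_add, hx, hy, LinearMap.add_apply]

theorem L5 (g : D) (z : M ⊗[k] A) :
    ε (TensorProduct.lid k A (g.rTensor A z)) =
      g (TensorProduct.rid k M ((LinearMap.lTensor M ε) z)) := by
  induction z using TensorProduct.induction_on with
  | zero => simp
  | tmul m' b => simp [mul_comm]
  | add x y hx hy => simp only [map_add, hx, hy]

end

section
variable {k : Type u} [CommRing k] {A : Type v} [AddCommGroup A] [Module k A] [Coalgebra k A]
  {M : Type w} [AddCommGroup M] [Module k M]

local notation "D" => Module.Dual k M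
local notation "Δ" => (CoalgebraStruct.comul (R := k) (A := A))
local notation "ε" => (CoalgebraStruct.counit (R := k) (A := A))

theorem L6 (g : D) (z : M ⊗[k] A) :
    Δ (TensorProduct.lid k A (g.rTensor A z)) =
      TensorProduct.lid k (A ⊗[k] A) (g.rTensor (A ⊗[k] A) ((LinearMap.lTensor M Δ) z)) := by
  induction z using TensorProduct.induction_on with
  | zero => simp
  | tmul m' b => simp
  | add x y hx hy => simp only [map_add, hx, hy]

variable [Module.Flat k A] [Module.FinitePresentation k M]

omit [Coalgebra k A] in
theorem sep1 (x y : A ⊗[k] D) (h : ∀ m : M, evL m x = evL m y) : x = y := by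
  apply (TensorProduct.comm k A D).injective
  apply (dualTensorHom_bijective_of_finitePresentation_of_flat k M A).1
  ext m
  rw [← evL_eq_dualTensorHom, ← evL_eq_dualTensorHom, h]

omit [Coalgebra k A] in
theorem sep2 (x y : A ⊗[k] (A ⊗[k] D))
    (h : ∀ m : M, (evL (A := A) m).lTensor A x = (evL (A := A) m).lTensor A y) : x = y := by
  have key : ∀ (x : A ⊗[k] (A ⊗[k] D)) (m : M),
      dualTensorHom k M (A ⊗[k] A) (TensorProduct.comm k (A ⊗[k] A) D
        ((TensorProduct.assoc k A A D).symm x)) m = (evL (A := A) m).lTensor A x := by
    intro x m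
    induction x using TensorProduct.induction_on with
    | zero => simp
    | tmul a y' =>
      induction y' using TensorProduct.induction_on with
      | zero => simp
      | tmul b φ => simp [TensorProduct.tmul_smul]
      | add x y hx hy => simp only [TensorProduct.tmul_add, map_add, hx, hy, LinearMap.add_apply]
    | add x y hx hy => simp only [map_add, hx, hy, LinearMap.add_apply]
  apply (TensorProduct.assoc k A A D).symm.injective
  apply (TensorProduct.comm k (A ⊗[k] A) D).injective
  apply (dualTensorHom_bijective_of_finitePresentation_of_flat k M (A ⊗[k] A)).1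
  ext m : 1
  rw [key, key, h]

/-- Existence of the left dual comodule structure. -/
theorem exists_lcomod_isLDual (c : HopfRep.Comod k A M) :
    ∃ l : ComodSub.LComod k A (Module.Dual k M), ComodSub.LComod.IsLDual c l := by
  let E := LinearEquiv.ofBijective (dualTensorHom k M A)
    (dualTensorHom_bijective_of_finitePresentation_of_flat k M A)
  let Lf : D →ₗ[k] (M →ₗ[k] A) :=
    { toFun := fun g => ComodSub.ldualFun c g
      map_add' := by
        intro g₁ g₂
        ext m
        simp [ComodSub.ldualFun_apply, LinearMap.rTensor_add]
      map_smul' := by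
        intro r g₁
        ext m
        simp [ComodSub.ldualFun_apply, LinearMap.rTensor_smul] }
  let coact : D →ₗ[k] A ⊗[k] D :=
    (TensorProduct.comm k D A).toLinearMap ∘ₗ E.symm.toLinearMap ∘ₗ Lf
  have hcomm : ∀ g, TensorProduct.comm k A D (coact g) = E.symm (ComodSub.ldualFun c g) := by
    intro g
    simp [coact, Lf]
  have hdt : ∀ g, dualTensorHom k M A (TensorProduct.comm k A D (coact g)) =
      ComodSub.ldualFun c g := by
    intro g
    rw [hcomm]
    exact E.apply_symm_apply _
  have hev : ∀ g m, evL m (coact g) = ComodSub.ldualFun c g m := by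
    intro g m
    rw [evL_eq_dualTensorHom, hdt]
  refine ⟨{ coact := coact, coassoc := ?_, counit_comp := ?_ }, hdt⟩
  · apply LinearMap.ext
    intro g
    apply sep2
    intro m
    simp only [LinearMap.comp_apply, LinearEquiv.coe_coe]
    rw [L2, hev, ← LinearMap.comp_apply, ← LinearMap.lTensor_comp]
    have h1 : (evL m) ∘ₗ coact = FF (c.coact m) := by
      apply LinearMap.ext
      intro g'
      simp [hev, ComodSub.ldualFun_apply]
    have h2 : beta (coact g) = ComodSub.ldualFun c g := by
      apply LinearMap.ext
      intro m'
      simp [hev]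
    rw [h1, L3, h2]
    have hco := LinearMap.congr_fun c.coassoc m
    simp only [LinearMap.comp_apply, LinearEquiv.coe_coe] at hco
    rw [ComodSub.ldualFun_apply, L6, ← hco, ← L1]
    unfold ComodSub.ldualFun
    rw [LinearMap.rTensor_comp, LinearMap.rTensor_comp]
    rfl
  · apply LinearMap.ext
    intro g
    apply (TensorProduct.lid k D).injective
    apply LinearMap.ext
    intro m
    simp only [LinearMap.comp_apply]
    rw [L4, hev, ComodSub.ldualFun_apply, L5]
    have hcu := LinearMap.congr_fun c.counit_comp m
    simp only [LinearMap.comp_apply] at hcu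
    rw [hcu]
    simp

end

end Groth.Agent.Lib.Helper84.LDual
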