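import Groth.Prelude.Def_ComodTens
import Groth.Prelude.Def_ComodDual
import Groth.Prelude.Def_Hoch
import Groth.Agent.Lib.Helper84.LDual

/-!
Invariants of `B ⊗ M^*` are the comodule maps `M → B` (helper84).
-/

set_option autoImplicit false
universe u v w w'
open TensorProduct

namespace Groth.Agent.Lib.Helper84.ComodHomDual

open Groth.Agent.Lib.Helper84.LDual

section
variable {k : Type u} [CommRing k] {A : Type v} [CommRing A] [HopfAlgebra k A]
  {B : Type w} [AddCommGroup B] [Module k B] {M : Type w'} [AddCommGroup M] [Module k M]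

local notation "D" => Module.Dual k M
local notation "𝑺" => (HopfAlgebraStruct.antipode (R := k) (A := A))
local notation "Δ" => (CoalgebraStruct.comul (R := k) (A := A))
local notation "ε" => (CoalgebraStruct.counit (R := k) (A := A))

/-- Right multiplication on the `A`-factor of `B ⊗ A`. -/
noncomputable def Rm : (B ⊗[k] A) →ₗ[k] A →ₗ[k] (B ⊗[k] A) :=
  TensorProduct.curry ((LinearMap.lTensor B (LinearMap.mul' k A)) ∘ₗ
    (TensorProduct.assoc k B A A).toLinearMap)

@[simp] theorem Rm_tmul (b : B) (a u : A) :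
    Rm (k := k) (b ⊗ₜ[k] a) u = b ⊗ₜ[k] (a * u) := by
  simp [Rm]

theorem Rm_Rm (y : B ⊗[k] A) (u u' : A) : Rm (k := k) (Rm (k := k) y u) u' = Rm y (u * u') := by
  induction y using TensorProduct.induction_on with
  | zero => simp
  | tmul b a => simp [mul_assoc]
  | add x y hx hy => simp only [map_add, LinearMap.add_apply, hx, hy]

theorem Rm_one (y : B ⊗[k] A) : Rm (k := k) y 1 = y := by
  induction y using TensorProduct.induction_on with
  | zero => simp
  | tmul b a => simp
  | add x y hx hy => simp only [map_add, LinearMap.add_apply, hx, hy]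

/-- `m' ⊗ a ↦ ρ_B(h m') · (1 ⊗ S a)`. -/
noncomputable def GG (cB : HopfRep.Comod k A B) (h : M →ₗ[k] B) : M ⊗[k] A →ₗ[k] B ⊗[k] A :=
  TensorProduct.lift (((Rm (k := k) (A := A) (B := B)).compl₂ 𝑺) ∘ₗ (cB.coact ∘ₗ h))

@[simp] theorem GG_tmul (cB : HopfRep.Comod k A B) (h : M →ₗ[k] B) (m' : M) (a : A) :
    GG cB h (m' ⊗ₜ[k] a) = Rm (cB.coact (h m')) (𝑺 a) := by
  simp [GG]

theorem GG_add (cB : HopfRep.Comod k A B) (h h' : M →ₗ[k] B) :
    GG cB (h + h') = GG cB h + GG cB h' := by
  ext m' a
  simp

theorem GG_zero (cB : HopfRep.Comod k A B) : GG cB (0 : M →ₗ[k] B) = 0 := by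
  ext m' a
  simp

/-- The reading map `B ⊗ M^* → Hom(M, B)`. -/
noncomputable def Theta : B ⊗[k] D →ₗ[k] (M →ₗ[k] B) :=
  dualTensorHom k M B ∘ₗ (TensorProduct.comm k B D).toLinearMap

@[simp] theorem Theta_tmul (b : B) (φ : D) (m : M) : Theta (b ⊗ₜ[k] φ) m = φ m • b := by
  simp [Theta]

theorem Theta_apply (x : B ⊗[k] D) (m : M) : Theta x m = evL m x := by
  rw [evL_eq_dualTensorHom]; rfl

theorem K1 (m : M) (y : B ⊗[k] A) (w : D ⊗[k] A) :
    (evL (A := B) m).rTensor A (TensorProduct.map LinearMap.id (LinearMap.mul' k A)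
      (AlgebraTensorModule.tensorTensorTensorComm k k k k B A D A (y ⊗ₜ[k] w))) =
    Rm y (dualTensorHom k M A w m) := by
  induction y using TensorProduct.induction_on with
  | zero => simp
  | tmul b a =>
    induction w using TensorProduct.induction_on with
    | zero => simp
    | tmul φ a' => simp [TensorProduct.smul_tmul']
    | add x y hx hy => simp only [TensorProduct.tmul_add, map_add, hx, hy, LinearMap.add_apply]
  | add x y hx hy => simp only [TensorProduct.add_tmul, map_add, hx, hy, LinearMap.add_apply]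

theorem K2 (cB : HopfRep.Comod k A B) (b : B) (φ : D) (z : M ⊗[k] A) :
    GG cB (Theta (b ⊗ₜ[k] φ)) z =
      Rm (cB.coact b) (TensorProduct.lid k A (TensorProduct.map φ 𝑺 z)) := by
  induction z using TensorProduct.induction_on with
  | zero => simp
  | tmul m' a => simp
  | add x y hx hy => simp only [map_add, hx, hy]

theorem K (cB : HopfRep.Comod k A B) (cM : HopfRep.Comod k A M)
    (d : HopfRep.Comod k A D) (hd : ComodTens.Comod.IsDual cM d) (x : B ⊗[k] D) (m : M) :
    (evL (A := B) m).rTensor A ((ComodTens.Comod.tensor cB d).coact x) =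
      GG cB (Theta x) (cM.coact m) := by
  induction x using TensorProduct.induction_on with
  | zero => simp [GG_zero]
  | tmul b φ =>
    rw [ComodTens.tensor_coact_tmul, K1, hd φ, K2, ComodTens.dualCoactFun_apply]
  | add x y hx hy =>
    rw [map_add, map_add, hx, hy, map_add, GG_add, LinearMap.add_apply]

end

section
variable {k : Type u} [CommRing k] {A : Type v} [CommRing A] [HopfAlgebra k A]
  {B : Type w} [AddCommGroup B] [Module k B] {M : Type w'} [AddCommGroup M] [Module k M]

local notation "D" => Module.Dual k M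
local notation "𝑺" => (HopfAlgebraStruct.antipode (R := k) (A := A))
local notation "Δ" => (CoalgebraStruct.comul (R := k) (A := A))
local notation "ε" => (CoalgebraStruct.counit (R := k) (A := A))

/-- `m' ⊗ (a ⊗ a') ↦ h m' ⊗ a * S a'`. -/
noncomputable def PP (h : M →ₗ[k] B) : M ⊗[k] (A ⊗[k] A) →ₗ[k] B ⊗[k] A :=
  TensorProduct.map h (LinearMap.mul' k A ∘ₗ LinearMap.lTensor A 𝑺)

theorem PP_sub (h : M →ₗ[k] B) (y : M ⊗[k] A) (a : A) :
    Rm ((h.rTensor A) y) (𝑺 a) = PP h (TensorProduct.assoc k M A A (y ⊗ₜ[k] a)) := by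
  induction y using TensorProduct.induction_on with
  | zero => simp
  | tmul m'' a'' => simp [PP]
  | add x y hx hy => simp only [TensorProduct.add_tmul, map_add, hx, hy, LinearMap.add_apply]

theorem PP_comul (h : M →ₗ[k] B) (z : M ⊗[k] A) :
    PP h ((LinearMap.lTensor M Δ) z) =
      (h.rTensor A) ((LinearMap.lTensor M (Algebra.linearMap k A ∘ₗ ε)) z) := by
  induction z using TensorProduct.induction_on with
  | zero => simp
  | tmul m' a =>
    simp only [PP, LinearMap.lTensor_tmul, TensorProduct.map_tmul, LinearMap.comp_apply,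
      LinearMap.rTensor_tmul, Algebra.linearMap_apply]
    rw [HopfAlgebra.mul_antipode_lTensor_comul_apply]
  | add x y hx hy => simp only [map_add, hx, hy]

/-- A comodule map satisfies the invariance identity. -/
theorem F_of_C (cB : HopfRep.Comod k A B) (cM : HopfRep.Comod k A M) (h : M →ₗ[k] B)
    (hC : ∀ m, cB.coact (h m) = (h.rTensor A) (cM.coact m)) (m : M) :
    GG cB h (cM.coact m) = h m ⊗ₜ[k] (1 : A) := by
  have step1 : ∀ z : M ⊗[k] A, GG cB h z =
      PP h (TensorProduct.assoc k M A A ((cM.coact.rTensor A) z)) := by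
    intro z
    induction z using TensorProduct.induction_on with
    | zero => simp
    | tmul m' a => rw [GG_tmul, hC, PP_sub, LinearMap.rTensor_tmul]
    | add x y hx hy => simp only [map_add, hx, hy]
  have hco := LinearMap.congr_fun cM.coassoc m
  simp only [LinearMap.comp_apply, LinearEquiv.coe_coe] at hco
  have hcu := LinearMap.congr_fun cM.counit_comp m
  simp only [LinearMap.comp_apply] at hcu
  rw [step1, hco, PP_comul, LinearMap.lTensor_comp, LinearMap.comp_apply, hcu]
  simp

/-- `m' ⊗ (a ⊗ a') ↦ ρ_B(h m') · (1 ⊗ S a * a')`. -/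
noncomputable def QQ (cB : HopfRep.Comod k A B) (h : M →ₗ[k] B) :
    M ⊗[k] (A ⊗[k] A) →ₗ[k] B ⊗[k] A :=
  TensorProduct.lift (((Rm (k := k) (A := A) (B := B)).compl₂
    (LinearMap.mul' k A ∘ₗ LinearMap.rTensor A 𝑺)) ∘ₗ (cB.coact ∘ₗ h))

theorem QQ_tmul (cB : HopfRep.Comod k A B) (h : M →ₗ[k] B) (m' : M) (w : A ⊗[k] A) :
    QQ cB h (m' ⊗ₜ[k] w) =
      Rm (cB.coact (h m')) (LinearMap.mul' k A ((LinearMap.rTensor A 𝑺) w)) := by
  simp [QQ]

theorem QQ_sub (cB : HopfRep.Comod k A B) (h : M →ₗ[k] B) (y : M ⊗[k] A) (a' : A) :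
    QQ cB h (TensorProduct.assoc k M A A (y ⊗ₜ[k] a')) = Rm (GG cB h y) a' := by
  induction y using TensorProduct.induction_on with
  | zero => simp
  | tmul m'' a => simp [QQ_tmul, Rm_Rm]
  | add x y hx hy => simp only [TensorProduct.add_tmul, map_add, hx, hy, LinearMap.add_apply]

theorem Rm_algebraMap (y : B ⊗[k] A) (r : k) : Rm y (algebraMap k A r) = r • y := by
  rw [Algebra.algebraMap_eq_smul_one, map_smul, Rm_one]

theorem QQ_comul (cB : HopfRep.Comod k A B) (h : M →ₗ[k] B) (z : M ⊗[k] A) :
    QQ cB h ((LinearMap.lTensor M Δ) z) =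
      cB.coact (h (TensorProduct.rid k M ((LinearMap.lTensor M ε) z))) := by
  induction z using TensorProduct.induction_on with
  | zero => simp
  | tmul m' a =>
    simp only [LinearMap.lTensor_tmul, QQ_tmul, TensorProduct.rid_tmul, map_smul]
    rw [HopfAlgebra.mul_antipode_rTensor_comul_apply, Rm_algebraMap]
  | add x y hx hy => simp only [map_add, hx, hy]

/-- The invariance identity implies that `h` is a comodule map. -/
theorem C_of_F (cB : HopfRep.Comod k A B) (cM : HopfRep.Comod k A M) (h : M →ₗ[k] B)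
    (hF : ∀ m, GG cB h (cM.coact m) = h m ⊗ₜ[k] (1 : A)) (m : M) :
    cB.coact (h m) = (h.rTensor A) (cM.coact m) := by
  have step1 : ∀ z : M ⊗[k] A, (h.rTensor A) z =
      QQ cB h (TensorProduct.assoc k M A A ((cM.coact.rTensor A) z)) := by
    intro z
    induction z using TensorProduct.induction_on with
    | zero => simp
    | tmul m' a' =>
      rw [LinearMap.rTensor_tmul, LinearMap.rTensor_tmul, QQ_sub, hF]
      simp
    | add x y hx hy => simp only [map_add, hx, hy]
  have hco := LinearMap.congr_fun cM.coassoc m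
  simp only [LinearMap.comp_apply, LinearEquiv.coe_coe] at hco
  have hcu := LinearMap.congr_fun cM.counit_comp m
  simp only [LinearMap.comp_apply] at hcu
  rw [step1, hco, QQ_comul, hcu]
  simp

end

section
variable {k : Type u} [CommRing k] {A : Type v} [CommRing A] [HopfAlgebra k A]
  {B : Type w} [AddCommGroup B] [Module k B] {M : Type w'} [AddCommGroup M] [Module k M]

local notation "D" => Module.Dual k M

theorem sep3 [Module.Flat k A] [Module.Flat k B] [Module.FinitePresentation k M]
    (X Y : (B ⊗[k] D) ⊗[k] A)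
    (h : ∀ m : M, (evL (A := B) m).rTensor A X = (evL (A := B) m).rTensor A Y) : X = Y := by
  have key : ∀ (X : (B ⊗[k] D) ⊗[k] A) (m : M),
      dualTensorHom k M (B ⊗[k] A) (TensorProduct.assoc k D B A
        ((LinearEquiv.rTensor A (TensorProduct.comm k B D)) X)) m =
        (evL (A := B) m).rTensor A X := by
    intro X m
    induction X using TensorProduct.induction_on with
    | zero => simp
    | tmul y a =>
      induction y using TensorProduct.induction_on with
      | zero => simp
      | tmul b φ => simp [TensorProduct.smul_tmul']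
      | add x y hx hy => simp only [TensorProduct.add_tmul, map_add, hx, hy, LinearMap.add_apply]
    | add x y hx hy => simp only [map_add, hx, hy, LinearMap.add_apply]
  apply (LinearEquiv.rTensor A (TensorProduct.comm k B D)).injective
  apply (TensorProduct.assoc k D B A).injective
  apply (dualTensorHom_bijective_of_finitePresentation_of_flat k M (B ⊗[k] A)).1
  ext m : 1
  rw [key, key, h]

theorem evL_rTensor_tmul_one (x : B ⊗[k] D) (m : M) :
    (evL (A := B) m).rTensor A (x ⊗ₜ[k] (1 : A)) = Theta x m ⊗ₜ[k] (1 : A) := by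
  rw [LinearMap.rTensor_tmul, Theta_apply]

/-- An element of `B ⊗ M^*` is invariant iff the corresponding map `M → B` is a comodule map. -/
theorem mem_fixedPts_iff [Module.Flat k A] [Module.Flat k B] [Module.FinitePresentation k M]
    (cB : HopfRep.Comod k A B) (cM : HopfRep.Comod k A M)
    (d : HopfRep.Comod k A D) (hd : ComodTens.Comod.IsDual cM d) (x : B ⊗[k] D) :
    x ∈ (@HopfRep.fixedPts k A _ _ _ (B ⊗[k] D) _ _ (ComodTens.Comod.tensor cB d)) ↔
      @Hoch.IsComodHom k _ A _ _ _ M _ _ cM B _ _ cB (Theta x) := by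
  have h1 : x ∈ (@HopfRep.fixedPts k A _ _ _ (B ⊗[k] D) _ _ (ComodTens.Comod.tensor cB d)) ↔
      (ComodTens.Comod.tensor cB d).coact x = x ⊗ₜ[k] (1 : A) := Iff.rfl
  have h2 : @Hoch.IsComodHom k _ A _ _ _ M _ _ cM B _ _ cB (Theta x) ↔
      ∀ m, cB.coact (Theta x m) = ((Theta x).rTensor A) (cM.coact m) := by
    unfold Hoch.IsComodHom
    constructor
    · intro h m
      exact LinearMap.congr_fun h m
    · intro h
      apply LinearMap.ext
      intro m
      exact h m
  rw [h1, h2]
  constructor
  · intro hx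
    apply C_of_F cB cM
    intro m
    rw [← K cB cM d hd, hx, evL_rTensor_tmul_one]
  · intro hC
    apply sep3
    intro m
    rw [K cB cM d hd, evL_rTensor_tmul_one]
    exact F_of_C cB cM _ hC m

/-- The bijection between invariants of `B ⊗ M^*` and comodule maps `M → B`. -/
theorem bijOn [Module.Flat k A] [Module.Flat k B] [Module.FinitePresentation k M]
    (cB : HopfRep.Comod k A B) (cM : HopfRep.Comod k A M)
    (d : HopfRep.Comod k A D) (hd : ComodTens.Comod.IsDual cM d) :
    Set.BijOn (fun x : B ⊗[k] D => dualTensorHom k M B (TensorProduct.comm k B D x))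
      ((@HopfRep.fixedPts k A _ _ _ (B ⊗[k] D) _ _ (ComodTens.Comod.tensor cB d)) :
        Set (B ⊗[k] D))
      {h : M →ₗ[k] B | @Hoch.IsComodHom k _ A _ _ _ M _ _ cM B _ _ cB h} := by
  have hbij : Function.Bijective (Theta (k := k) (B := B) (M := M)) := by
    unfold Theta
    rw [LinearMap.coe_comp]
    exact (dualTensorHom_bijective_of_finitePresentation_of_flat k M B).comp
      (TensorProduct.comm k B D).bijective
  refine ⟨?_, ?_, ?_⟩
  · intro x hx
    exact (mem_fixedPts_iff cB cM d hd x).mp hx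
  · intro x _ y _ hxy
    exact hbij.1 hxy
  · intro h hh
    obtain ⟨x, rfl⟩ := hbij.2 h
    exact ⟨x, (mem_fixedPts_iff cB cM d hd x).mpr hh, rfl⟩

end

end Groth.Agent.Lib.Helper84.ComodHomDual
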