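import Mathlib.RingTheory.HopfAlgebra.Convolution
import Mathlib.RingTheory.Bialgebra.TensorProduct

/-!
The antipode of a commutative Hopf algebra is anti-comultiplicative:
`Δ (S a) = (S ⊗ S) (τ (Δ a))`  (helper84).
-/

set_option autoImplicit false
universe u v
open TensorProduct WithConv

namespace Groth.Agent.Lib.Helper84

section
variable {k : Type u} {A : Type v} [CommRing k] [CommRing A] [HopfAlgebra k A]

theorem comul_eq_incl_mul_incl :
    toConv (Bialgebra.comulAlgHom k A) =
      toConv (Algebra.TensorProduct.includeLeft : A →ₐ[k] A ⊗[k] A) *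
        toConv (Algebra.TensorProduct.includeRight : A →ₐ[k] A ⊗[k] A) := by
  apply WithConv.ofConv_injective
  ext a
  rw [AlgHom.convMul_apply]
  rw [Algebra.TensorProduct.lift_includeLeft_includeRight]
  simp

/-- The antipode is anti-comultiplicative. -/
theorem comul_antipode (a : A) :
    Coalgebra.comul (R := k) (HopfAlgebra.antipode k a) =
      TensorProduct.map (HopfAlgebra.antipode k) (HopfAlgebra.antipode k)
        (TensorProduct.comm k A A (Coalgebra.comul (R := k) a)) := by
  have h1 : (toConv (Bialgebra.comulAlgHom k A))⁻¹ =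
      (toConv (Algebra.TensorProduct.includeRight : A →ₐ[k] A ⊗[k] A))⁻¹ *
        (toConv (Algebra.TensorProduct.includeLeft : A →ₐ[k] A ⊗[k] A))⁻¹ := by
    rw [comul_eq_incl_mul_incl]
    exact mul_inv_rev (G := WithConv (A →ₐ[k] A ⊗[k] A)) _ _
  have h2 : (toConv (Bialgebra.comulAlgHom k A))⁻¹.ofConv a =
      ((toConv (Algebra.TensorProduct.includeRight : A →ₐ[k] A ⊗[k] A))⁻¹ *
        (toConv (Algebra.TensorProduct.includeLeft : A →ₐ[k] A ⊗[k] A))⁻¹).ofConv a := by
    rw [h1]
  rw [AlgHom.convMul_apply] at h2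
  have h3 : ∀ f : WithConv (A →ₐ[k] A ⊗[k] A),
      f⁻¹ = toConv (f.ofConv.comp (HopfAlgebra.antipodeAlgHom k A)) := fun f => rfl
  rw [h3, h3, h3] at h2
  simp only [ofConv_toConv, AlgHom.comp_apply] at h2
  have h4 : ∀ x : A ⊗[k] A,
      (Algebra.TensorProduct.lift
        ((Algebra.TensorProduct.includeRight : A →ₐ[k] A ⊗[k] A).comp (HopfAlgebra.antipodeAlgHom k A))
        ((Algebra.TensorProduct.includeLeft : A →ₐ[k] A ⊗[k] A).comp (HopfAlgebra.antipodeAlgHom k A))
        (fun _ _ => .all ..)) x =
      TensorProduct.map (HopfAlgebra.antipode k) (HopfAlgebra.antipode k)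
        (TensorProduct.comm k A A x) := by
    intro x
    induction x using TensorProduct.induction_on with
    | zero => simp
    | tmul x y =>
      simp [Algebra.TensorProduct.tmul_mul_tmul]
    | add x y hx hy => simp only [map_add, hx, hy]
  rw [h4] at h2
  exact h2

end

end Groth.Agent.Lib.Helper84
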