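import Mathlib
import Groth.Agent.Lib.Helper86.HopfInv
import Groth.Agent.Lib.Helper68.HopfIdealBC

set_option autoImplicit false
set_option linter.style.haveILetI false
set_option linter.unusedSectionVars false
open TensorProduct WithConv
open Groth.Agent.Lib.Helper86.HopfInv
universe u v w

namespace Groth.Agent.Lib.Helper84.HopfFFInf

section General

variable {R : Type u} [CommRing R] {M : Type v} [AddCommGroup M] [Module R M]
  {P : Type w} [AddCommGroup P] [Module R P]

/-- a surjection onto a projective module which is injective modulo a nilpotent ideal is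
injective. -/
theorem injective_of_surjective_of_nilpotent [Module.Projective R P]
    (𝔞 : Ideal R) (N : ℕ) (h𝔞 : 𝔞 ^ N = ⊥) (Ψ : M →ₗ[R] P) (hsurj : Function.Surjective Ψ)
    (hmod : ∀ m, Ψ m ∈ 𝔞 • (⊤ : Submodule R P) → m ∈ 𝔞 • (⊤ : Submodule R M)) :
    Function.Injective Ψ := by
  obtain ⟨s, hs⟩ := Module.projective_lifting_property Ψ LinearMap.id hsurj
  let ρ : M →ₗ[R] M := LinearMap.id - s ∘ₗ Ψ
  have hρK : ∀ m, ρ m ∈ LinearMap.ker Ψ := by
    intro m
    rw [LinearMap.mem_ker]
    have := LinearMap.congr_fun hs (Ψ m)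
    simp only [LinearMap.comp_apply, LinearMap.id_apply] at this
    simp [ρ, this]
  have hρid : ∀ m ∈ LinearMap.ker Ψ, ρ m = m := by
    intro m hm
    rw [LinearMap.mem_ker] at hm
    simp [ρ, hm]
  have hK1 : LinearMap.ker Ψ ≤ 𝔞 • LinearMap.ker Ψ := by
    intro m hm
    have h1 : m ∈ 𝔞 • (⊤ : Submodule R M) := hmod m (by
      rw [(LinearMap.mem_ker).1 hm]; exact zero_mem _)
    have h2 : ρ m ∈ Submodule.map ρ (𝔞 • (⊤ : Submodule R M)) := Submodule.mem_map_of_mem h1
    rw [Submodule.map_smul'', hρid m hm] at h2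
    refine Submodule.smul_mono le_rfl ?_ h2
    rintro _ ⟨m', -, rfl⟩
    exact hρK m'
  have hKn : ∀ n : ℕ, LinearMap.ker Ψ ≤ 𝔞 ^ n • LinearMap.ker Ψ := by
    intro n
    induction n with
    | zero => simp
    | succ n ih =>
      calc LinearMap.ker Ψ ≤ 𝔞 ^ n • LinearMap.ker Ψ := ih
        _ ≤ 𝔞 ^ n • (𝔞 • LinearMap.ker Ψ) := Submodule.smul_mono le_rfl hK1
        _ = 𝔞 ^ (n + 1) • LinearMap.ker Ψ := by rw [← mul_smul, pow_succ]
  have hK0 : LinearMap.ker Ψ = ⊥ := by
    rw [eq_bot_iff]
    calc LinearMap.ker Ψ ≤ 𝔞 ^ N • LinearMap.ker Ψ := hKn N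
      _ = ⊥ := by rw [h𝔞, Submodule.bot_smul]
  exact LinearMap.ker_eq_bot.1 hK0

end General

section KerTensor

variable {k : Type u} [Field k] {A : Type v} [CommRing A] [Algebra k A] (I : Ideal A)
  (V : Type w) [AddCommGroup V] [Module k V]

/-- the kernel of `A ⊗ V → (A ⧸ I) ⊗ V` is `I • ⊤`. -/
theorem rTensor_mk_eq_zero_iff (m : A ⊗[k] V) :
    ((Ideal.Quotient.mkₐ k I).toLinearMap.rTensor V) m = 0 ↔
      m ∈ I • (⊤ : Submodule A (A ⊗[k] V)) := by
  constructor
  · intro hm
    have hex : Function.Exact ((I.restrictScalars k).subtype.rTensor V)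
        ((Ideal.Quotient.mkₐ k I).toLinearMap.rTensor V) := by
      apply rTensor_exact V
      · intro a
        constructor
        · intro ha
          have : a ∈ I := Ideal.Quotient.eq_zero_iff_mem.1 ha
          exact ⟨⟨a, this⟩, rfl⟩
        · rintro ⟨⟨a', ha'⟩, rfl⟩
          exact Ideal.Quotient.eq_zero_iff_mem.2 ha'
      · exact Ideal.Quotient.mkₐ_surjective k I
    obtain ⟨z, rfl⟩ := (hex m).1 hm
    clear hm
    induction z using TensorProduct.induction_on with
    | zero => simp
    | tmul i v =>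
      rw [LinearMap.rTensor_tmul]
      have : (I.restrictScalars k).subtype i ⊗ₜ[k] v = (i : A) • ((1 : A) ⊗ₜ[k] v) := by
        rw [TensorProduct.smul_tmul', smul_eq_mul, mul_one]; rfl
      rw [this]
      exact Submodule.smul_mem_smul i.2 trivial
    | add a b ha hb => rw [map_add]; exact Submodule.add_mem _ ha hb
  · intro hm
    refine Submodule.smul_induction_on hm ?_ ?_
    · intro i hi m' hm'
      clear hm'
      induction m' using TensorProduct.induction_on with
      | zero => simp
      | tmul a v =>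
        rw [TensorProduct.smul_tmul', LinearMap.rTensor_tmul, smul_eq_mul]
        have : (Ideal.Quotient.mkₐ k I).toLinearMap (i * a) = 0 :=
          Ideal.Quotient.eq_zero_iff_mem.2 (I.mul_mem_right a hi)
        rw [this, TensorProduct.zero_tmul]
      | add a b ha hb => rw [smul_add, map_add, ha, hb, add_zero]
    · intro a b ha hb
      rw [map_add, ha, hb, add_zero]

end KerTensor

section Antipode

open Coalgebra Bialgebra HopfAlgebra

variable {k : Type u} [CommRing k] {A : Type v} [CommRing A] [HopfAlgebra k A]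
  {B : Type w} [CommRing B] [HopfAlgebra k B]

/-- bialgebra maps between commutative Hopf algebras commute with the antipode. -/
theorem bialgHom_antipode (f : B →ₐc[k] A) (b : B) :
    f (antipode k b) = antipode k (f b) := by
  have h1 : toConv ((antipodeAlgHom k A).comp (f : B →ₐ[k] A)) * toConv (f : B →ₐ[k] A) = 1 := by
    have h := AlgHom.convMul_comp_bialgHom_distrib (toConv (antipodeAlgHom k A))
      (toConv (AlgHom.id k A)) f
    rw [AlgHom.antipode_id_cancel] at h
    apply WithConv.ofConv_injective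
    simp only [AlgHom.id_comp] at h
    rw [← h]
    ext x
    simp
  have h3 : toConv ((antipodeAlgHom k A).comp (f : B →ₐ[k] A)) = (toConv (f : B →ₐ[k] A))⁻¹ :=
    eq_inv_of_mul_eq_one_left h1
  have h2 : (toConv (f : B →ₐ[k] A))⁻¹ = toConv ((f : B →ₐ[k] A).comp (antipodeAlgHom k B)) := rfl
  rw [h2] at h3
  have h4 := congrArg (fun g => g.ofConv b) h3
  simp only [AlgHom.comp_apply] at h4
  exact h4.symm

end Antipode

section Main

open Coalgebra Bialgebra HopfAlgebra

variable {k : Type u} [Field k] {A : Type v} [CommRing A] [HopfAlgebra k A]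
  {B : Type w} [CommRing B] [HopfAlgebra k B] [Algebra B A] [IsScalarTower k B A]
  (f : B →ₐc[k] A) (hfa : ∀ b, algebraMap B A b = f b)

variable (k B) in
/-- the augmentation ideal. -/
noncomputable abbrev augIdeal : Ideal B := RingHom.ker (counitAlgHom k B)

variable (k B A) in
/-- the ideal `B⁺A`. -/
noncomputable abbrev augMap : Ideal A := Ideal.map (algebraMap B A) (augIdeal k B)

include hfa in
theorem sub_counit_mem (b : B) : f b - algebraMap k A (counit b) ∈ augMap k A B := by
  have h1 : b - algebraMap k B (counit b) ∈ augIdeal k B := by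
    rw [RingHom.mem_ker, map_sub, AlgHom.commutes]
    simp
  have h2 := Ideal.mem_map_of_mem (algebraMap B A) h1
  rw [map_sub, hfa, ← IsScalarTower.algebraMap_apply] at h2
  exact h2

include hfa in
theorem mk_f (b : B) : Ideal.Quotient.mk (augMap k A B) (f b) =
    algebraMap k (A ⧸ augMap k A B) (counit b) := by
  have h := sub_counit_mem f hfa b
  rw [← Ideal.Quotient.eq] at h
  rw [h]
  rfl

include hfa in
/-- `(f ⊗ π f) ∘ Δ = f ⊗ 1`. -/
theorem map_f_mkf (J : Ideal A) (hJ : augMap k A B ≤ J) (b : B) :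
    Algebra.TensorProduct.map (f : B →ₐ[k] A) ((Ideal.Quotient.mkₐ k J).comp (f : B →ₐ[k] A))
      (comul (R := k) b) = f b ⊗ₜ[k] (1 : A ⧸ J) := by
  have hmk : ∀ b : B, Ideal.Quotient.mk J (f b) = algebraMap k (A ⧸ J) (counit b) := by
    intro b
    have h := hJ (sub_counit_mem f hfa b)
    rw [← Ideal.Quotient.eq] at h
    rw [h]
    rfl
  have h1 : (Algebra.TensorProduct.map (f : B →ₐ[k] A)
      ((Ideal.Quotient.mkₐ k J).comp (f : B →ₐ[k] A))).toLinearMap =
      (TensorProduct.map (f : B →ₐ[k] A).toLinearMap (Algebra.linearMap k (A ⧸ J))) ∘ₗ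
        (counit (R := k) (A := B)).lTensor B := by
    ext x y
    simp [hmk]
  have h2 := LinearMap.congr_fun h1 (comul (R := k) b)
  rw [LinearMap.comp_apply, Coalgebra.lTensor_counit_comul] at h2
  rw [AlgHom.toLinearMap_apply] at h2
  rw [h2]
  simp

include hfa in
theorem isHopfIdeal_augMap : (augMap k A B).IsHopfIdeal k := by
  refine Groth.Agent.Lib.Helper68.HopfIdealBC.isHopfIdeal_span
    (s := (algebraMap B A) '' (augIdeal k B : Set B)) rfl ?_ ?_ ?_
  · rintro _ ⟨b, hb, rfl⟩
    rw [hfa]
    have : counit (R := k) (f b) = counit (R := k) b := CoalgHomClass.counit_comp_apply f b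
    rw [this]
    exact hb
  · rintro _ ⟨b, hb, rfl⟩
    rw [hfa]
    have hb' : counit (R := k) b = 0 := hb
    unfold Groth.Agent.Lib.Helper68.HopfIdealBC.comulMk
    rw [AlgHom.comp_apply, comulAlgHom_apply]
    have h1 : comul (R := k) (f b) = TensorProduct.map (f : B →ₗ[k] A) (f : B →ₗ[k] A)
        (comul (R := k) b) := (CoalgHomClass.map_comp_comul_apply f b).symm
    rw [h1]
    have h2 : ∀ z : B ⊗[k] B, Algebra.TensorProduct.map (Ideal.Quotient.mkₐ k (augMap k A B))
        (Ideal.Quotient.mkₐ k (augMap k A B))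
        (TensorProduct.map (f : B →ₗ[k] A) (f : B →ₗ[k] A) z) =
        Algebra.TensorProduct.map (Ideal.Quotient.mkₐ k (augMap k A B))
          (AlgHom.id k _)
          (Algebra.TensorProduct.map (f : B →ₐ[k] A)
          ((Ideal.Quotient.mkₐ k (augMap k A B)).comp (f : B →ₐ[k] A)) z) := by
      intro z
      induction z using TensorProduct.induction_on with
      | zero => simp
      | tmul x y => simp
      | add x y hx hy => simp only [map_add, hx, hy]
    rw [h2, map_f_mkf f hfa _ le_rfl]
    simp only [Algebra.TensorProduct.map_tmul, Ideal.Quotient.mkₐ_eq_mk, AlgHom.id_apply]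
    rw [mk_f f hfa, hb', map_zero, TensorProduct.zero_tmul]
  · rintro _ ⟨b, hb, rfl⟩
    rw [hfa, ← bialgHom_antipode, ← hfa]
    apply Ideal.mem_map_of_mem
    rw [RingHom.mem_ker]
    change counit (R := k) (antipode k b) = 0
    rw [HopfAlgebra.counit_antipode]
    exact hb

/-- the algebra map `D = (id ⊗ π) ∘ Δ : A → A ⊗ A/J`. -/
noncomputable def dmap (J : Ideal A) : A →ₐ[k] A ⊗[k] (A ⧸ J) :=
  (Algebra.TensorProduct.map (AlgHom.id k A) (Ideal.Quotient.mkₐ k J)).comp (comulAlgHom k A)

include hfa in
theorem dmap_f (J : Ideal A) (hJ : augMap k A B ≤ J) (b : B) :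
    dmap (k := k) J (f b) = f b ⊗ₜ[k] (1 : A ⧸ J) := by
  unfold dmap
  rw [AlgHom.comp_apply, comulAlgHom_apply]
  have h1 : comul (R := k) (f b) = TensorProduct.map (f : B →ₗ[k] A) (f : B →ₗ[k] A)
      (comul (R := k) b) := (CoalgHomClass.map_comp_comul_apply f b).symm
  rw [h1, ← map_f_mkf f hfa J hJ]
  generalize comul (R := k) b = z
  induction z using TensorProduct.induction_on with
  | zero => simp
  | tmul x y => simp
  | add x y hx hy => simp only [map_add, hx, hy]

/-- `G = (id ⊗ π) ∘ shear : A ⊗ A → A ⊗ A/J`. -/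
noncomputable def gmap (J : Ideal A) : A ⊗[k] A →ₗ[A] A ⊗[k] (A ⧸ J) :=
  ((Ideal.Quotient.mkₐ k J).toLinearMap.baseChange A) ∘ₗ
    (gshear k A A (AlgHom.id k A)).toLinearMap

theorem gmap_tmul (J : Ideal A) (a x : A) :
    gmap (k := k) J (a ⊗ₜ[k] x) = (a ⊗ₜ[k] (1 : A ⧸ J)) * dmap (k := k) J x := by
  unfold gmap dmap
  rw [LinearMap.comp_apply, AlgHom.toLinearMap_apply, gshear_tmul]
  have h : ∀ z : A ⊗[k] A, ((Ideal.Quotient.mkₐ k J).toLinearMap.baseChange A) z =
      Algebra.TensorProduct.map (AlgHom.id k A) (Ideal.Quotient.mkₐ k J) z := by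
    intro z
    induction z using TensorProduct.induction_on with
    | zero => simp
    | tmul x y => simp
    | add x y hx hy => simp only [map_add, hx, hy]
  rw [h, map_mul]
  simp

theorem gmap_surjective (J : Ideal A) : Function.Surjective (gmap (k := k) J) := by
  unfold gmap
  rw [LinearMap.coe_comp]
  refine Function.Surjective.comp ?_ ?_
  · have : Function.Surjective (Ideal.Quotient.mkₐ k J).toLinearMap :=
      Ideal.Quotient.mkₐ_surjective k J
    intro y
    induction y using TensorProduct.induction_on with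
    | zero => exact ⟨0, map_zero _⟩
    | tmul a q =>
      obtain ⟨x, rfl⟩ := this q
      exact ⟨a ⊗ₜ x, by simp⟩
    | add y z hy hz =>
      obtain ⟨y', rfl⟩ := hy
      obtain ⟨z', rfl⟩ := hz
      exact ⟨y' + z', map_add _ _ _⟩
  · exact (gshearEquiv k A A (AlgHom.id k A)).surjective

include hfa in
/-- **Freeness over an infinitesimal Hopf subalgebra.** If the augmentation ideal of `B` is
nilpotent and `f : B → A` is an injective map of commutative Hopf algebras over a field, then
`A` is a free `B`-module. -/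
theorem free_of_nilpotent (hf : Function.Injective f) (N : ℕ) (hN : (augIdeal k B) ^ N = ⊥) :
    Module.Free B A := by
  classical
  have hsmul : ∀ (b : B) (a : A), b • a = f b * a := by
    intro b a
    rw [Algebra.smul_def, hfa]
  set 𝔫 : Ideal B := augIdeal k B with h𝔫
  set I : Ideal A := augMap k A B with hI
  haveI : I.IsHopfIdeal k := isHopfIdeal_augMap f hfa
  let π : A →ₐ[k] A ⧸ I := Ideal.Quotient.mkₐ k I
  obtain ⟨Q', hQ'⟩ := Submodule.exists_isCompl (I.restrictScalars k)
  let ι' : Q' →ₗ[k] A := Q'.subtype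
  let φ : B ⊗[k] Q' →ₗ[B] A := LinearMap.liftBaseChange B ι'
  have hφ : ∀ (b : B) (q : Q'), φ (b ⊗ₜ q) = f b * (q : A) := by
    intro b q
    rw [LinearMap.liftBaseChange_tmul, hsmul]
    rfl
  -- `I ^ N = ⊥`
  have hIN : I ^ N = ⊥ := by
    rw [hI, augMap, ← Ideal.map_pow, hN, Ideal.map_bot]
  -- surjectivity of `φ`
  have hsurj : Function.Surjective φ := by
    rw [← LinearMap.range_eq_top]
    set P := LinearMap.range φ with hP
    have h1 : (⊤ : Submodule B A) ≤ P ⊔ 𝔫 • (⊤ : Submodule B A) := by
      intro a _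
      have ha : a ∈ (I.restrictScalars k) ⊔ Q' := by rw [hQ'.sup_eq_top]; trivial
      obtain ⟨i, hi, q, hq, rfl⟩ := Submodule.mem_sup.1 ha
      refine Submodule.add_mem _ (Submodule.mem_sup_right ?_) (Submodule.mem_sup_left ?_)
      · rw [Ideal.smul_top_eq_map]
        exact hi
      · refine ⟨(1 : B) ⊗ₜ[k] (⟨q, hq⟩ : Q'), ?_⟩
        rw [hφ, map_one, one_mul]
    have hn : ∀ n : ℕ, (⊤ : Submodule B A) ≤ P ⊔ 𝔫 ^ n • (⊤ : Submodule B A) := by
      intro n
      induction n with
      | zero =>
        rw [pow_zero, Ideal.one_eq_top, Submodule.top_smul]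
        exact le_sup_right
      | succ n ih =>
        calc (⊤ : Submodule B A) ≤ P ⊔ 𝔫 ^ n • (⊤ : Submodule B A) := ih
          _ ≤ P ⊔ 𝔫 ^ n • (P ⊔ 𝔫 • (⊤ : Submodule B A)) :=
              sup_le_sup_left (Submodule.smul_mono le_rfl h1) _
          _ ≤ P ⊔ 𝔫 ^ (n + 1) • (⊤ : Submodule B A) := by
              rw [Submodule.smul_sup, ← mul_smul, ← pow_succ]
              refine sup_le le_sup_left (sup_le ?_ le_sup_right)
              exact le_trans Submodule.smul_le_right le_sup_left
    have := hn N
    rw [hN, Submodule.bot_smul, sup_bot_eq] at this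
    exact top_le_iff.1 this
  -- the map `Ψ`
  let Ψ : A ⊗[k] Q' →ₗ[A] A ⊗[k] (A ⧸ I) := gmap (k := k) I ∘ₗ ι'.baseChange A
  have hΨ : ∀ (a : A) (q : Q'), Ψ (a ⊗ₜ q) = (a ⊗ₜ[k] (1 : A ⧸ I)) * dmap (k := k) I (q : A) := by
    intro a q
    change gmap (k := k) I (ι'.baseChange A (a ⊗ₜ q)) = _
    rw [LinearMap.baseChange_tmul, gmap_tmul]
    rfl
  -- key identity 1
  have hK1 : ∀ (a : A) (b : B) (q : Q'),
      gmap (k := k) I (a ⊗ₜ[k] (f b * (q : A))) = Ψ ((a * f b) ⊗ₜ q) := by
    intro a b q
    rw [hΨ, gmap_tmul, map_mul, dmap_f f hfa I le_rfl, ← mul_assoc,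
      Algebra.TensorProduct.tmul_mul_tmul, mul_one]
  -- surjectivity of `Ψ`
  have hΨsurj : Function.Surjective Ψ := by
    have hG : ∀ x : A ⊗[k] A, gmap (k := k) I x ∈ LinearMap.range Ψ := by
      intro x
      induction x using TensorProduct.induction_on with
      | zero => rw [map_zero]; exact zero_mem _
      | tmul a a' =>
        obtain ⟨z, rfl⟩ := hsurj a'
        induction z using TensorProduct.induction_on with
        | zero => simp
        | tmul b q =>
          rw [hφ, hK1]
          exact ⟨_, rfl⟩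
        | add z w hz hw =>
          rw [map_add, TensorProduct.tmul_add, map_add]
          exact Submodule.add_mem _ hz hw
      | add x y hx hy =>
        rw [map_add]
        exact Submodule.add_mem _ hx hy
    intro y
    obtain ⟨x, rfl⟩ := gmap_surjective (k := k) I y
    exact hG x
  -- injectivity of `Ψ`
  have hΨinj : Function.Injective Ψ := by
    refine injective_of_surjective_of_nilpotent I N hIN Ψ hΨsurj ?_
    intro m hm
    rw [← rTensor_mk_eq_zero_iff] at hm ⊢
    -- key identity 3
    let πq : Q' →ₗ[k] A ⧸ I := π.toLinearMap ∘ₗ ι'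
    have hπq : Function.Injective πq := by
      rw [← LinearMap.ker_eq_bot, eq_bot_iff]
      intro q hq
      rw [LinearMap.mem_ker] at hq
      have h1 : (q : A) ∈ I := Ideal.Quotient.eq_zero_iff_mem.1 hq
      have h2 : (q : A) ∈ (I.restrictScalars k) ⊓ Q' := ⟨h1, q.2⟩
      rw [hQ'.inf_eq_bot] at h2
      have h3 : (q : A) = 0 := h2
      exact Subtype.ext h3
    have hK3 : ∀ m : A ⊗[k] Q', (π.toLinearMap.rTensor (A ⧸ I)) (Ψ m) =
        gshear k (A ⧸ I) (A ⧸ I) (AlgHom.id k _)
          (πq.lTensor (A ⧸ I) (π.toLinearMap.rTensor Q' m)) := by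
      intro m
      induction m using TensorProduct.induction_on with
      | zero => simp
      | tmul a q =>
        rw [hΨ, LinearMap.rTensor_tmul, LinearMap.lTensor_tmul, gshear_tmul]
        have h : ∀ z : A ⊗[k] (A ⧸ I), (π.toLinearMap.rTensor (A ⧸ I)) z =
            Algebra.TensorProduct.map π (AlgHom.id k (A ⧸ I)) z := by
          intro z
          induction z using TensorProduct.induction_on with
          | zero => simp
          | tmul x y => simp
          | add x y hx hy => simp only [map_add, hx, hy]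
        rw [h, map_mul]
        congr 1
        unfold dmap
        rw [AlgHom.comp_apply, comulAlgHom_apply]
        have hc : comul (R := k) (πq q) = TensorProduct.map π.toLinearMap π.toLinearMap
            (comul (R := k) (q : A)) := Bialgebra.Quotient.comul_mk I (q : A)
        rw [hc]
        generalize comul (R := k) (q : A) = z
        induction z using TensorProduct.induction_on with
        | zero => simp
        | tmul x y => simp [π]
        | add x y hx hy => simp only [map_add, hx, hy]
      | add x y hx hy => simp only [map_add, hx, hy]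
    rw [hK3] at hm
    have h1 := (gshearEquiv k (A ⧸ I) (A ⧸ I) (AlgHom.id k _)).injective
      (hm.trans (map_zero _).symm)
    have h2 : Function.Injective (πq.lTensor (A ⧸ I)) :=
      Module.Flat.lTensor_preserves_injective_linearMap _ hπq
    exact h2 (h1.trans (map_zero _).symm)
  -- injectivity of `φ`
  have hinj : Function.Injective φ := by
    let F : B ⊗[k] Q' →ₗ[k] A ⊗[k] Q' := (f : B →ₗ[k] A).rTensor Q'
    have hF : Function.Injective F :=
      Module.Flat.rTensor_preserves_injective_linearMap _ hf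
    have hK2 : ∀ z : B ⊗[k] Q', Ψ (F z) = dmap (k := k) I (φ z) := by
      intro z
      induction z using TensorProduct.induction_on with
      | zero => simp
      | tmul b q =>
        rw [hφ, map_mul, dmap_f f hfa I le_rfl]
        change Ψ (f b ⊗ₜ q) = _
        rw [hΨ]
      | add x y hx hy => simp only [map_add, hx, hy]
    rw [← LinearMap.ker_eq_bot, eq_bot_iff]
    intro z hz
    rw [LinearMap.mem_ker] at hz
    have h1 : Ψ (F z) = 0 := by rw [hK2, hz, map_zero]
    have h2 : F z = 0 := hΨinj (h1.trans (map_zero _).symm)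
    exact hF (h2.trans (map_zero _).symm)
  exact Module.Free.of_equiv (LinearEquiv.ofBijective φ ⟨hinj, hsurj⟩)

end Main

end Groth.Agent.Lib.Helper84.HopfFFInf
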