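import Mathlib
import Groth.Prelude.Def_HopfRep
import Groth.Prelude.Def_CoactBr2

/-!
# Base change of comodules: fixed points (helper84)

For `k → K` flat, a bialgebra `A` over `k` and an `A`-comodule `V`, the fixed points of the
base-changed comodule `K ⊗ V` (structure `CoactBr.Comod.baseChange k K A V`) are the base change of
the fixed points of `V`.
-/

set_option autoImplicit false

namespace Groth.Agent.Lib.Helper84.ComodBC

open TensorProduct HopfRep

universe u₁ u₂ u₃ u₄

section Theta

variable (k : Type u₁) (K : Type u₂) [CommRing k] [CommRing K] [Algebra k K]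
variable (A : Type u₃) [AddCommGroup A] [Module k A] [Coalgebra k A]
variable (V : Type u₄) [AddCommGroup V] [Module k V] [HopfRep.Comod k A V]

/-- the canonical iso `K ⊗ (V ⊗ A) ≃ (K ⊗ V) ⊗[K] (K ⊗ A)`, written so that the base-changed coaction
is `theta ∘ (K ⊗ ρ)` by `rfl`-ish unfolding. -/
noncomputable def theta : K ⊗[k] (V ⊗[k] A) ≃ₗ[K] (K ⊗[k] V) ⊗[K] (K ⊗[k] A) :=
  (AlgebraTensorModule.congr (TensorProduct.lid K K).symm (LinearEquiv.refl k (V ⊗[k] A))) ≪≫ₗ
    (AlgebraTensorModule.tensorTensorTensorComm k K k K K K V A)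

lemma theta_tmul_tmul (s : K) (v : V) (a : A) :
    theta k K A V (s ⊗ₜ[k] (v ⊗ₜ[k] a)) = ((1 : K) ⊗ₜ[k] v) ⊗ₜ[K] (s ⊗ₜ[k] a) := by
  simp [theta]

lemma baseChange_coact_eq (x : K ⊗[k] V) :
    (CoactBr.Comod.baseChange k K A V).coact x
      = theta k K A V ((HopfRep.Comod.coact (k := k) (A := A) (V := V)).baseChange K x) := by
  induction x using TensorProduct.induction_on with
  | zero => simp
  | tmul s v =>
    rw [CoactBr.baseChange_coact_tmul, LinearMap.baseChange_tmul]
    generalize HopfRep.Comod.coact (k := k) (A := A) v = y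
    induction y using TensorProduct.induction_on with
    | zero => simp
    | tmul v' a =>
      rw [theta_tmul_tmul]
      simp
    | add a b ha hb =>
      rw [TensorProduct.tmul_add, map_add, ha, hb, TensorProduct.tmul_add, map_add]
  | add a b ha hb =>
    rw [map_add, map_add, map_add, ha, hb]

end Theta

section Fixed

variable (k : Type u₁) (K : Type u₂) [CommRing k] [CommRing K] [Algebra k K]
variable (A : Type u₃) [Ring A] [Bialgebra k A]
variable (V : Type u₄) [AddCommGroup V] [Module k V] [HopfRep.Comod k A V]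

lemma tmul_one_eq (x : K ⊗[k] V) :
    x ⊗ₜ[K] (1 : K ⊗[k] A)
      = theta k K A V (((TensorProduct.mk k V A).flip 1).baseChange K x) := by
  induction x using TensorProduct.induction_on with
  | zero => simp
  | tmul s v =>
    rw [LinearMap.baseChange_tmul, LinearMap.flip_apply, TensorProduct.mk_apply, theta_tmul_tmul]
    rw [Algebra.TensorProduct.one_def]
    have : s ⊗ₜ[k] v = s • ((1 : K) ⊗ₜ[k] v) := by rw [TensorProduct.smul_tmul', smul_eq_mul, mul_one]
    rw [this, TensorProduct.smul_tmul, TensorProduct.smul_tmul', smul_eq_mul, mul_one]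
  | add a b ha hb =>
    rw [TensorProduct.add_tmul, ha, hb, map_add, map_add]

lemma fixedPts_eq_eqLocus :
    HopfRep.fixedPts k A V
      = LinearMap.eqLocus (HopfRep.Comod.coact (k := k) (A := A) (V := V))
          ((TensorProduct.mk k V A).flip 1) := by
  ext v
  rfl

/-- **Fixed points commute with flat base change.** -/
theorem fixedPts_baseChange [Module.Flat k K] :
    @HopfRep.fixedPts K (K ⊗[k] A) _ _ _ (K ⊗[k] V) _ _ (CoactBr.Comod.baseChange k K A V)
      = (HopfRep.fixedPts k A V).baseChange K := by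
  have h := Module.Flat.eqLocus_lTensor_eq (R := k) K K
    (HopfRep.Comod.coact (k := k) (A := A) (V := V)) ((TensorProduct.mk k V A).flip 1)
  ext x
  have h1 : x ∈ @HopfRep.fixedPts K (K ⊗[k] A) _ _ _ (K ⊗[k] V) _ _
      (CoactBr.Comod.baseChange k K A V)
      ↔ (CoactBr.Comod.baseChange k K A V).coact x = x ⊗ₜ[K] (1 : K ⊗[k] A) := Iff.rfl
  rw [h1, baseChange_coact_eq, tmul_one_eq, (theta k K A V).injective.eq_iff,
    fixedPts_eq_eqLocus]
  show x ∈ LinearMap.eqLocus
      (AlgebraTensorModule.lTensor K K (HopfRep.Comod.coact (k := k) (A := A) (V := V)))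
      (AlgebraTensorModule.lTensor K K ((TensorProduct.mk k V A).flip 1)) ↔ _
  rw [h]
  rfl

end Fixed

end Groth.Agent.Lib.Helper84.ComodBC
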