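import Mathlib
import Groth.Prelude.Def_HopfRep

/-!
# The action of `R`-valued points on a base-changed comodule (helper84)

`k` a commutative ring, `A` a commutative bialgebra over `k`, `V` an `A`-comodule, `R` a commutative
`k`-algebra.  An `R`-point `g : A →ₐ[k] R` acts `R`-linearly on `R ⊗ V`:
`actR g (r ⊗ v) = r • Σ g(v₁) ⊗ v₀`.  This is a monoid action for the convolution product.
-/

set_option autoImplicit false

namespace Groth.Agent.Lib.Helper84.RPoints

open TensorProduct HopfRep WithConv

universe u v w x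

section Bialg

variable {k : Type u} [CommRing k] {A : Type v} [CommRing A] [Bialgebra k A]
variable {V : Type w} [AddCommGroup V] [Module k V] [Comod k A V]
variable {R : Type x} [CommRing R] [Algebra k R]

/-- `v ↦ Σ g(v₁) ⊗ v₀`. -/
noncomputable def tau (g : A →ₐ[k] R) : V →ₗ[k] R ⊗[k] V :=
  (TensorProduct.comm k V R).toLinearMap ∘ₗ (g.toLinearMap.lTensor V) ∘ₗ
    (Comod.coact (k := k) (A := A) (V := V))

lemma tau_apply (g : A →ₐ[k] R) (v : V) :
    tau g v = TensorProduct.comm k V R (g.toLinearMap.lTensor V (Comod.coact (k := k) (A := A) v)) :=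
  rfl

/-- the `R`-linear action of an `R`-point on `R ⊗ V`. -/
noncomputable def actR (g : A →ₐ[k] R) : R ⊗[k] V →ₗ[R] R ⊗[k] V :=
  LinearMap.liftBaseChange R (tau (V := V) g)

@[simp] lemma actR_tmul (g : A →ₐ[k] R) (r : R) (v : V) :
    actR g (r ⊗ₜ[k] v) = r • tau g v := rfl

lemma actR_one_tmul (g : A →ₐ[k] R) (v : V) : actR g ((1 : R) ⊗ₜ[k] v) = tau g v := by
  rw [actR_tmul, one_smul]

/-- `v ⊗ r ↦ r • tau g v` -/
lemma actR_comm_tmul (g : A →ₐ[k] R) (v : V) (r : R) :
    actR g (TensorProduct.comm k V R (v ⊗ₜ[k] r)) = r • tau g v := by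
  rw [TensorProduct.comm_tmul, actR_tmul]

/-- the linear map `v ⊗ (a ⊗ b) ↦ (g a * h b) ⊗ v`. -/
noncomputable def psi (g h : A →ₐ[k] R) : V ⊗[k] (A ⊗[k] A) →ₗ[k] R ⊗[k] V :=
  (TensorProduct.comm k V R).toLinearMap ∘ₗ
    (((Algebra.TensorProduct.lmul' k (S := R)).toLinearMap ∘ₗ
      (Algebra.TensorProduct.map g h).toLinearMap).lTensor V)

lemma psi_tmul (g h : A →ₐ[k] R) (v : V) (a b : A) :
    psi g h (v ⊗ₜ[k] (a ⊗ₜ[k] b)) = (g a * h b) ⊗ₜ[k] v := by
  simp [psi]

lemma tau_mul (g h : A →ₐ[k] R) (v : V) :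
    tau (ofConv (toConv g * toConv h)) v
      = psi g h ((Coalgebra.comul (R := k) (A := A)).lTensor V
          (Comod.coact (k := k) (A := A) v)) := by
  rw [tau_apply]
  generalize Comod.coact (k := k) (A := A) v = y
  induction y using TensorProduct.induction_on with
  | zero => simp
  | tmul v' a =>
    rw [LinearMap.lTensor_tmul, LinearMap.lTensor_tmul]
    simp only [psi, LinearMap.comp_apply, LinearMap.lTensor_tmul]
    rfl
  | add a b ha hb => rw [map_add, map_add, ha, hb, map_add, map_add]

lemma actR_tau (g h : A →ₐ[k] R) (v : V) :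
    actR g (tau h v)
      = psi g h (TensorProduct.assoc k V A A
          ((Comod.coact (k := k) (A := A) (V := V)).rTensor A
            (Comod.coact (k := k) (A := A) v))) := by
  rw [tau_apply]
  generalize Comod.coact (k := k) (A := A) v = y
  induction y using TensorProduct.induction_on with
  | zero => simp
  | tmul v' a =>
    rw [LinearMap.lTensor_tmul, LinearMap.rTensor_tmul, actR_comm_tmul, tau_apply]
    generalize Comod.coact (k := k) (A := A) v' = z
    induction z using TensorProduct.induction_on with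
    | zero => simp
    | tmul v'' a' =>
      rw [LinearMap.lTensor_tmul, TensorProduct.comm_tmul, TensorProduct.assoc_tmul, psi_tmul,
        TensorProduct.smul_tmul', smul_eq_mul, mul_comm]
      rfl
    | add a b ha hb =>
      rw [map_add, map_add, smul_add, ha, hb, TensorProduct.add_tmul, map_add, map_add]
  | add a b ha hb => rw [map_add, map_add, map_add, ha, hb, map_add, map_add, map_add]

/-- **The action is multiplicative** for the convolution product of points. -/
theorem actR_mul (g h : A →ₐ[k] R) :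
    actR (V := V) (ofConv (toConv g * toConv h)) = actR g ∘ₗ actR h := by
  apply (LinearMap.liftBaseChangeEquiv R).symm.injective
  ext v
  show actR _ ((1 : R) ⊗ₜ[k] v) = actR g (actR h ((1 : R) ⊗ₜ[k] v))
  rw [actR_one_tmul, actR_one_tmul, tau_mul, actR_tau]
  have := LinearMap.congr_fun (Comod.coassoc (k := k) (A := A) (V := V)) v
  simp only [LinearMap.comp_apply, LinearEquiv.coe_coe] at this
  rw [this]

lemma tau_one (v : V) : tau (ofConv (1 : WithConv (A →ₐ[k] R))) v = (1 : R) ⊗ₜ[k] v := by
  rw [tau_apply]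
  have h1 : ((ofConv (1 : WithConv (A →ₐ[k] R))).toLinearMap.lTensor V)
      = ((Algebra.linearMap k R).lTensor V) ∘ₗ
          ((Coalgebra.counit (R := k) (A := A)).lTensor V) := by
    rw [← LinearMap.lTensor_comp]
    rfl
  rw [h1, LinearMap.comp_apply]
  have := LinearMap.congr_fun (Comod.counit_comp (k := k) (A := A) (V := V)) v
  simp only [LinearMap.comp_apply] at this
  rw [this]
  simp [Algebra.algebraMap_eq_smul_one]

theorem actR_one : actR (V := V) (ofConv (1 : WithConv (A →ₐ[k] R))) = LinearMap.id := by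
  apply (LinearMap.liftBaseChangeEquiv R).symm.injective
  ext v
  show actR _ ((1 : R) ⊗ₜ[k] v) = (1 : R) ⊗ₜ[k] v
  rw [actR_one_tmul, tau_one]

/-- if `g` factors as `ḡ ∘ π` and `(id ⊗ π) ρ v = v ⊗ 1` then `g` fixes `v`. -/
lemma tau_eq_of_factor {B : Type*} [CommRing B] [Algebra k B] (π : A →ₐ[k] B) (gbar : B →ₐ[k] R)
    (v : V)
    (hv : π.toLinearMap.lTensor V (Comod.coact (k := k) (A := A) v) = v ⊗ₜ[k] (1 : B)) :
    tau (gbar.comp π) v = (1 : R) ⊗ₜ[k] v := by
  rw [tau_apply]
  have h1 : ((gbar.comp π).toLinearMap.lTensor V)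
      = (gbar.toLinearMap.lTensor V) ∘ₗ (π.toLinearMap.lTensor V) := by
    rw [← LinearMap.lTensor_comp]
    rfl
  rw [h1, LinearMap.comp_apply, hv]
  simp

end Bialg

section Hopf

variable {k : Type u} [CommRing k] {A : Type v} [CommRing A] [HopfAlgebra k A]
variable {V : Type w} [AddCommGroup V] [Module k V] [Comod k A V]
variable {R : Type x} [CommRing R] [Algebra k R]

omit [Comod k A V] in
lemma id_mul_antipodeAlgHom :
    toConv (AlgHom.id k A) * toConv (HopfAlgebra.antipodeAlgHom k A) = 1 := by
  apply WithConv.ofConv_injective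
  apply AlgHom.toLinearMap_injective
  apply WithConv.toConv_injective
  rw [AlgHom.toLinearMap_convMul, AlgHom.toLinearMap_convOne]
  simp [LinearMap.id_mul_antipode]

omit [Comod k A V] in
/-- `(g ∘ S) * g = 1` for the convolution of points. -/
lemma inv_mul_point (g : A →ₐ[k] R) :
    toConv (g.comp (HopfAlgebra.antipodeAlgHom k A)) * toConv g = 1 := by
  have h := AlgHom.comp_convMul_distrib g (toConv (HopfAlgebra.antipodeAlgHom k A))
    (toConv (AlgHom.id k A))
  rw [AlgHom.antipode_id_cancel] at h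
  apply WithConv.ofConv_injective
  simp only [ofConv_toConv, AlgHom.comp_id] at h
  rw [← h]
  ext a
  simp

omit [Comod k A V] in
/-- `g * (g ∘ S) = 1` for the convolution of points. -/
lemma mul_inv_point (g : A →ₐ[k] R) :
    toConv g * toConv (g.comp (HopfAlgebra.antipodeAlgHom k A)) = 1 := by
  have h := AlgHom.comp_convMul_distrib g (toConv (AlgHom.id k A))
    (toConv (HopfAlgebra.antipodeAlgHom k A))
  rw [id_mul_antipodeAlgHom] at h
  apply WithConv.ofConv_injective
  simp only [ofConv_toConv, AlgHom.comp_id] at h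
  rw [← h]
  ext a
  simp

theorem actR_inv_comp (g : A →ₐ[k] R) :
    actR (A := A) (V := V) (g.comp (HopfAlgebra.antipodeAlgHom k A)) ∘ₗ actR g = LinearMap.id := by
  rw [← actR_mul, ← actR_one (A := A) (V := V) (R := R), inv_mul_point]

theorem actR_comp_inv (g : A →ₐ[k] R) :
    actR (A := A) (V := V) g ∘ₗ actR (g.comp (HopfAlgebra.antipodeAlgHom k A)) = LinearMap.id := by
  rw [← actR_mul, ← actR_one (A := A) (V := V) (R := R), mul_inv_point]

end Hopf

end Groth.Agent.Lib.Helper84.RPoints
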