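import Mathlib
import Groth.Prelude.Def_HopfRep

/-!
# Smallest subcomodule containing a submodule (helper84)

Over a commutative ring `k`, for a coalgebra `C` and a `C`-comodule `V`:

* `exists_smallest_subcomod` : if `C` is projective, every submodule `M ≤ V` is contained in a smallest
  subcomodule, finitely generated when `M` is.
* `exists_fg_subcomod_of_flat` : if `k` is Noetherian and `C` flat, every f.g. submodule is contained
  in a f.g. subcomodule.
-/

set_option autoImplicit false

namespace Groth.Agent.Lib.Helper84.SmallestSubcomod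

open TensorProduct HopfRep

universe u v w

variable {k : Type u} {C : Type v} [CommRing k] [AddCommGroup C] [Module k C] [Coalgebra k C]
variable {V : Type w} [AddCommGroup V] [Module k V] [Comod k C V]

/-- slice an element of `V ⊗ C` by a functional on `C`. -/
noncomputable def slice (φ : C →ₗ[k] k) : V ⊗[k] C →ₗ[k] V :=
  (TensorProduct.rid k V).toLinearMap ∘ₗ φ.lTensor V

omit [Coalgebra k C] [Comod k C V] in
@[simp] lemma slice_tmul (φ : C →ₗ[k] k) (v : V) (c : C) : slice φ (v ⊗ₜ[k] c) = φ c • v := by
  simp [slice]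

lemma slice_counit_coact (v : V) :
    slice (Coalgebra.counit (R := k) (A := C)) (Comod.coact (k := k) (A := C) v) = v := by
  have h := LinearMap.congr_fun (Comod.counit_comp (k := k) (A := C) (V := V)) v
  simp only [LinearMap.comp_apply] at h
  show (TensorProduct.rid k V) ((Coalgebra.counit (R := k) (A := C)).lTensor V _) = v
  rw [h]
  simp

lemma slice_rTensor_subtype_mem (W : Submodule k V) (φ : C →ₗ[k] k) (z : W ⊗[k] C) :
    slice φ (W.subtype.rTensor C z) ∈ W := by
  induction z using TensorProduct.induction_on with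
  | zero => simp
  | tmul w c =>
    simp only [LinearMap.rTensor_tmul, Submodule.subtype_apply, slice_tmul]
    exact W.smul_mem _ w.2
  | add x y hx hy =>
    rw [map_add, map_add]
    exact W.add_mem hx hy

/-- convolution of two functionals. -/
noncomputable def conv (ψ φ : C →ₗ[k] k) : C →ₗ[k] k :=
  (LinearMap.mul' k k) ∘ₗ (TensorProduct.map ψ φ) ∘ₗ (Coalgebra.comul (R := k) (A := C))

lemma slice_coact_slice (φ ψ : C →ₗ[k] k) (m : V) :
    slice ψ (Comod.coact (k := k) (A := C) (slice φ (Comod.coact (k := k) (A := C) m)))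
      = slice (conv ψ φ) (Comod.coact (k := k) (A := C) m) := by
  let F : V ⊗[k] (C ⊗[k] C) →ₗ[k] V :=
    (TensorProduct.rid k V).toLinearMap ∘ₗ
      ((LinearMap.mul' k k) ∘ₗ (TensorProduct.map ψ φ)).lTensor V
  have h1 : slice (conv ψ φ) (Comod.coact (k := k) (A := C) m)
      = F ((Coalgebra.comul (R := k) (A := C)).lTensor V (Comod.coact (k := k) (A := C) m)) := by
    show (TensorProduct.rid k V) ((conv ψ φ).lTensor V _) = _
    unfold conv
    rw [← LinearMap.comp_assoc, LinearMap.lTensor_comp]
    rfl
  have h2 := LinearMap.congr_fun (Comod.coassoc (k := k) (A := C) (V := V)) m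
  simp only [LinearMap.comp_apply, LinearEquiv.coe_coe] at h2
  rw [h1, ← h2]
  -- now a statement about a general element of `V ⊗ C`
  have key : ∀ x : V ⊗[k] C,
      slice ψ (Comod.coact (k := k) (A := C) (slice φ x))
        = F ((TensorProduct.assoc k V C C)
            ((Comod.coact (k := k) (A := C) (V := V)).rTensor C x)) := by
    intro x
    induction x using TensorProduct.induction_on with
    | zero => simp
    | tmul v c =>
      rw [slice_tmul, map_smul, map_smul, LinearMap.rTensor_tmul]
      have key2 : ∀ z : V ⊗[k] C,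
          F ((TensorProduct.assoc k V C C) (z ⊗ₜ[k] c)) = φ c • slice ψ z := by
        intro z
        induction z using TensorProduct.induction_on with
        | zero => simp
        | tmul v' d =>
          simp only [TensorProduct.assoc_tmul, F, LinearMap.comp_apply, LinearMap.lTensor_tmul,
            TensorProduct.map_tmul, LinearMap.mul'_apply, LinearEquiv.coe_coe,
            TensorProduct.rid_tmul, slice_tmul]
          rw [mul_comm, mul_smul]
        | add a b ha hb =>
          rw [TensorProduct.add_tmul, map_add, map_add, ha, hb, map_add, smul_add]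
      rw [key2]
    | add a b ha hb =>
      simp only [map_add, ha, hb]
  exact key _

/-- dual basis lemma: if all slices of `x` lie in `W` and `C` is projective then `x ∈ W ⊗ C`. -/
lemma mem_range_rTensor_of_forall_slice [Module.Projective k C] (W : Submodule k V)
    (x : V ⊗[k] C) (h : ∀ ψ : C →ₗ[k] k, slice ψ x ∈ W) :
    x ∈ LinearMap.range (W.subtype.rTensor C) := by
  classical
  obtain ⟨s, hs⟩ := Module.projective_def'.1 (inferInstance : Module.Projective k C)
  let Y : V ⊗[k] C →ₗ[k] (C →₀ V) :=
    (TensorProduct.finsuppScalarRight k k V C).toLinearMap ∘ₗ s.lTensor V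
  let Z : (C →₀ V) →ₗ[k] V ⊗[k] C :=
    Finsupp.lsum k (fun c => (TensorProduct.mk k V C).flip c)
  have hY1 : ∀ (x : V ⊗[k] C) (c : C), Y x c = slice ((Finsupp.lapply c) ∘ₗ s) x := by
    intro x c
    induction x using TensorProduct.induction_on with
    | zero => simp
    | tmul v c0 =>
      simp [Y, TensorProduct.finsuppScalarRight_apply_tmul_apply]
    | add a b ha hb =>
      rw [map_add, Finsupp.add_apply, ha, hb, map_add]
  have hZY : ∀ x : V ⊗[k] C, Z (Y x) = x := by
    intro x
    induction x using TensorProduct.induction_on with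
    | zero => simp
    | tmul v c0 =>
      have e1 : Y (v ⊗ₜ[k] c0)
          = (s c0).sum fun i n => Finsupp.single i (n • v) := by
        simp only [Y, LinearMap.comp_apply, LinearMap.lTensor_tmul, LinearEquiv.coe_coe]
        exact TensorProduct.finsuppScalarRight_apply_tmul v (s c0)
      rw [e1, map_finsuppSum]
      have e2 : ∀ (i : C) (n : k), Z (Finsupp.single i (n • v)) = v ⊗ₜ[k] (n • i) := by
        intro i n
        simp only [Z, Finsupp.lsum_single, LinearMap.flip_apply, TensorProduct.mk_apply]
        rw [TensorProduct.smul_tmul]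
      simp only [e2]
      have e3 : (s c0).sum (fun i n => v ⊗ₜ[k] (n • i)) = v ⊗ₜ[k] ((s c0).sum fun i n => n • i) := by
        simp only [Finsupp.sum, TensorProduct.tmul_sum]
      rw [e3]
      have e4 : ((s c0).sum fun i n => n • i) = c0 := by
        have := LinearMap.congr_fun hs c0
        simpa [Finsupp.linearCombination_apply] using this
      rw [e4]
    | add a b ha hb =>
      rw [map_add, map_add, ha, hb]
  rw [← hZY x]
  simp only [Z, Finsupp.lsum_apply, Finsupp.sum, LinearMap.flip_apply, TensorProduct.mk_apply]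
  refine Submodule.sum_mem _ (fun c _ => ?_)
  refine ⟨(⟨Y x c, ?_⟩ : W) ⊗ₜ[k] c, by simp⟩
  rw [hY1]
  exact h _

/-- the smallest subcomodule containing `M` (projective case). -/
noncomputable def gen (M : Submodule k V) : Submodule k V :=
  ⨆ φ : C →ₗ[k] k, M.map ((slice φ) ∘ₗ (Comod.coact (k := k) (A := C) (V := V)))

lemma le_gen (M : Submodule k V) : M ≤ gen (C := C) M := by
  intro m hm
  refine Submodule.mem_iSup_of_mem (Coalgebra.counit (R := k) (A := C)) ?_
  exact ⟨m, hm, slice_counit_coact m⟩

lemma gen_le (M W' : Submodule k V) (hW' : IsSubcomod (k := k) (A := C) W') (hM : M ≤ W') :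
    gen (C := C) M ≤ W' := by
  refine iSup_le fun φ => ?_
  rintro _ ⟨m, hm, rfl⟩
  obtain ⟨z, hz⟩ := hW' m (hM hm)
  simp only [LinearMap.comp_apply]
  rw [← hz]
  exact slice_rTensor_subtype_mem W' φ z

lemma isSubcomod_gen [Module.Projective k C] (M : Submodule k V) :
    IsSubcomod (k := k) (A := C) (gen (C := C) M) := by
  intro w hw
  apply mem_range_rTensor_of_forall_slice
  intro ψ
  -- linear in `w`
  have : gen (C := C) M ≤ (gen (C := C) M).comap
      ((slice ψ) ∘ₗ (Comod.coact (k := k) (A := C) (V := V))) := by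
    refine iSup_le fun φ => ?_
    rintro _ ⟨m, hm, rfl⟩
    simp only [Submodule.mem_comap, LinearMap.comp_apply]
    rw [slice_coact_slice]
    exact Submodule.mem_iSup_of_mem (conv ψ φ) ⟨m, hm, rfl⟩
  exact this hw

lemma gen_fg [Module.Projective k C] (M : Submodule k V) (hM : M.FG) : (gen (C := C) M).FG := by
  classical
  obtain ⟨s, hs⟩ := Module.projective_def'.1 (inferInstance : Module.Projective k C)
  obtain ⟨S, rfl⟩ := hM
  -- the finitely many elements `slice (s_c) (ρ m)`
  let y : V → C →₀ V := fun m =>
    (TensorProduct.finsuppScalarRight k k V C)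
      (s.lTensor V (Comod.coact (k := k) (A := C) m))
  let T : Set V := ⋃ m ∈ S, (fun c => y m c) '' ((y m).support : Set C)
  have hT : T.Finite :=
    Set.Finite.biUnion S.finite_toSet (fun m _ => (Finset.finite_toSet _).image _)
  have hy1 : ∀ (m : V) (c : C), y m c
      = slice ((Finsupp.lapply c) ∘ₗ s) (Comod.coact (k := k) (A := C) m) := by
    intro m c
    show ((TensorProduct.finsuppScalarRight k k V C)
      (s.lTensor V (Comod.coact (k := k) (A := C) m))) c = _
    generalize Comod.coact (k := k) (A := C) m = x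
    induction x using TensorProduct.induction_on with
    | zero => simp
    | tmul v c0 => simp [TensorProduct.finsuppScalarRight_apply_tmul_apply]
    | add a b ha hb => rw [map_add, map_add, Finsupp.add_apply, ha, hb, map_add]
  have hy2 : ∀ (m : V) (φ : C →ₗ[k] k), slice φ (Comod.coact (k := k) (A := C) m)
      = (y m).sum (fun c v => φ c • v) := by
    intro m φ
    show _ = (((TensorProduct.finsuppScalarRight k k V C)
      (s.lTensor V (Comod.coact (k := k) (A := C) m)))).sum (fun c v => φ c • v)
    generalize Comod.coact (k := k) (A := C) m = x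
    induction x using TensorProduct.induction_on with
    | zero => simp
    | tmul v c0 =>
      rw [LinearMap.lTensor_tmul, TensorProduct.finsuppScalarRight_apply_tmul, slice_tmul]
      rw [Finsupp.sum_sum_index (by simp) (by intros; rw [smul_add])]
      have : ∀ (a : C) (b : k), (Finsupp.single a (b • v)).sum (fun c v => φ c • v)
          = (b * φ a) • v := by
        intro a b
        rw [Finsupp.sum_single_index (by simp), smul_smul, mul_comm]
      simp only [this]
      have e4 : c0 = (s c0).sum fun i n => n • i := by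
        have := LinearMap.congr_fun hs c0
        simpa [Finsupp.linearCombination_apply] using this.symm
      conv_lhs => rw [e4]
      rw [map_finsuppSum, Finsupp.sum, Finsupp.sum, Finset.sum_smul]
      refine Finset.sum_congr rfl (fun i _ => ?_)
      rw [map_smul, smul_eq_mul]
    | add a b ha hb =>
      rw [map_add, map_add, map_add, ha, hb]
      rw [Finsupp.sum_add_index' (by simp) (by intros; rw [smul_add])]
  refine ⟨hT.toFinset, ?_⟩
  rw [Set.Finite.coe_toFinset]
  apply le_antisymm
  · rw [Submodule.span_le]
    rintro _ hx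
    simp only [T, Set.mem_iUnion, Set.mem_image] at hx
    obtain ⟨m, hm, c, _, rfl⟩ := hx
    rw [hy1]
    exact Submodule.mem_iSup_of_mem _ ⟨m, Submodule.subset_span hm, rfl⟩
  · refine iSup_le fun φ => ?_
    rw [Submodule.map_le_iff_le_comap, Submodule.span_le]
    intro m hm
    simp only [Submodule.comap_coe, Set.mem_preimage, LinearMap.comp_apply, SetLike.mem_coe]
    rw [hy2]
    refine Submodule.sum_mem _ (fun c hc => ?_)
    refine Submodule.smul_mem _ _ (Submodule.subset_span ?_)
    simp only [T, Set.mem_iUnion, Set.mem_image]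
    exact ⟨m, hm, c, hc, rfl⟩

/-- **Smallest subcomodule**, projective coalgebra. -/
theorem exists_smallest_subcomod [Module.Projective k C] (M : Submodule k V) :
    ∃ W : Submodule k V, IsSubcomod (k := k) (A := C) W ∧ M ≤ W ∧
      (∀ W' : Submodule k V, IsSubcomod (k := k) (A := C) W' → M ≤ W' → W ≤ W') ∧
      (M.FG → W.FG) :=
  ⟨gen (C := C) M, isSubcomod_gen M, le_gen M, fun W' h1 h2 => gen_le M W' h1 h2, gen_fg M⟩

/-- **F.g. subcomodule**, flat coalgebra over a Noetherian ring. -/
theorem exists_fg_subcomod_of_flat [IsNoetherianRing k] [Module.Flat k C] (M : Submodule k V)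
    (hM : M.FG) :
    ∃ W : Submodule k V, IsSubcomod (k := k) (A := C) W ∧ M ≤ W ∧ W.FG := by
  classical
  obtain ⟨S, rfl⟩ := hM
  -- a f.g. `N` with `ρ(M) ⊆ N ⊗ C`
  have hex : ∀ m : V, ∃ T : Finset (V × C),
      Comod.coact (k := k) (A := C) m = ∑ i ∈ T, i.1 ⊗ₜ[k] i.2 :=
    fun m => TensorProduct.exists_finset _
  choose T hT using hex
  let N : Submodule k V := Submodule.span k (⋃ m ∈ S, ((T m).image Prod.fst : Set V))
  have hNfg : N.FG := by
    apply Submodule.fg_span
    exact Set.Finite.biUnion S.finite_toSet (fun m _ => Finset.finite_toSet _)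
  let R : Submodule k (V ⊗[k] C) := LinearMap.range (N.subtype.rTensor C)
  let W : Submodule k V := R.comap (Comod.coact (k := k) (A := C) (V := V))
  have hMW : Submodule.span k (S : Set V) ≤ W := by
    rw [Submodule.span_le]
    intro m hm
    show Comod.coact (k := k) (A := C) m ∈ R
    rw [hT m]
    refine Submodule.sum_mem _ (fun i hi => ?_)
    have hi1 : i.1 ∈ N := Submodule.subset_span (by
      simp only [Set.mem_iUnion]
      exact ⟨m, hm, by simpa using ⟨i.2, hi⟩⟩)
    exact ⟨(⟨i.1, hi1⟩ : N) ⊗ₜ[k] i.2, by simp⟩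
  have hWN : W ≤ N := by
    intro w hw
    obtain ⟨z, hz⟩ := hw
    rw [← slice_counit_coact (k := k) (C := C) w, ← hz]
    exact slice_rTensor_subtype_mem N _ z
  refine ⟨W, ?_, hMW, Submodule.FG.of_le hNfg hWN⟩
  -- `W` is a subcomodule
  intro w hw
  let ρbar : V →ₗ[k] (V ⊗[k] C) ⧸ R := R.mkQ ∘ₗ (Comod.coact (k := k) (A := C) (V := V))
  have hex : Function.Exact W.subtype ρbar := by
    intro v
    constructor
    · intro hv
      have : v ∈ W := by
        show Comod.coact (k := k) (A := C) v ∈ R
        exact (Submodule.Quotient.mk_eq_zero R).1 hv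
      exact ⟨⟨v, this⟩, rfl⟩
    · rintro ⟨v', rfl⟩
      exact (Submodule.Quotient.mk_eq_zero R).2 v'.2
  have hex2 := Module.Flat.rTensor_exact C hex
  refine LinearMap.mem_range.2 ((hex2 _).1 ?_)
  -- compute `(ρbar ⊗ id)(ρ w)`
  have e1 : ρbar.rTensor C = (R.mkQ.rTensor C) ∘ₗ
      ((Comod.coact (k := k) (A := C) (V := V)).rTensor C) := by
    rw [← LinearMap.rTensor_comp]
  rw [e1, LinearMap.comp_apply]
  have h2 := LinearMap.congr_fun (Comod.coassoc (k := k) (A := C) (V := V)) w
  simp only [LinearMap.comp_apply, LinearEquiv.coe_coe] at h2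
  have h3 : (Comod.coact (k := k) (A := C) (V := V)).rTensor C (Comod.coact (k := k) (A := C) w)
      = (TensorProduct.assoc k V C C).symm
        ((Coalgebra.comul (R := k) (A := C)).lTensor V (Comod.coact (k := k) (A := C) w)) := by
    rw [← h2, LinearEquiv.symm_apply_apply]
  rw [h3]
  obtain ⟨z, hz⟩ := hw
  rw [← hz]
  -- general statement on `N ⊗ C`
  let G : V ⊗[k] (C ⊗[k] C) →ₗ[k] ((V ⊗[k] C) ⧸ R) ⊗[k] C :=
    (R.mkQ.rTensor C) ∘ₗ (TensorProduct.assoc k V C C).symm.toLinearMap
  have hG : ∀ (n : N) (t : C ⊗[k] C), G ((n : V) ⊗ₜ[k] t) = 0 := by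
    intro n t
    induction t using TensorProduct.induction_on with
    | zero => simp
    | tmul c1 c2 =>
      simp only [G, LinearMap.comp_apply, LinearEquiv.coe_coe, TensorProduct.assoc_symm_tmul,
        LinearMap.rTensor_tmul, Submodule.mkQ_apply]
      have : (Submodule.Quotient.mk ((n : V) ⊗ₜ[k] c1) : (V ⊗[k] C) ⧸ R) = 0 :=
        (Submodule.Quotient.mk_eq_zero R).2 ⟨n ⊗ₜ[k] c1, by simp⟩
      rw [this, TensorProduct.zero_tmul]
    | add a b ha hb =>
      rw [TensorProduct.tmul_add, map_add, ha, hb, add_zero]
  show G ((Coalgebra.comul (R := k) (A := C)).lTensor V (N.subtype.rTensor C z)) = 0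
  clear hz
  induction z using TensorProduct.induction_on with
  | zero => simp
  | tmul n c =>
    simp only [LinearMap.rTensor_tmul, Submodule.subtype_apply, LinearMap.lTensor_tmul]
    exact hG n _
  | add a b ha hb =>
    rw [map_add, map_add, map_add, ha, hb, add_zero]

end Groth.Agent.Lib.Helper84.SmallestSubcomod
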