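import Groth.Prelude.Def_HopfRep
import Groth.Agent.H40.Comod
import Groth.Agent.H40.ComodQuot
import Groth.Agent.H40.Burnside
import Groth.Agent.Lib.Helper93.Comod
import Groth.Agent.Lib.Helper59.OrbitClosure

/-!
# Unipotent groups and unipotent points (helper84)

For a reduced finitely generated commutative Hopf algebra `A` over an algebraically closed field:
`A` is unipotent (fixed-vector form) iff every rational point acts unipotently on every
finite-dimensional comodule.
-/

set_option autoImplicit false
universe u v w

open TensorProduct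

namespace Groth.Agent.Lib.Helper84.UnipPts

open Groth.Agent.Lib.Helper93.Comod

section Points

variable {k : Type u} [Field k] {A : Type v} [CommRing A] [Bialgebra k A]
  {V : Type w} [AddCommGroup V] [Module k V] [HopfRep.Comod k A V]

/-- The convolution product of two rational points. -/
noncomputable def convPt (g h : A →ₐ[k] k) : A →ₐ[k] k :=
  (Algebra.TensorProduct.lmul' k (S := k)).comp
    ((Algebra.TensorProduct.map g h).comp (Bialgebra.comulAlgHom k A))

theorem convPt_toLinearMap (g h : A →ₐ[k] k) :
    (convPt g h).toLinearMap = Groth.Agent.H40.convFun g.toLinearMap h.toLinearMap := by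
  ext a
  rfl

theorem act_eq_dualAct (g : A →ₐ[k] k) :
    HopfRep.Comod.act k A V g = dualAct A V g.toLinearMap := rfl

theorem act_act (g h : A →ₐ[k] k) (v : V) :
    HopfRep.Comod.act k A V g (HopfRep.Comod.act k A V h v) =
      HopfRep.Comod.act k A V (convPt g h) v := by
  rw [act_eq_dualAct, act_eq_dualAct, act_eq_dualAct, convPt_toLinearMap]
  exact Groth.Agent.H40.slice_coact_coactSlice (C := A) g.toLinearMap h.toLinearMap v

theorem act_counit (v : V) :
    HopfRep.Comod.act k A V (Bialgebra.counitAlgHom k A) v = v :=
  Groth.Agent.H40.coactSlice_counit (C := A) v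

/-- The monoid of operators given by the rational points. -/
noncomputable def actMonoid : Submonoid (Module.End k V) where
  carrier := {T | ∃ g : A →ₐ[k] k, T = HopfRep.Comod.act k A V g}
  one_mem' := ⟨Bialgebra.counitAlgHom k A, by
    apply LinearMap.ext
    intro v
    rw [act_counit]
    rfl⟩
  mul_mem' := by
    rintro _ _ ⟨g, rfl⟩ ⟨h, rfl⟩
    refine ⟨convPt g h, ?_⟩
    apply LinearMap.ext
    intro v
    rw [Module.End.mul_apply, act_act]

theorem act_of_mem_fixedPts (g : A →ₐ[k] k) {v : V} (hv : v ∈ HopfRep.fixedPts k A V) :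
    HopfRep.Comod.act k A V g v = v := by
  have h : HopfRep.Comod.coact (k := k) (A := A) v = v ⊗ₜ[k] (1 : A) := hv
  show (TensorProduct.rid k V) (g.toLinearMap.lTensor V (HopfRep.Comod.coact (k := k) (A := A) v)) = v
  rw [h]
  simp

theorem isSubcomod_fixedPts : HopfRep.IsSubcomod (k := k) (A := A) (HopfRep.fixedPts k A V) := by
  intro w hw
  have h : HopfRep.Comod.coact (k := k) (A := A) w = w ⊗ₜ[k] (1 : A) := hw
  refine ⟨(⟨w, hw⟩ : HopfRep.fixedPts k A V) ⊗ₜ[k] (1 : A), ?_⟩
  rw [h]
  simp

end Points

section Reduced

variable {k : Type u} [Field k] [IsAlgClosed k] {A : Type v} [CommRing A] [Bialgebra k A]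
  [Algebra.FiniteType k A] [IsReduced A]
  {V : Type w} [AddCommGroup V] [Module k V] [HopfRep.Comod k A V]

omit [IsAlgClosed k] [Bialgebra k A] [Algebra.FiniteType k A] [IsReduced A]
  [HopfRep.Comod k A V] in
theorem lid_rTensor_apply [Algebra k A] (lam : V →ₗ[k] k) (φ : A →ₗ[k] k) (t : V ⊗[k] A) :
    φ (TensorProduct.lid k A (lam.rTensor A t)) = lam (TensorProduct.rid k V (φ.lTensor V t)) := by
  induction t using TensorProduct.induction_on with
  | zero => simp
  | tmul x c => simp [mul_comm]
  | add y z hy hz => simp only [map_add, hy, hz]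

/-- A vector fixed by all rational points is a fixed vector of the comodule. -/
theorem mem_fixedPts_of_forall_act (v : V)
    (hv : ∀ g : A →ₐ[k] k, HopfRep.Comod.act k A V g v = v) : v ∈ HopfRep.fixedPts k A V := by
  show HopfRep.Comod.coact (k := k) (A := A) v = v ⊗ₜ[k] (1 : A)
  rw [← sub_eq_zero]
  set t : V ⊗[k] A := HopfRep.Comod.coact (k := k) (A := A) v - v ⊗ₜ[k] (1 : A) with ht
  apply eq_zero_of_forall_lTensor_eq_zero
  intro φ
  rw [← Module.forall_dual_apply_eq_zero_iff k]
  intro lam
  rw [← lid_rTensor_apply]
  -- the element `a = (λ ⊗ id) t` is killed by all points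
  have ha : TensorProduct.lid k A (lam.rTensor A t) = 0 := by
    have hnil := Groth.Agent.Lib.Helper59.LinRed.isNilpotent_of_forall_algHom_eq_zero k A
      (TensorProduct.lid k A (lam.rTensor A t)) (by
        intro g
        have h1 := lid_rTensor_apply lam g.toLinearMap t
        have h2 : g (TensorProduct.lid k A (lam.rTensor A t)) =
            g.toLinearMap (TensorProduct.lid k A (lam.rTensor A t)) := rfl
        rw [h2, h1, ht, map_sub, map_sub, map_sub]
        have h3 : (TensorProduct.rid k V) (g.toLinearMap.lTensor V
            (HopfRep.Comod.coact (k := k) (A := A) v)) = v := hv g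
        rw [h3]
        simp)
    exact hnil.eq_zero
  rw [ha, map_zero]

end Reduced

section Unipotent

variable {k : Type u} [Field k] {A : Type v} [CommRing A] [Bialgebra k A]

/-- In a unipotent group, every rational point acts unipotently. -/
theorem isNilpotent_act_sub_id (hU : HopfRep.IsUnipotent k A) (g : A →ₐ[k] k) :
    ∀ (n : ℕ) (V : Type v) [AddCommGroup V] [Module k V] [HopfRep.Comod k A V]
      [Module.Finite k V], Module.finrank k V = n →
      IsNilpotent (HopfRep.Comod.act k A V g - LinearMap.id) := by
  intro n
  induction n using Nat.strong_induction_on with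
  | _ n ih =>
    intro V _ _ _ _ hn
    rcases subsingleton_or_nontrivial V with hs | hnt
    · refine ⟨1, ?_⟩
      apply LinearMap.ext
      intro v
      exact Subsingleton.elim _ _
    · have hW0 : HopfRep.fixedPts k A V ≠ ⊥ := hU V inferInstance hnt
      set W := HopfRep.fixedPts k A V with hWdef
      have hW : HopfRep.IsSubcomod (k := k) (A := A) W := isSubcomod_fixedPts
      letI cQ : HopfRep.Comod k A (V ⧸ W) := Groth.Agent.H40.quotComod W hW
      have hlt : Module.finrank k (V ⧸ W) < n := by
        have h1 := Submodule.finrank_quotient_add_finrank W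
        have h2 : 0 < Module.finrank k W := by
          rw [Module.finrank_pos_iff_exists_ne_zero]
          obtain ⟨w, hw, hw0⟩ := Submodule.exists_mem_ne_zero_of_ne_bot hW0
          exact ⟨⟨w, hw⟩, fun h => hw0 (congrArg Subtype.val h)⟩
        omega
      obtain ⟨N, hN⟩ := ih _ hlt (V ⧸ W) rfl
      -- the quotient map commutes with the actions
      let T : Module.End k V := HopfRep.Comod.act k A V g - LinearMap.id
      let T' : Module.End k (V ⧸ W) := HopfRep.Comod.act k A (V ⧸ W) g - LinearMap.id
      have hN' : T' ^ N = 0 := hN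
      have hcomm : ∀ v : V, W.mkQ (T v) = T' (W.mkQ v) := by
        intro v
        have hhom : Hoch.IsComodHom A W.mkQ := Groth.Agent.H40.quotCoact_comp_mkQ W hW
        have := dualAct_comm_of_isComodHom W.mkQ hhom g.toLinearMap v
        show W.mkQ (HopfRep.Comod.act k A V g v - v) =
          HopfRep.Comod.act k A (V ⧸ W) g (W.mkQ v) - W.mkQ v
        rw [map_sub, act_eq_dualAct, act_eq_dualAct, this]
      have hpow : ∀ (m : ℕ) (v : V), W.mkQ ((T ^ m) v) = (T' ^ m) (W.mkQ v) := by
        intro m
        induction m with
        | zero => intro v; simp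
        | succ m ihm =>
          intro v
          rw [pow_succ', pow_succ', Module.End.mul_apply, Module.End.mul_apply, hcomm, ihm]
      refine ⟨N + 1, ?_⟩
      show T ^ (N + 1) = 0
      apply LinearMap.ext
      intro v
      rw [pow_succ', Module.End.mul_apply, LinearMap.zero_apply]
      have hmem : (T ^ N) v ∈ W := by
        have h1 := hpow N v
        rw [hN', LinearMap.zero_apply] at h1
        exact (Submodule.Quotient.mk_eq_zero W).1 h1
      show HopfRep.Comod.act k A V g ((T ^ N) v) - (T ^ N) v = 0
      rw [act_of_mem_fixedPts g hmem, sub_self]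

end Unipotent

section Converse

variable {k : Type u} [Field k] [IsAlgClosed k] {A : Type v} [CommRing A] [Bialgebra k A]
  [Algebra.FiniteType k A] [IsReduced A]

/-- If every rational point acts unipotently on every finite-dimensional comodule, the group is
unipotent (Kolchin). -/
theorem isUnipotent_of_forall_isNilpotent
    (h : ∀ (g : A →ₐ[k] k) (V : Type v) [AddCommGroup V] [Module k V] [HopfRep.Comod k A V],
        Module.Finite k V → IsNilpotent (HopfRep.Comod.act k A V g - LinearMap.id)) :
    HopfRep.IsUnipotent k A := by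
  intro V _ _ _ hfin hnt
  obtain ⟨v, hv0, hv⟩ := Groth.Agent.H40.kolchin (k := k) (V := V) (actMonoid (A := A)) (by
    rintro _ ⟨g, rfl⟩
    exact h g V hfin)
  have hmem : v ∈ HopfRep.fixedPts k A V :=
    mem_fixedPts_of_forall_act v (fun g => hv _ ⟨g, rfl⟩)
  intro hbot
  rw [hbot, Submodule.mem_bot] at hmem
  exact hv0 hmem

end Converse

end Groth.Agent.Lib.Helper84.UnipPts
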