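import Mathlib
import Groth.Prelude.Def_Dyn

/-!
# An ideal representing a subgroup functor is a Hopf ideal (helper84)

If an ideal `J` of a commutative Hopf algebra `A` represents a condition `P` on points
(`Dyn.Represents`), and `P` holds for the unit point, is stable under the convolution product and
under inversion (composition with the antipode), then `J` is a Hopf ideal.
-/

set_option autoImplicit false

namespace Groth.Agent.Lib.Helper84.HopfIdealSub

open TensorProduct WithConv

universe u

variable (k : Type u) [CommRing k] (A : Type u) [CommRing A] [HopfAlgebra k A]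

/-- `Dyn.conv3` is the triple product in the convolution monoid. -/
theorem conv3_eq {C : Type u} [CommRing C] [Algebra k C] (f g h : A →ₐ[k] C) :
    Dyn.conv3 k A f g h = ofConv (toConv f * toConv g * toConv h) := by
  rw [AlgHom.convMul_def, AlgHom.convMul_def]
  simp only [Dyn.conv3]
  have e := Algebra.TensorProduct.map_comp (R := k) (S := k)
    ((Algebra.TensorProduct.lmul' k (S := C)).comp (Algebra.TensorProduct.map f g)) 
    (Bialgebra.comulAlgHom k A) h (AlgHom.id k A)
  rw [AlgHom.comp_id] at e
  congr 1
  rw [← AlgHom.comp_assoc, ← e, AlgHom.comp_assoc]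

variable {k A}

theorem isHopfIdeal_of_represents (J : Ideal A)
    (P : ∀ (R : Type u) [CommRing R] [Algebra k R], (A →ₐ[k] R) → Prop)
    (hJ : Dyn.Represents k A J P)
    (h1 : P k (Bialgebra.counitAlgHom k A))
    (hmul : ∀ (R : Type u) [CommRing R] [Algebra k R] (g h : A →ₐ[k] R),
      P R g → P R h → P R (ofConv (toConv g * toConv h)))
    (hinv : ∀ (R : Type u) [CommRing R] [Algebra k R] (g : A →ₐ[k] R),
      P R g → P R (g.comp (HopfAlgebra.antipodeAlgHom k A))) :
    J.IsHopfIdeal k := by
  haveI : (J.restrictScalars k).IsCoideal := by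
    refine Submodule.IsCoideal.mk ?_ ?_
    · intro x hx
      exact (hJ k (Bialgebra.counitAlgHom k A)).2 h1 x hx
    · intro x hx
      have hmk : (Submodule.restrictScalars k J).mkQ = (Ideal.Quotient.mkₐ k J).toLinearMap := rfl
      rw [hmk]
      set π := Ideal.Quotient.mkₐ k J with hπ
      have hg1 : P ((A ⧸ J) ⊗[k] (A ⧸ J))
          ((Algebra.TensorProduct.includeLeft (R := k) (S := k) (A := A ⧸ J) (B := A ⧸ J)).comp π) := by
        refine (hJ _ _).1 ?_
        intro a ha
        rw [AlgHom.comp_apply]
        have : π a = 0 := Ideal.Quotient.eq_zero_iff_mem.2 ha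
        rw [this, map_zero]
      have hg2 : P ((A ⧸ J) ⊗[k] (A ⧸ J))
          ((Algebra.TensorProduct.includeRight (R := k) (A := A ⧸ J) (B := A ⧸ J)).comp π) := by
        refine (hJ _ _).1 ?_
        intro a ha
        rw [AlgHom.comp_apply]
        have : π a = 0 := Ideal.Quotient.eq_zero_iff_mem.2 ha
        rw [this, map_zero]
      have h12 := (hJ _ _).2 (hmul _ _ _ hg1 hg2) x hx
      rw [AlgHom.convMul_def] at h12
      simp only [ofConv_toConv, AlgHom.comp_apply] at h12
      have key : ∀ t : A ⊗[k] A,
          (Algebra.TensorProduct.lmul' k (S := (A ⧸ J) ⊗[k] (A ⧸ J)))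
            ((Algebra.TensorProduct.map
              ((Algebra.TensorProduct.includeLeft (R := k) (S := k) (A := A ⧸ J) (B := A ⧸ J)).comp π)
              ((Algebra.TensorProduct.includeRight (R := k) (A := A ⧸ J) (B := A ⧸ J)).comp π)) t)
          = TensorProduct.map π.toLinearMap π.toLinearMap t := by
        intro t
        induction t using TensorProduct.induction_on with
        | zero => simp
        | tmul a b => simp
        | add a b ha hb => rw [map_add, map_add, ha, hb, map_add]
      rw [key] at h12
      exact h12
  refine Ideal.IsHopfIdeal.mk ?_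
  intro x hx
  have hπ : P (A ⧸ J) (Ideal.Quotient.mkₐ k J) := by
    refine (hJ _ _).1 ?_
    intro a ha
    exact Ideal.Quotient.eq_zero_iff_mem.2 ha
  have := (hJ _ _).2 (hinv _ _ hπ) x hx
  rw [AlgHom.comp_apply] at this
  exact Ideal.Quotient.eq_zero_iff_mem.1 this

end Groth.Agent.Lib.Helper84.HopfIdealSub
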