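import Mathlib
import Groth.Prelude.Def_HopfRep
import Groth.Prelude.Def_Dyn
import Groth.Agent.Lib.Helper93.Comod
import Groth.Agent.Lib.Helper84.RPoints
import Groth.Agent.Lib.Helper84.HopfIdealSub

/-!
# The stabilizer of a subspace of a comodule is a closed subgroup (helper84)

`k` a field, `A` a commutative Hopf algebra, `V` a finite-dimensional comodule, `W ≤ V`.
The ideal generated by the matrix coefficients `(λ ⊗ id)(ρ w)`, `λ ∈ W^⊥`, `w ∈ W`, is a Hopf ideal
representing the stabilizer of `W`.
-/

set_option autoImplicit false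

namespace Groth.Agent.Lib.Helper84.Stabilizer

open TensorProduct HopfRep WithConv
open Groth.Agent.Lib.Helper84.RPoints

universe u v w x

section Sep

variable {k : Type u} [Field k] {M : Type v} [AddCommGroup M] [Module k M]
variable {R : Type x} [AddCommGroup R] [Module k R]

/-- linear forms on the first factor separate points of a tensor product over a field. -/
theorem eq_zero_of_forall_rTensor_eq_zero (z : M ⊗[k] R)
    (h : ∀ μ : M →ₗ[k] k, TensorProduct.lid k R (μ.rTensor R z) = 0) : z = 0 := by
  apply (TensorProduct.comm k M R).injective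
  rw [map_zero]
  apply Groth.Agent.Lib.Helper93.Comod.eq_zero_of_forall_lTensor_eq_zero
  intro φ
  rw [← h φ]
  clear h
  induction z using TensorProduct.induction_on with
  | zero => simp
  | tmul m r => simp
  | add a b ha hb => simp only [map_add, ha, hb]

end Sep

section Coeff

variable {k : Type u} [CommRing k] {A : Type v} [CommRing A] [Bialgebra k A]
variable {V : Type w} [AddCommGroup V] [Module k V] [Comod k A V]
variable {R : Type x} [CommRing R] [Algebra k R]

/-- the matrix coefficient `(λ ⊗ id)(ρ v)`. -/
noncomputable def coeff (lam : V →ₗ[k] k) (v : V) : A :=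
  TensorProduct.lid k A (lam.rTensor A (Comod.coact (k := k) (A := A) v))

omit [Comod k A V] in
lemma lid_rTensor_lTensor (lam : V →ₗ[k] k) (g : A →ₐ[k] R) (t : V ⊗[k] A) :
    TensorProduct.lid k R (lam.rTensor R (g.toLinearMap.lTensor V t))
      = g (TensorProduct.lid k A (lam.rTensor A t)) := by
  induction t using TensorProduct.induction_on with
  | zero => simp
  | tmul v a => simp
  | add a b ha hb => simp only [map_add, ha, hb]

lemma apply_coeff (lam : V →ₗ[k] k) (g : A →ₐ[k] R) (v : V) :
    g (coeff (A := A) lam v)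
      = TensorProduct.lid k R (lam.rTensor R (g.toLinearMap.lTensor V
          (Comod.coact (k := k) (A := A) v))) := by
  rw [lid_rTensor_lTensor]
  rfl

variable (A) in
/-- the ideal of the stabilizer of `W`. -/
noncomputable def stabIdeal (W : Submodule k V) : Ideal A :=
  Ideal.span {a | ∃ lam : V →ₗ[k] k, (∀ w ∈ W, lam w = 0) ∧ ∃ w ∈ W, a = coeff (A := A) lam w}

/-- the stabilizer condition on an `R`-point. -/
def StabP (W : Submodule k V) (R : Type x) [CommRing R] [Algebra k R] (g : A →ₐ[k] R) : Prop :=
  ∀ w ∈ W, g.toLinearMap.lTensor V (Comod.coact (k := k) (A := A) w) ∈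
    LinearMap.range (W.subtype.rTensor R)

omit [Comod k A V] [CommRing A] [Bialgebra k A] in
lemma comm_mem_baseChange_iff (W : Submodule k V) (x : V ⊗[k] R) :
    TensorProduct.comm k V R x ∈ W.baseChange R ↔ x ∈ LinearMap.range (W.subtype.rTensor R) := by
  have key : ∀ z : W ⊗[k] R, (W.subtype.baseChange R) (TensorProduct.comm k W R z)
      = TensorProduct.comm k V R ((W.subtype.rTensor R) z) := by
    intro z
    induction z using TensorProduct.induction_on with
    | zero => simp
    | tmul w r => simp
    | add a b ha hb => simp only [map_add, ha, hb]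
  constructor
  · rintro ⟨y, hy⟩
    refine ⟨(TensorProduct.comm k W R).symm y, ?_⟩
    apply (TensorProduct.comm k V R).injective
    rw [← key, LinearEquiv.apply_symm_apply]
    exact hy
  · rintro ⟨z, rfl⟩
    exact ⟨TensorProduct.comm k W R z, key z⟩

lemma stabP_iff_tau (W : Submodule k V) (g : A →ₐ[k] R) :
    StabP W R g ↔ ∀ w ∈ W, tau g w ∈ W.baseChange R := by
  refine forall₂_congr fun w _ => ?_
  rw [tau_apply, comm_mem_baseChange_iff]

omit [Comod k A V] [CommRing A] [Bialgebra k A] in
lemma baseChange_le_iff' (W : Submodule k V) (X : Submodule R (R ⊗[k] V)) :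
    W.baseChange R ≤ X ↔ ∀ w ∈ W, (1 : R) ⊗ₜ[k] w ∈ X := by
  rw [Submodule.baseChange_eq_span, Submodule.span_le]
  constructor
  · intro h w hw
    exact h ⟨w, hw, rfl⟩
  · rintro h _ ⟨w, hw, rfl⟩
    exact h w hw

lemma stabP_iff_map_le (W : Submodule k V) (g : A →ₐ[k] R) :
    StabP W R g ↔ (W.baseChange R).map (actR g) ≤ W.baseChange R := by
  rw [stabP_iff_tau, Submodule.map_le_iff_le_comap, baseChange_le_iff']
  refine forall₂_congr fun w _ => ?_
  rw [Submodule.mem_comap, actR_one_tmul]

lemma stabP_one (W : Submodule k V) :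
    StabP (A := A) W R (ofConv (1 : WithConv (A →ₐ[k] R))) := by
  rw [stabP_iff_map_le, actR_one, Submodule.map_id]

lemma stabP_counit (W : Submodule k V) : StabP (A := A) W k (Bialgebra.counitAlgHom k A) := by
  have := stabP_one (A := A) (R := k) W
  have e : ofConv (1 : WithConv (A →ₐ[k] k)) = Bialgebra.counitAlgHom k A := by
    ext a
    simp
  rwa [e] at this

lemma stabP_mul (W : Submodule k V) (g h : A →ₐ[k] R) (hg : StabP W R g) (hh : StabP W R h) :
    StabP W R (ofConv (toConv g * toConv h)) := by
  rw [stabP_iff_map_le] at hg hh ⊢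
  rw [actR_mul, Submodule.map_comp]
  exact le_trans (Submodule.map_mono hh) hg

end Coeff

section Inv

variable {k : Type u} [CommRing k] {A : Type v} [CommRing A] [HopfAlgebra k A]
variable {V : Type w} [AddCommGroup V] [Module k V] [Comod k A V] [Module.Finite k V]
variable {R : Type x} [CommRing R] [Algebra k R]

lemma stabP_inv (W : Submodule k V) (g : A →ₐ[k] R) (hg : StabP W R g) :
    StabP W R (g.comp (HopfAlgebra.antipodeAlgHom k A)) := by
  rw [stabP_iff_map_le] at hg ⊢
  set WR := W.baseChange R with hWR
  set T := actR (A := A) (V := V) g with hT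
  set T' := actR (A := A) (V := V) (g.comp (HopfAlgebra.antipodeAlgHom k A)) with hT'
  have h1 : ∀ x, T (T' x) = x := fun x => LinearMap.congr_fun (actR_comp_inv (V := V) g) x
  have hle : WR ≤ WR.comap T := Submodule.map_le_iff_le_comap.1 hg
  let Tbar : ((R ⊗[k] V) ⧸ WR) →ₗ[R] ((R ⊗[k] V) ⧸ WR) := WR.mapQ WR T hle
  have hsurj : Function.Surjective Tbar := by
    intro y
    obtain ⟨y, rfl⟩ := Submodule.Quotient.mk_surjective _ y
    refine ⟨Submodule.Quotient.mk (T' y), ?_⟩
    show Submodule.Quotient.mk (T (T' y)) = _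
    rw [h1]
  have hinj : Function.Injective Tbar :=
    OrzechProperty.injective_of_surjective_endomorphism Tbar hsurj
  rintro _ ⟨x, hx, rfl⟩
  have h2 : Tbar (Submodule.Quotient.mk (T' x)) = 0 := by
    show Submodule.Quotient.mk (T (T' x)) = _
    rw [h1]
    exact (Submodule.Quotient.mk_eq_zero WR).2 hx
  have h3 := hinj (h2.trans (map_zero Tbar).symm)
  exact (Submodule.Quotient.mk_eq_zero WR).1 h3

end Inv

section Rep

variable {k : Type u} [Field k] {A : Type v} [CommRing A] [Bialgebra k A]
variable {V : Type w} [AddCommGroup V] [Module k V] [Comod k A V]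
variable {R : Type x} [CommRing R] [Algebra k R]

/-- the stabilizer ideal represents the stabilizer condition. -/
theorem kills_stabIdeal_iff (W : Submodule k V) (g : A →ₐ[k] R) :
    (∀ a ∈ stabIdeal A W, g a = 0) ↔ StabP W R g := by
  constructor
  · intro h w hw
    rw [← rTensor_mkQ, LinearMap.mem_ker]
    apply eq_zero_of_forall_rTensor_eq_zero
    intro μ
    rw [← LinearMap.comp_apply, ← LinearMap.rTensor_comp, ← apply_coeff]
    apply h
    refine Ideal.subset_span ⟨μ ∘ₗ W.mkQ, ?_, w, hw, rfl⟩
    intro w' hw'
    rw [LinearMap.comp_apply, Submodule.mkQ_apply, (Submodule.Quotient.mk_eq_zero W).2 hw', map_zero]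
  · intro h
    have hle : stabIdeal A W ≤ RingHom.ker g.toRingHom := by
      refine Ideal.span_le.2 ?_
      rintro _ ⟨lam, hlam, w, hw, rfl⟩
      show g (coeff (A := A) lam w) = 0
      rw [apply_coeff]
      obtain ⟨z, hz⟩ := h w hw
      rw [← hz, ← LinearMap.comp_apply, ← LinearMap.rTensor_comp]
      have : lam ∘ₗ W.subtype = 0 := by
        ext w'
        exact hlam w' w'.2
      rw [this, LinearMap.rTensor_zero, LinearMap.zero_apply, map_zero]
    intro a ha
    exact hle ha

end Rep

section Main

variable {k : Type u} [Field k] {A : Type u} [CommRing A] [HopfAlgebra k A]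
variable {V : Type u} [AddCommGroup V] [Module k V] [Comod k A V] [Module.Finite k V]

theorem represents_stabIdeal (W : Submodule k V) :
    Dyn.Represents k A (stabIdeal A W) (fun R _ _ g => StabP W R g) :=
  fun _ _ _ g => kills_stabIdeal_iff W g

theorem isHopfIdeal_stabIdeal (W : Submodule k V) : (stabIdeal A W).IsHopfIdeal k :=
  HopfIdealSub.isHopfIdeal_of_represents (stabIdeal A W) (fun R _ _ g => StabP W R g)
    (represents_stabIdeal W) (stabP_counit W)
    (fun _ _ _ g h hg hh => stabP_mul W g h hg hh)
    (fun _ _ _ g hg => stabP_inv W g hg)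

end Main

end Groth.Agent.Lib.Helper84.Stabilizer
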