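import Mathlib
import Groth.Prelude.Def_HopfRep
import Groth.Prelude.Def_Dyn
import Groth.Prelude.Def_SGA3
import Groth.Agent.Lib.Helper84.RPoints
import Groth.Agent.Lib.Helper84.HopfIdealSub

/-!
# Fixed vectors of a normal subgroup form a subrepresentation (helper84)

`k` a field, `A` a commutative Hopf algebra, `I` a normal Hopf ideal, `V` an `A`-comodule.
`V^N = {v | (id ⊗ π) ρ v = v ⊗ 1}` is a subcomodule.
-/

set_option autoImplicit false

namespace Groth.Agent.Lib.Helper84.NormalFixed

open TensorProduct HopfRep WithConv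
open Groth.Agent.Lib.Helper84.RPoints

universe u v

variable {k A : Type u} [Field k] [CommRing A] [HopfAlgebra k A]
variable {V : Type v} [AddCommGroup V] [Module k V] [Comod k A V]

/-- `(v ⊗ c) ⊗ b ↦ (c ⊗ b) ⊗ v`. -/
noncomputable def EE (B : Type u) [CommRing B] [Algebra k B] :
    (V ⊗[k] B) ⊗[k] A ≃ₗ[k] (B ⊗[k] A) ⊗[k] V :=
  (TensorProduct.assoc k V B A) ≪≫ₗ (TensorProduct.comm k V (B ⊗[k] A))

omit [Comod k A V] in
@[simp] lemma EE_tmul (B : Type u) [CommRing B] [Algebra k B] (v : V) (c : B) (b : A) :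
    EE (A := A) B ((v ⊗ₜ[k] c) ⊗ₜ[k] b) = (c ⊗ₜ[k] b) ⊗ₜ[k] v := by
  simp [EE]

section General

variable {R : Type u} [CommRing R] [Algebra k R]

omit [Comod k A V] in
/-- `g * (g⁻¹ * n * (g⁻¹)⁻¹) = n * g`. -/
lemma conj_eq (g n : A →ₐ[k] R) :
    toConv g * (toConv (g.comp (HopfAlgebra.antipodeAlgHom k A)) * toConv n *
        toConv ((g.comp (HopfAlgebra.antipodeAlgHom k A)).comp (HopfAlgebra.antipodeAlgHom k A)))
      = toConv n * toConv g := by
  set gi := g.comp (HopfAlgebra.antipodeAlgHom k A) with hgi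
  have h1 : toConv gi * toConv g = 1 := inv_mul_point g
  have h1' : toConv g * toConv gi = 1 := mul_inv_point g
  have h2 : toConv (gi.comp (HopfAlgebra.antipodeAlgHom k A)) * toConv gi = 1 := inv_mul_point gi
  have hz : toConv (gi.comp (HopfAlgebra.antipodeAlgHom k A)) = toConv g := by
    calc toConv (gi.comp (HopfAlgebra.antipodeAlgHom k A))
        = toConv (gi.comp (HopfAlgebra.antipodeAlgHom k A)) * (toConv gi * toConv g) := by
          rw [h1, mul_one]
      _ = toConv g := by rw [← mul_assoc, h2, one_mul]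
  rw [hz, ← mul_assoc, ← mul_assoc, h1', one_mul]

lemma tau_conj (n g m : A →ₐ[k] R) (hm : toConv g * toConv m = toConv n * toConv g) (w : V)
    (hmw : tau m w = (1 : R) ⊗ₜ[k] w) :
    tau (ofConv (toConv n * toConv g)) w = tau g w := by
  rw [← hm, ← actR_one_tmul, actR_mul, LinearMap.comp_apply, actR_one_tmul, hmw,
    actR_one_tmul]

end General

theorem isSubcomod_fixed (I : Ideal A) [I.IsHopfIdeal k] (hI : SGA3.IsNormalHopfIdeal k A I)
    (W : Submodule k V)
    (hW : ∀ v : V, v ∈ W ↔
      LinearMap.lTensor V (Ideal.Quotient.mkₐ k I).toLinearMap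
          (Comod.coact (k := k) (A := A) v) = v ⊗ₜ[k] (1 : A ⧸ I)) :
    IsSubcomod (k := k) (A := A) W := by
  set π : A →ₐ[k] A ⧸ I := Ideal.Quotient.mkₐ k I with hπ
  let φ : V →ₗ[k] V ⊗[k] (A ⧸ I) :=
    (π.toLinearMap.lTensor V) ∘ₗ (Comod.coact (k := k) (A := A) (V := V))
      - (TensorProduct.mk k V (A ⧸ I)).flip 1
  have hex : Function.Exact W.subtype φ := by
    intro v
    constructor
    · intro hv
      have : v ∈ W := by
        rw [hW]
        have : (π.toLinearMap.lTensor V) (Comod.coact (k := k) (A := A) v)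
            - v ⊗ₜ[k] (1 : A ⧸ I) = 0 := hv
        exact sub_eq_zero.1 this
      exact ⟨⟨v, this⟩, rfl⟩
    · rintro ⟨w, rfl⟩
      have := (hW w).1 w.2
      show (π.toLinearMap.lTensor V) (Comod.coact (k := k) (A := A) (w : V))
            - (w : V) ⊗ₜ[k] (1 : A ⧸ I) = 0
      rw [this, sub_self]
  have hex2 := Module.Flat.rTensor_exact A hex
  intro w hw
  refine (hex2 _).1 ?_
  -- the points
  let n : A →ₐ[k] (A ⧸ I) ⊗[k] A :=
    (Algebra.TensorProduct.includeLeft (R := k) (S := k) (A := A ⧸ I) (B := A)).comp π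
  let g : A →ₐ[k] (A ⧸ I) ⊗[k] A :=
    Algebra.TensorProduct.includeRight (R := k) (A := A ⧸ I) (B := A)
  have hn : ∀ a ∈ I, n a = 0 := by
    intro a ha
    have : π a = 0 := Ideal.Quotient.eq_zero_iff_mem.2 ha
    show (Algebra.TensorProduct.includeLeft (R := k) (S := k) (A := A ⧸ I) (B := A)) (π a) = 0
    rw [this, map_zero]
  have hm := hI ((A ⧸ I) ⊗[k] A) (g.comp (HopfAlgebra.antipodeAlgHom k A)) n hn
  rw [HopfIdealSub.conv3_eq] at hm
  have hgm := conj_eq g n
  generalize hmdef : (ofConv (toConv (g.comp (HopfAlgebra.antipodeAlgHom k A)) * toConv n *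
    toConv ((g.comp (HopfAlgebra.antipodeAlgHom k A)).comp (HopfAlgebra.antipodeAlgHom k A)))
      : A →ₐ[k] (A ⧸ I) ⊗[k] A) = m at hm
  have hgm' : toConv g * toConv m = toConv n * toConv g := by
    rw [← hmdef, toConv_ofConv]
    exact hgm
  -- `m` factors through `π`
  let mbar : A ⧸ I →ₐ[k] (A ⧸ I) ⊗[k] A := Ideal.Quotient.liftₐ I m hm
  have hmfac : m = mbar.comp π := by
    ext a
    simp [mbar, π]
  have hmw : tau m w = (1 : (A ⧸ I) ⊗[k] A) ⊗ₜ[k] w := by
    rw [hmfac]
    exact tau_eq_of_factor π mbar w ((hW w).1 hw)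
  have hkey : tau (ofConv (toConv n * toConv g)) w = tau g w := tau_conj n g m hgm' w hmw
  -- conversion
  apply (EE (A := A) (V := V) (A ⧸ I)).injective
  rw [map_zero]
  have c1 : ∀ x : V ⊗[k] A,
      EE (A := A) (A ⧸ I) ((((π.toLinearMap.lTensor V) ∘ₗ
        (Comod.coact (k := k) (A := A) (V := V))).rTensor A) x)
        = psi n g (TensorProduct.assoc k V A A
            ((Comod.coact (k := k) (A := A) (V := V)).rTensor A x)) := by
    intro x
    induction x using TensorProduct.induction_on with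
    | zero => simp
    | tmul v b =>
      rw [LinearMap.rTensor_tmul, LinearMap.rTensor_tmul, LinearMap.comp_apply]
      generalize Comod.coact (k := k) (A := A) v = y
      induction y using TensorProduct.induction_on with
      | zero => simp
      | tmul v' a =>
        rw [LinearMap.lTensor_tmul, EE_tmul, TensorProduct.assoc_tmul, psi_tmul]
        congr 1
        show π a ⊗ₜ[k] b = (π a ⊗ₜ[k] (1 : A)) * ((1 : A ⧸ I) ⊗ₜ[k] b)
        rw [Algebra.TensorProduct.tmul_mul_tmul, mul_one, one_mul]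
      | add a b ha hb =>
        rw [map_add, TensorProduct.add_tmul, map_add, ha, hb, TensorProduct.add_tmul, map_add,
          map_add]
    | add a b ha hb => rw [map_add, map_add, ha, hb, map_add, map_add, map_add]
  have c2 : ∀ x : V ⊗[k] A,
      EE (A := A) (A ⧸ I) ((((TensorProduct.mk k V (A ⧸ I)).flip 1).rTensor A) x)
        = TensorProduct.comm k V ((A ⧸ I) ⊗[k] A) (g.toLinearMap.lTensor V x) := by
    intro x
    induction x using TensorProduct.induction_on with
    | zero => simp
    | tmul v b =>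
      rw [LinearMap.rTensor_tmul, LinearMap.flip_apply, TensorProduct.mk_apply, EE_tmul,
        LinearMap.lTensor_tmul, TensorProduct.comm_tmul]
      rfl
    | add a b ha hb => rw [map_add, map_add, ha, hb, map_add, map_add]
  have hsub : φ.rTensor A = ((π.toLinearMap.lTensor V) ∘ₗ
        (Comod.coact (k := k) (A := A) (V := V))).rTensor A
      - ((TensorProduct.mk k V (A ⧸ I)).flip 1).rTensor A := by
    ext v a
    simp [φ, TensorProduct.sub_tmul]
  rw [hsub, LinearMap.sub_apply, map_sub, c1, c2, ← tau_apply, ← hkey, tau_mul, sub_eq_zero]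
  have := LinearMap.congr_fun (Comod.coassoc (k := k) (A := A) (V := V)) w
  simp only [LinearMap.comp_apply, LinearEquiv.coe_coe] at this
  rw [this]

end Groth.Agent.Lib.Helper84.NormalFixed
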