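import Mathlib
import Groth.Prelude.Def_SGA3
import Groth.Agent.Lib.Helper84.HopfIdealSub
import Groth.Agent.Lib.Helper84.RPoints

/-!
# Point calculus for commutative Hopf algebras (helper84)

`Pt k A R := WithConv (A →ₐ[k] R)` is the group `G(R)`.  Base change and pull-back along bialgebra
maps are group homomorphisms; points killing a Hopf ideal form a subgroup; normal Hopf ideals give
normal subgroups of points.
-/

set_option autoImplicit false
set_option linter.style.haveILetI false
set_option linter.unusedSectionVars false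
open TensorProduct WithConv
universe u v w x y

namespace Groth.Agent.Lib.Helper84.Points

section Basic

variable {k : Type u} [CommRing k] {A : Type v} [CommRing A] [HopfAlgebra k A]
variable {R : Type x} [CommRing R] [Algebra k R] {R' : Type y} [CommRing R'] [Algebra k R']

variable (k A R) in
/-- the group of `R`-points. -/
abbrev Pt := WithConv (A →ₐ[k] R)

/-- the group structure on points (Mathlib only has it when the target is a bialgebra). -/
noncomputable instance (priority := 2000) ptGroup : Group (Pt k A R) :=
  { (inferInstance : Monoid (WithConv (A →ₐ[k] R))) with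
    inv := fun g => toConv (g.ofConv.comp (HopfAlgebra.antipodeAlgHom k A))
    inv_mul_cancel := fun g => RPoints.inv_mul_point g.ofConv }

theorem inv_apply (g : Pt k A R) (x : A) :
    (g⁻¹).ofConv x = g.ofConv (HopfAlgebra.antipode k x) := rfl

theorem one_apply (x : A) : (1 : Pt k A R).ofConv x = algebraMap k R (Coalgebra.counit x) := rfl

theorem mul_apply (g h : Pt k A R) (x : A) :
    (g * h).ofConv x = Algebra.TensorProduct.lift g.ofConv h.ofConv (fun _ _ => Commute.all _ _)
      (Coalgebra.comul (R := k) x) :=
  AlgHom.convMul_apply g h x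

/-- base change of points, a group homomorphism. -/
def mapPt (φ : R →ₐ[k] R') : Pt k A R →* Pt k A R' where
  toFun g := toConv (φ.comp g.ofConv)
  map_one' := by
    apply WithConv.ofConv_injective
    ext x
    simp
  map_mul' g h := by
    apply WithConv.ofConv_injective
    exact AlgHom.comp_convMul_distrib φ g h

@[simp] theorem mapPt_apply (φ : R →ₐ[k] R') (g : Pt k A R) (x : A) :
    (mapPt φ g).ofConv x = φ (g.ofConv x) := rfl

variable {A' : Type w} [CommRing A'] [HopfAlgebra k A']

/-- pull-back of points along a bialgebra map, a group homomorphism. -/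
def pullPt (f : A →ₐc[k] A') : Pt k A' R →* Pt k A R where
  toFun g := toConv (g.ofConv.comp (f : A →ₐ[k] A'))
  map_one' := by
    apply WithConv.ofConv_injective
    ext x
    simp
  map_mul' g h := by
    apply WithConv.ofConv_injective
    exact AlgHom.convMul_comp_bialgHom_distrib g h f

@[simp] theorem pullPt_apply (f : A →ₐc[k] A') (g : Pt k A' R) (x : A) :
    (pullPt f g).ofConv x = g.ofConv (f x) := rfl

theorem mapPt_pullPt (φ : R →ₐ[k] R') (f : A →ₐc[k] A') (g : Pt k A' R) :
    mapPt φ (pullPt f g) = pullPt f (mapPt φ g) := rfl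

theorem pullPt_injective (f : A →ₐc[k] A') (hf : Function.Surjective f) :
    Function.Injective (pullPt (R := R) f) := by
  intro g h hgh
  apply WithConv.ofConv_injective
  ext y
  obtain ⟨x, rfl⟩ := hf y
  have := congrArg (fun p : Pt k A R => p.ofConv x) hgh
  exact this

end Basic

section Kills

variable {k : Type u} [CommRing k] {A : Type v} [CommRing A] [HopfAlgebra k A]
variable {R : Type x} [CommRing R] [Algebra k R] {R' : Type y} [CommRing R'] [Algebra k R']

/-- the point `g` lies in the closed subscheme `V(I)`. -/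
def Kills (I : Ideal A) (g : Pt k A R) : Prop := ∀ a ∈ I, g.ofConv a = 0

theorem Kills.map {I : Ideal A} {g : Pt k A R} (hg : Kills I g) (φ : R →ₐ[k] R') :
    Kills I (mapPt φ g) := by
  intro a ha
  rw [mapPt_apply, hg a ha, map_zero]

theorem Kills.mono {I J : Ideal A} (h : I ≤ J) {g : Pt k A R} (hg : Kills J g) : Kills I g :=
  fun a ha => hg a (h ha)

variable (I : Ideal A) [I.IsHopfIdeal k]

/-- the quotient map as a bialgebra map. -/
noncomputable abbrev qmap : A →ₐc[k] A ⧸ I := Bialgebra.Quotient.mkBialgHom I

theorem qmap_surjective : Function.Surjective (qmap (k := k) I) := Ideal.Quotient.mk_surjective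

theorem kills_pullPt (n : Pt k (A ⧸ I) R) : Kills I (pullPt (qmap I) n) := by
  intro a ha
  rw [pullPt_apply]
  have : (qmap (k := k) I) a = 0 := Ideal.Quotient.eq_zero_iff_mem.2 ha
  rw [this, map_zero]

theorem kills_iff (g : Pt k A R) : Kills I g ↔ ∃ n : Pt k (A ⧸ I) R, pullPt (qmap I) n = g := by
  constructor
  · intro hg
    refine ⟨toConv (Ideal.Quotient.liftₐ I g.ofConv hg), ?_⟩
    apply WithConv.ofConv_injective
    ext x
    rfl
  · rintro ⟨n, rfl⟩
    exact kills_pullPt I n

theorem kills_one : Kills I (1 : Pt k A R) := by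
  rw [kills_iff]
  exact ⟨1, map_one _⟩

theorem Kills.mul {g h : Pt k A R} (hg : Kills I g) (hh : Kills I h) : Kills I (g * h) := by
  rw [kills_iff] at hg hh ⊢
  obtain ⟨n, rfl⟩ := hg
  obtain ⟨m, rfl⟩ := hh
  exact ⟨n * m, map_mul _ _ _⟩

theorem Kills.inv {g : Pt k A R} (hg : Kills I g) : Kills I g⁻¹ := by
  rw [kills_iff] at hg ⊢
  obtain ⟨n, rfl⟩ := hg
  exact ⟨n⁻¹, map_inv _ _⟩

end Kills

section Normal

variable {k : Type u} [CommRing k] {A : Type u} [CommRing A] [HopfAlgebra k A]
variable {R : Type u} [CommRing R] [Algebra k R]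
variable (I : Ideal A) [I.IsHopfIdeal k]

theorem Kills.conj (hI : SGA3.IsNormalHopfIdeal k A I) (g : Pt k A R) {n : Pt k A R}
    (hn : Kills I n) : Kills I (g * n * g⁻¹) := by
  intro a ha
  have h := hI R g.ofConv n.ofConv hn a ha
  rw [HopfIdealSub.conv3_eq] at h
  exact h

theorem Kills.conj' (hI : SGA3.IsNormalHopfIdeal k A I) (g : Pt k A R) {n : Pt k A R}
    (hn : Kills I n) : Kills I (g⁻¹ * n * g) := by
  have := Kills.conj I hI g⁻¹ hn
  rwa [inv_inv] at this

end Normal

end Groth.Agent.Lib.Helper84.Points
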