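import Mathlib
import Groth.Prelude.Def_SGA3
import Groth.Agent.Lib.Helper84.Points
import Groth.Agent.Lib.Helper84.NormalFixed

/-!
# Coinvariants of a quotient Hopf algebra (helper84)

`coinv I = {x | (id ⊗ π) Δ x = x ⊗ 1}` for an ideal `I` of a commutative Hopf algebra: the functions
on `G` invariant under right translation by `N = V(I)`.  Point characterisation; for a normal Hopf
ideal it is a Hopf subalgebra whose augmentation ideal lies in `I`.
-/

set_option autoImplicit false
set_option linter.style.haveILetI false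
set_option linter.unusedSectionVars false
open TensorProduct WithConv
universe u v w x y

namespace Groth.Agent.Lib.Helper84.Coinv

open Groth.Agent.Lib.Helper84.Points

section LinAlg

variable {k : Type u} [Field k] {V : Type v} [AddCommGroup V] [Module k V]
  {V' : Type w} [AddCommGroup V'] [Module k V']

/-- `(W ⊗ V') ∩ (V ⊗ W') = W ⊗ W'` over a field. -/
theorem mem_range_map_of_mem_mem (W : Submodule k V) (W' : Submodule k V') (z : V ⊗[k] V')
    (h1 : z ∈ LinearMap.range (W.subtype.rTensor V'))
    (h2 : z ∈ LinearMap.range (W'.subtype.lTensor V)) :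
    z ∈ LinearMap.range (TensorProduct.map W.subtype W'.subtype) := by
  obtain ⟨p, hp⟩ := LinearMap.exists_leftInverse_of_injective W.subtype (Submodule.ker_subtype W)
  obtain ⟨y, rfl⟩ := h1
  obtain ⟨y', hy'⟩ := h2
  have e1 : ((W.subtype ∘ₗ p).rTensor V') (W.subtype.rTensor V' y) = W.subtype.rTensor V' y := by
    rw [← LinearMap.comp_apply, ← LinearMap.rTensor_comp, LinearMap.comp_assoc, hp,
      LinearMap.comp_id]
  rw [← e1, ← hy']
  refine ⟨(p.rTensor W') y', ?_⟩
  rw [← LinearMap.comp_apply, ← LinearMap.comp_apply]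
  congr 1
  apply TensorProduct.ext'
  intro a b
  simp

end LinAlg

section Def

variable {k : Type u} [CommRing k] {A : Type u} [CommRing A] [HopfAlgebra k A]

/-- `x` is right-coinvariant for the quotient `A → A / I`. -/
def IsCoinv (I : Ideal A) (x : A) : Prop :=
  LinearMap.lTensor A (Ideal.Quotient.mkₐ k I).toLinearMap (Coalgebra.comul (R := k) x) =
    x ⊗ₜ[k] (1 : A ⧸ I)

/-- the form used in S4105. -/
theorem isCoinv_iff_mem_range (I : Ideal A) (x : A) :
    IsCoinv (k := k) I x ↔ Coalgebra.comul (R := k) x - x ⊗ₜ[k] (1 : A) ∈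
      LinearMap.range (LinearMap.lTensor A (I.restrictScalars k).subtype) := by
  have hmk : (Ideal.Quotient.mkₐ k I).toLinearMap = (I.restrictScalars k).mkQ := rfl
  have hex : LinearMap.ker (LinearMap.lTensor A (I.restrictScalars k).mkQ) =
      LinearMap.range (LinearMap.lTensor A (I.restrictScalars k).subtype) := lTensor_mkQ _ _
  unfold IsCoinv
  rw [← hex, LinearMap.mem_ker, map_sub, sub_eq_zero, hmk]
  rfl

theorem lift_eq_lift_lTensor {R : Type u} [CommRing R] [Algebra k R] (I : Ideal A)
    (g : A →ₐ[k] R) (n : A ⧸ I →ₐ[k] R) (t : A ⊗[k] A) :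
    Algebra.TensorProduct.lift g (n.comp (Ideal.Quotient.mkₐ k I)) (fun _ _ => Commute.all _ _) t =
      Algebra.TensorProduct.lift g n (fun _ _ => Commute.all _ _)
        (LinearMap.lTensor A (Ideal.Quotient.mkₐ k I).toLinearMap t) := by
  induction t using TensorProduct.induction_on with
  | zero => simp
  | tmul a b => simp
  | add a b ha hb => rw [map_add, map_add, map_add, ha, hb]

/-- **point characterisation of coinvariants**: `x(g n) = x(g)`. -/
theorem isCoinv_iff_points (I : Ideal A) (x : A) :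
    IsCoinv (k := k) I x ↔ ∀ (R : Type u) [CommRing R] [Algebra k R] (g n : Pt k A R),
      Kills I n → (g * n).ofConv x = g.ofConv x := by
  constructor
  · intro hx R _ _ g n hn
    have hn' : n.ofConv = (Ideal.Quotient.liftₐ I n.ofConv hn).comp (Ideal.Quotient.mkₐ k I) := by
      ext a
      rfl
    rw [mul_apply]
    have := lift_eq_lift_lTensor I g.ofConv (Ideal.Quotient.liftₐ I n.ofConv hn)
      (Coalgebra.comul (R := k) x)
    rw [← hn'] at this
    rw [this, hx, Algebra.TensorProduct.lift_tmul, map_one, mul_one]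
  · intro h
    let g : Pt k A (A ⊗[k] (A ⧸ I)) := toConv Algebra.TensorProduct.includeLeft
    let n : Pt k A (A ⊗[k] (A ⧸ I)) :=
      toConv ((Algebra.TensorProduct.includeRight : A ⧸ I →ₐ[k] A ⊗[k] (A ⧸ I)).comp
        (Ideal.Quotient.mkₐ k I))
    have hn : Kills I n := by
      intro a ha
      change (Algebra.TensorProduct.includeRight : A ⧸ I →ₐ[k] A ⊗[k] (A ⧸ I))
        (Ideal.Quotient.mk I a) = 0
      rw [Ideal.Quotient.eq_zero_iff_mem.2 ha, map_zero]
    have h1 := h _ g n hn
    rw [mul_apply] at h1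
    have h2 := lift_eq_lift_lTensor I g.ofConv
      (Algebra.TensorProduct.includeRight : A ⧸ I →ₐ[k] A ⊗[k] (A ⧸ I))
      (Coalgebra.comul (R := k) x)
    have h3 : ∀ t : A ⊗[k] (A ⧸ I), Algebra.TensorProduct.lift g.ofConv
        (Algebra.TensorProduct.includeRight : A ⧸ I →ₐ[k] A ⊗[k] (A ⧸ I))
        (fun _ _ => Commute.all _ _) t = t := by
      intro t
      induction t using TensorProduct.induction_on with
      | zero => simp
      | tmul a b => simp [g]
      | add a b ha hb => rw [map_add, ha, hb]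
    rw [h3] at h2
    unfold IsCoinv
    rw [← h2]
    exact h1

/-- the subalgebra of coinvariants. -/
def coinv (I : Ideal A) : Subalgebra k A where
  carrier := {x | IsCoinv (k := k) I x}
  mul_mem' := by
    intro a b ha hb
    simp only [Set.mem_ofPred_eq] at ha hb ⊢
    rw [isCoinv_iff_points] at ha hb ⊢
    intro R _ _ g n hn
    rw [map_mul, map_mul, ha R g n hn, hb R g n hn]
  add_mem' := by
    intro a b ha hb
    simp only [Set.mem_ofPred_eq] at ha hb ⊢
    rw [isCoinv_iff_points] at ha hb ⊢
    intro R _ _ g n hn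
    rw [map_add, map_add, ha R g n hn, hb R g n hn]
  algebraMap_mem' := by
    intro r
    simp only [Set.mem_ofPred_eq]
    rw [isCoinv_iff_points]
    intro R _ _ g n hn
    rw [AlgHom.commutes, AlgHom.commutes]

theorem mem_coinv (I : Ideal A) (x : A) : x ∈ coinv (k := k) I ↔ IsCoinv (k := k) I x := Iff.rfl

theorem mem_coinv_iff_points (I : Ideal A) (x : A) :
    x ∈ coinv (k := k) I ↔ ∀ (R : Type u) [CommRing R] [Algebra k R] (g n : Pt k A R),
      Kills I n → (g * n).ofConv x = g.ofConv x := isCoinv_iff_points I x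

theorem coinv_mono {I J : Ideal A} (h : I ≤ J) : coinv (k := k) I ≤ coinv (k := k) J := by
  intro x hx
  rw [mem_coinv_iff_points] at hx ⊢
  intro R _ _ g n hn
  exact hx R g n (hn.mono h)

/-- an augmentation-zero coinvariant lies in the ideal. -/
theorem mem_of_mem_coinv_of_counit (I : Ideal A) (x : A) (hx : x ∈ coinv (k := k) I)
    (hε : Coalgebra.counit (R := k) x = 0) : x ∈ I := by
  have h1 : IsCoinv (k := k) I x := hx
  unfold IsCoinv at h1
  have h2 := congrArg (fun z => TensorProduct.lid k (A ⧸ I)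
    ((Coalgebra.counit (R := k) (A := A)).rTensor (A ⧸ I) z)) h1
  simp only [LinearMap.rTensor_tmul, TensorProduct.lid_tmul, hε, zero_smul] at h2
  have h3 : (Coalgebra.counit (R := k) (A := A)).rTensor (A ⧸ I)
      (LinearMap.lTensor A (Ideal.Quotient.mkₐ k I).toLinearMap (Coalgebra.comul (R := k) x)) =
      LinearMap.lTensor k (Ideal.Quotient.mkₐ k I).toLinearMap
        ((Coalgebra.counit (R := k) (A := A)).rTensor A (Coalgebra.comul (R := k) x)) := by
    generalize Coalgebra.comul (R := k) x = t
    induction t using TensorProduct.induction_on with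
    | zero => simp
    | tmul a b => simp
    | add a b ha hb => simp only [map_add, ha, hb]
  rw [h3, Coalgebra.rTensor_counit_comul] at h2
  simp only [LinearMap.lTensor_tmul, TensorProduct.lid_tmul, one_smul] at h2
  exact Ideal.Quotient.eq_zero_iff_mem.1 h2

theorem augIdealSpan_coinv_le (I : Ideal A) : SGA3.augIdealSpan k A (coinv (k := k) I) ≤ I := by
  unfold SGA3.augIdealSpan
  rw [Ideal.span_le]
  rintro x ⟨hx, hε⟩
  exact mem_of_mem_coinv_of_counit I x hx hε

end Def

section Normal

variable {k : Type u} [Field k] {A : Type u} [CommRing A] [HopfAlgebra k A]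
variable (I : Ideal A) [I.IsHopfIdeal k] (hI : SGA3.IsNormalHopfIdeal k A I)

include hI in
theorem antipode_mem_coinv (x : A) (hx : x ∈ coinv (k := k) I) :
    HopfAlgebra.antipode k x ∈ coinv (k := k) I := by
  rw [mem_coinv_iff_points] at hx ⊢
  intro R _ _ g n hn
  rw [← inv_apply, ← inv_apply, mul_inv_rev]
  have e : n⁻¹ * g⁻¹ = g⁻¹ * (g * n⁻¹ * g⁻¹) := by group
  rw [e]
  exact hx R g⁻¹ _ (Kills.conj I hI g (Kills.inv I hn))

/-- `Δ (coinv I) ⊆ A ⊗ coinv I` (no normality needed). -/
theorem comul_mem_lTensor (x : A) (hx : x ∈ coinv (k := k) I) :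
    Coalgebra.comul (R := k) x ∈
      LinearMap.range ((Subalgebra.toSubmodule (coinv (k := k) I)).subtype.lTensor A) := by
  set π : A →ₗ[k] A ⧸ I := (Ideal.Quotient.mkₐ k I).toLinearMap with hπ
  set Bm := Subalgebra.toSubmodule (coinv (k := k) I) with hBm
  let φ : A →ₗ[k] A ⊗[k] (A ⧸ I) :=
    (π.lTensor A) ∘ₗ (Coalgebra.comul (R := k) (A := A)) - (TensorProduct.mk k A (A ⧸ I)).flip 1
  have hex : Function.Exact Bm.subtype φ := by
    intro v
    constructor
    · intro hv
      have hv' : IsCoinv (k := k) I v := by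
        have : (π.lTensor A) (Coalgebra.comul (R := k) v) - v ⊗ₜ[k] (1 : A ⧸ I) = 0 := hv
        exact sub_eq_zero.1 this
      exact ⟨⟨v, hv'⟩, rfl⟩
    · rintro ⟨w, rfl⟩
      have hw : IsCoinv (k := k) I (w : A) := w.2
      change (π.lTensor A) (Coalgebra.comul (R := k) (w : A)) - (w : A) ⊗ₜ[k] (1 : A ⧸ I) = 0
      unfold IsCoinv at hw
      rw [hw, sub_self]
  have hex2 := Module.Flat.lTensor_exact A hex
  refine (hex2 _).1 ?_
  have hx' : (π.lTensor A) (Coalgebra.comul (R := k) x) = x ⊗ₜ[k] (1 : A ⧸ I) := hx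
  have hsub : φ.lTensor A = ((π.lTensor A) ∘ₗ (Coalgebra.comul (R := k) (A := A))).lTensor A -
      ((TensorProduct.mk k A (A ⧸ I)).flip 1).lTensor A := by
    apply TensorProduct.ext'
    intro a b
    simp [φ]
  rw [hsub, LinearMap.sub_apply, sub_eq_zero]
  -- term 1
  have n1 : ((π.lTensor A).lTensor A) ∘ₗ (TensorProduct.assoc k A A A).toLinearMap =
      (TensorProduct.assoc k A A (A ⧸ I)).toLinearMap ∘ₗ (π.lTensor (A ⊗[k] A)) := by
    apply TensorProduct.ext'
    intro t c
    induction t using TensorProduct.induction_on with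
    | zero => simp
    | tmul a b => simp
    | add a b ha hb => simp only [TensorProduct.add_tmul, map_add, ha, hb]
  have t1 : ((π.lTensor A) ∘ₗ (Coalgebra.comul (R := k) (A := A))).lTensor A
      (Coalgebra.comul (R := k) x) =
      TensorProduct.assoc k A A (A ⧸ I) ((Coalgebra.comul (R := k) x) ⊗ₜ[k] (1 : A ⧸ I)) := by
    rw [LinearMap.lTensor_comp, LinearMap.comp_apply, ← Coalgebra.coassoc_apply,
      ← LinearEquiv.coe_coe, ← LinearMap.comp_apply, n1, LinearMap.comp_apply,
      ← LinearMap.comp_apply (π.lTensor (A ⊗[k] A)), LinearMap.lTensor_comp_rTensor,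
      ← LinearMap.rTensor_comp_lTensor, LinearMap.comp_apply, hx', LinearMap.rTensor_tmul]
    rfl
  have t2 : ∀ t : A ⊗[k] A, ((TensorProduct.mk k A (A ⧸ I)).flip 1).lTensor A t =
      TensorProduct.assoc k A A (A ⧸ I) (t ⊗ₜ[k] (1 : A ⧸ I)) := by
    intro t
    induction t using TensorProduct.induction_on with
    | zero => simp
    | tmul a b => simp
    | add a b ha hb => simp only [TensorProduct.add_tmul, map_add, ha, hb]
  rw [t1, t2]

include hI in
/-- `Δ (coinv I) ⊆ coinv I ⊗ A` for a normal Hopf ideal. -/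
theorem comul_mem_rTensor (x : A) (hx : x ∈ coinv (k := k) I) :
    Coalgebra.comul (R := k) x ∈
      LinearMap.range ((Subalgebra.toSubmodule (coinv (k := k) I)).subtype.rTensor A) := by
  have hW : ∀ v : A, v ∈ Subalgebra.toSubmodule (coinv (k := k) I) ↔
      LinearMap.lTensor A (Ideal.Quotient.mkₐ k I).toLinearMap
        (HopfRep.Comod.coact (k := k) (A := A) v) = v ⊗ₜ[k] (1 : A ⧸ I) := fun v => Iff.rfl
  have h := @NormalFixed.isSubcomod_fixed k A _ _ _ A _ _ (HopfRep.Comod.regular k A) I _ hI
    (Subalgebra.toSubmodule (coinv (k := k) I)) hW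
  exact h x hx

include hI in
/-- **the coinvariants of a normal Hopf ideal form a Hopf subalgebra.** -/
theorem isHopfSubalgebra_coinv : SGA3.IsHopfSubalgebra k A (coinv (k := k) I) := by
  refine ⟨fun b hb => ?_, fun b hb => antipode_mem_coinv I hI b hb⟩
  have h := mem_range_map_of_mem_mem (Subalgebra.toSubmodule (coinv (k := k) I))
    (Subalgebra.toSubmodule (coinv (k := k) I)) (Coalgebra.comul (R := k) b)
    (comul_mem_rTensor I hI b hb) (comul_mem_lTensor I b hb)
  obtain ⟨y, hy⟩ := h
  exact ⟨y, hy⟩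

end Normal

end Groth.Agent.Lib.Helper84.Coinv
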