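import Mathlib
import Groth.Agent.Lib.Helper86.HopfInv
import Groth.Agent.Lib.Helper59.PointsOfFT

/-!
# Translations of a commutative Hopf algebra by rational points (helper84)

`ltransEquiv x : A ≃ₐ[k] A`, `a ↦ Σ x(a₁) a₂`, for a point `x : A →ₐ[k] k`; on points it is
`y ↦ x * y`.  Compatibility with bialgebra maps.  Points of finitely generated algebras over an
algebraically closed field (consequences of the Nullstellensatz).
-/

set_option autoImplicit false

namespace Groth.Agent.Lib.Helper84.HopfFFTrans

open TensorProduct WithConv
open Groth.Agent.Lib.Helper86.HopfInv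

universe u v w

section Trans

variable {k : Type u} [CommRing k] {A : Type v} [CommRing A] [HopfAlgebra k A]

/-- left translation by the point `x`, as an algebra automorphism. -/
noncomputable def ltransEquiv (x : A →ₐ[k] k) : A ≃ₐ[k] A :=
  ((Algebra.TensorProduct.lid k A).symm.trans (gshearEquiv k A k x)).trans
    (Algebra.TensorProduct.lid k A)

lemma ltransEquiv_apply (x : A →ₐ[k] k) (a : A) :
    ltransEquiv x a = Algebra.TensorProduct.lid k A
      (Algebra.TensorProduct.map x (AlgHom.id k A) (Coalgebra.comul (R := k) a)) := by
  simp only [ltransEquiv, AlgEquiv.trans_apply, Algebra.TensorProduct.lid_symm_apply,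
    gshearEquiv_apply, gshear_tmul]
  rw [← Algebra.TensorProduct.one_def, one_mul]

/-- on points, left translation is left multiplication. -/
lemma comp_ltransEquiv (x y : A →ₐ[k] k) :
    y.comp (ltransEquiv x : A →ₐ[k] A) = ofConv (toConv x * toConv y) := by
  apply AlgHom.ext
  intro a
  rw [AlgHom.comp_apply]
  show y (ltransEquiv x a) = _
  rw [ltransEquiv_apply]
  show _ = Algebra.TensorProduct.lmul' k (Algebra.TensorProduct.map x y
    (Coalgebra.comul (R := k) a))
  generalize Coalgebra.comul (R := k) a = z
  induction z using TensorProduct.induction_on with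
  | zero => simp
  | tmul a₁ a₂ => simp [Algebra.smul_def]
  | add a b ha hb => simp only [map_add, ha, hb]

end Trans

section Compat

variable {k : Type u} [CommRing k] {A : Type v} [CommRing A] [HopfAlgebra k A]
variable {B : Type w} [CommRing B] [HopfAlgebra k B]

/-- translations are compatible with bialgebra maps. -/
lemma map_ltransEquiv (f : B →ₐc[k] A) (x : A →ₐ[k] k) (b : B) :
    f (ltransEquiv (x.comp (f : B →ₐ[k] A)) b) = ltransEquiv x (f b) := by
  rw [ltransEquiv_apply, ltransEquiv_apply, ← CoalgHomClass.map_comp_comul_apply f]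
  generalize Coalgebra.comul (R := k) b = z
  induction z using TensorProduct.induction_on with
  | zero => simp
  | tmul a₁ a₂ => simp
  | add a b ha hb => simp only [map_add, ha, hb]

/-- restriction of points along a bialgebra map is multiplicative. -/
lemma comp_mul (f : B →ₐc[k] A) (g g' : A →ₐ[k] k) :
    (ofConv (toConv g * toConv g')).comp (f : B →ₐ[k] A)
      = ofConv (toConv (g.comp (f : B →ₐ[k] A)) * toConv (g'.comp (f : B →ₐ[k] A))) := by
  exact AlgHom.convMul_comp_bialgHom_distrib (toConv g) (toConv g') f

lemma comp_one (f : B →ₐc[k] A) :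
    (ofConv (1 : WithConv (A →ₐ[k] k))).comp (f : B →ₐ[k] A)
      = ofConv (1 : WithConv (B →ₐ[k] k)) := by
  apply AlgHom.ext
  intro b
  simp

end Compat

section Points

variable (k : Type u) [Field k] [IsAlgClosed k] (R : Type v) [CommRing R] [Algebra k R]
  [Algebra.FiniteType k R]

/-- a non-nilpotent element of a finitely generated algebra over an algebraically closed field is
nonzero at some rational point. -/
theorem exists_point_ne_zero (a : R) (ha : ¬ IsNilpotent a) : ∃ x : R →ₐ[k] k, x a ≠ 0 := by
  haveI : Nontrivial (Localization.Away a) := by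
    rw [← not_subsingleton_iff_nontrivial]
    intro hs
    apply ha
    have h0 : algebraMap R (Localization.Away a) 1 = 0 := Subsingleton.elim _ _
    rw [IsLocalization.map_eq_zero_iff (Submonoid.powers a)] at h0
    obtain ⟨⟨_, n, rfl⟩, hn⟩ := h0
    exact ⟨n, by simpa using hn⟩
  haveI : Algebra.FiniteType k (Localization.Away a) :=
    Algebra.FiniteType.trans (S := R) inferInstance
      (IsLocalization.finiteType_of_monoid_fg (Submonoid.powers a) _)
  obtain ⟨x, -⟩ := Groth.Agent.Lib.Helper59.exists_algHom_of_ne_top k (Localization.Away a) ⊥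
    bot_ne_top
  refine ⟨x.comp (IsScalarTower.toAlgHom k R (Localization.Away a)), ?_⟩
  rw [AlgHom.comp_apply]
  have hu : IsUnit (IsScalarTower.toAlgHom k R (Localization.Away a) a) :=
    IsLocalization.Away.algebraMap_isUnit a
  exact (hu.map x).ne_zero

variable {k R}

/-- two rational points with comparable kernels are equal. -/
theorem point_eq_of_ker_le (y y' : R →ₐ[k] k) (h : RingHom.ker y ≤ RingHom.ker y') : y = y' := by
  apply AlgHom.ext
  intro b
  have h1 : b - algebraMap k R (y b) ∈ RingHom.ker y := by
    rw [RingHom.mem_ker, map_sub, AlgHom.commutes]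
    simp
  have h2 := h h1
  rw [RingHom.mem_ker, map_sub, AlgHom.commutes] at h2
  rw [sub_eq_zero] at h2
  exact h2.symm

end Points

end Groth.Agent.Lib.Helper84.HopfFFTrans
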