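import Mathlib
import Groth.Agent.Lib.Helper86.HopfDer4
import Groth.Agent.Lib.Helper84.HopfFFTrans

/-!
# Cartier's theorem: Hopf algebras in characteristic zero are reduced (helper84)

`k` a field of characteristic zero, `A` a Noetherian commutative bialgebra: every nilpotent element lies
in all powers of the augmentation ideal (`mem_pow_of_isNilpotent`, from helper86's independence of
monomials modulo `I^(m+1)`), hence is killed by an element of augmentation `1` (Krull).  For a finitely
generated commutative Hopf algebra over an algebraically closed field of characteristic zero,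
translating gives `IsReduced A` (`isReduced_of_charZero`).
-/

set_option autoImplicit false
set_option linter.unusedSectionVars false

namespace Groth.Agent.Lib.Helper84.HopfCartier

open MvPolynomial WithConv
open Groth.Agent.Lib.Helper86.HopfDer Groth.Agent.Lib.Helper84.HopfFFTrans

universe u v

section Ring

variable {A : Type v} [CommRing A]

lemma sub_pow_sub_pow_mem (I : Ideal A) (m : ℕ) {a r : A} (ha : a ∈ I ^ m) (hr : r ∈ I ^ (m + 1))
    (N : ℕ) : (a - r) ^ N - a ^ N ∈ I ^ (m * N + 1) := by
  induction N with
  | zero => simp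
  | succ N ih =>
    have e : (a - r) ^ (N + 1) - a ^ (N + 1) = (a - r) * ((a - r) ^ N - a ^ N) - r * a ^ N := by
      ring
    rw [e]
    have har : a - r ∈ I ^ m := Ideal.sub_mem _ ha (Ideal.pow_le_pow_right (Nat.le_succ m) hr)
    refine Ideal.sub_mem _ ?_ ?_
    · have := Ideal.mul_mem_mul har ih
      rw [← pow_add] at this
      have e2 : m + (m * N + 1) = m * (N + 1) + 1 := by ring
      rwa [e2] at this
    · have h1 : a ^ N ∈ I ^ (m * N) := by
        rw [pow_mul]
        exact Ideal.pow_mem_pow ha N
      have := Ideal.mul_mem_mul hr h1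
      rw [← pow_add] at this
      have e2 : m + 1 + m * N = m * (N + 1) + 1 := by ring
      rwa [e2] at this

end Ring

section Local

variable (k : Type u) [Field k] [CharZero k] (A : Type v) [CommRing A] [Bialgebra k A]
  [IsNoetherianRing A]

local notation "I" => RingHom.ker (Bialgebra.counitAlgHom k A)

/-- in characteristic zero, nilpotent elements lie in every power of the augmentation ideal. -/
theorem mem_pow_of_isNilpotent (y : A) (hy : IsNilpotent y) (m : ℕ) : y ∈ (I) ^ m := by
  classical
  induction m with
  | zero => simp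
  | succ m ih =>
    haveI := finite_cotangent k A
    obtain ⟨x, D, hx, hD, hgen⟩ := exists_coordinates k A
    have hsplit := exists_sub_algebraMap_mem k A
    obtain ⟨P, hP, hyP⟩ := step_hom (I) x hx hsplit hgen m y ih
    obtain ⟨N, hN⟩ := hy
    have hN0 : N ≠ 0 := by
      rintro rfl
      rw [pow_zero] at hN
      have : (1 : A) ∈ I := by rw [hN]; exact zero_mem _
      exact augIdeal_ne_top k A ((Ideal.eq_top_iff_one _).2 this)
    have hPN : Hom (P ^ N) (m * N) := by
      rw [hom_iff] at hP ⊢
      exact hP.pow N
    have hmem : aeval x (P ^ N) ∈ (I) ^ (m * N + 1) := by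
      rw [map_pow]
      have h1 : aeval x P = y - (y - aeval x P) := by ring
      have h2 := sub_pow_sub_pow_mem (I) m ih hyP N
      rw [← h1, hN, sub_zero] at h2
      exact h2
    have hzero := hom_eq_zero_gen (I) (augIdeal_ne_top k A) x hx D hD (m * N) (P ^ N)
      (fun e he _ => by
        have : (e : k) = ((e : ℕ) : k) := rfl
        exact Nat.cast_ne_zero.2 (by omega)) hPN hmem
    have hP0 : P = 0 := pow_eq_zero_iff hN0 |>.1 hzero
    rw [hP0, map_zero, sub_zero] at hyP
    exact hyP

/-- a nilpotent element is killed by an element of augmentation `1`. -/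
theorem exists_mul_eq_zero_of_isNilpotent (y : A) (hy : IsNilpotent y) :
    ∃ s : A, Bialgebra.counitAlgHom k A s = 1 ∧ s * y = 0 := by
  have h1 : y ∈ (⨅ i : ℕ, (I) ^ i • ⊤ : Submodule A A) := by
    rw [Submodule.mem_iInf]
    intro i
    rw [smul_eq_mul, Ideal.mul_top]
    exact mem_pow_of_isNilpotent k A y hy i
  obtain ⟨⟨r, hr⟩, hry⟩ := (Ideal.mem_iInf_smul_pow_eq_bot_iff (I) y).1 h1
  refine ⟨1 - r, ?_, ?_⟩
  · rw [map_sub, map_one, (RingHom.mem_ker).1 hr, sub_zero]
  · rw [sub_mul, one_mul, sub_eq_zero]
    exact hry.symm

end Local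

section Global

/-- **Cartier's theorem** (finitely generated case over an algebraically closed field). -/
theorem isReduced_of_charZero (k : Type u) [Field k] [IsAlgClosed k] [CharZero k] (A : Type v)
    [CommRing A] [HopfAlgebra k A] [Algebra.FiniteType k A] : IsReduced A := by
  haveI : IsNoetherianRing A := Algebra.FiniteType.isNoetherianRing k A
  refine ⟨fun y hy => ?_⟩
  by_contra hy0
  let J : Ideal A := Submodule.annihilator (Submodule.span A {y})
  have hJ : J ≠ ⊤ := by
    intro h
    have : (1 : A) ∈ J := by rw [h]; trivial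
    rw [Submodule.mem_annihilator_span_singleton, one_smul] at this
    exact hy0 this
  obtain ⟨x, hx⟩ := Groth.Agent.Lib.Helper59.exists_algHom_of_ne_top k A J hJ
  let e : A ≃ₐ[k] A := ltransEquiv x
  have hey : IsNilpotent (e y) := hy.map e
  obtain ⟨s, hs1, hs0⟩ := exists_mul_eq_zero_of_isNilpotent k A (e y) hey
  have h1 : e.symm s * y = 0 := by
    apply e.injective
    rw [map_mul, AlgEquiv.apply_symm_apply, hs0, map_zero]
  have h2 : e.symm s ∈ J := by
    rw [Submodule.mem_annihilator_span_singleton, smul_eq_mul]
    exact h1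
  have h3 := hx _ h2
  have h4 : (Bialgebra.counitAlgHom k A).comp (e : A →ₐ[k] A) = x := by
    rw [comp_ltransEquiv]
    have : toConv (Bialgebra.counitAlgHom k A) = (1 : WithConv (A →ₐ[k] k)) := by
      apply WithConv.ofConv_injective
      apply AlgHom.ext
      intro a
      simp
    rw [this, mul_one, ofConv_toConv]
  have h5 : x (e.symm s) = Bialgebra.counitAlgHom k A s := by
    rw [← h4, AlgHom.comp_apply]
    show Bialgebra.counitAlgHom k A (e (e.symm s)) = _
    rw [AlgEquiv.apply_symm_apply]
  rw [h5, hs1] at h3
  exact one_ne_zero h3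

end Global

end Groth.Agent.Lib.Helper84.HopfCartier
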