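import Mathlib.RingTheory.RingHom.FaithfullyFlat
import Mathlib.RingTheory.Flat.EquationalCriterion
import Mathlib.RingTheory.Flat.FaithfullyFlat.Algebra
import Mathlib.RingTheory.Spectrum.Prime.RingHom

/-!
# Directed unions of faithfully flat ring maps (helper84)

Ring-level statement: if `Φ : Cc → Ac` is a "directed colimit" of faithfully flat ring maps
`φ j : Cj j → Aj j` (in the sense of the two hypotheses `H1`, `H2` below), then `Φ` is faithfully
flat.
-/

set_option autoImplicit false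
universe u v w

namespace Groth.Agent.Lib.Helper84.ColimFF

variable {J : Type w} {Cj Aj : J → Type u} [∀ j, CommRing (Cj j)] [∀ j, CommRing (Aj j)]
  {Cc Ac : Type v} [CommRing Cc] [CommRing Ac] (Φ : Cc →+* Ac)
  (φ : ∀ j, Cj j →+* Aj j) (ιC : ∀ j, Cj j →+* Cc) (ιA : ∀ j, Aj j →+* Ac)
  (hcomm : ∀ j (c : Cj j), Φ (ιC j c) = ιA j (φ j c))
  (H1 : ∀ (s : Finset Cc) (t : Finset Ac), ∃ j, (∀ x ∈ s, ∃ y, ιC j y = x) ∧
    (∀ x ∈ t, ∃ y, ιA j y = x))
  (H2 : ∀ (j : J) (a : Aj j), ιA j a = 0 → ∃ (k : J) (tC : Cj j →+* Cj k) (tA : Aj j →+* Aj k),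
    (∀ c, ιC k (tC c) = ιC j c) ∧ (∀ a, ιA k (tA a) = ιA j a) ∧
    (∀ c, φ k (tC c) = tA (φ j c)) ∧ tA a = 0)

include hcomm H1 H2 in
theorem flat_of_directed (hfl : ∀ j, (φ j).Flat) : Φ.Flat := by
  classical
  letI := Φ.toAlgebra
  show Module.Flat Cc Ac
  rw [Module.Flat.iff_forall_isTrivialRelation]
  intro l f x hrel
  have hsmul : ∀ (c : Cc) (a : Ac), c • a = Φ c * a := fun c a => rfl
  obtain ⟨j, hf, hx⟩ := H1 (Finset.univ.image f) (Finset.univ.image x)
  choose f' hf' using fun i => hf (f i) (Finset.mem_image_of_mem f (Finset.mem_univ i))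
  choose x' hx' using fun i => hx (x i) (Finset.mem_image_of_mem x (Finset.mem_univ i))
  have h0 : ιA j (∑ i, φ j (f' i) * x' i) = 0 := by
    rw [map_sum, ← hrel]
    apply Finset.sum_congr rfl
    intro i _
    rw [map_mul, ← hcomm, hf', hx', hsmul]
  obtain ⟨k, tC, tA, h1, h2, h3, h4⟩ := H2 j _ h0
  letI := (φ k).toAlgebra
  have hflat : Module.Flat (Cj k) (Aj k) := hfl k
  have hsmulk : ∀ (c : Cj k) (a : Aj k), c • a = φ k c * a := fun c a => rfl
  have hrelk : ∑ i, (tC (f' i)) • (tA (x' i)) = 0 := by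
    rw [← h4, map_sum]
    apply Finset.sum_congr rfl
    intro i _
    rw [hsmulk, h3, map_mul]
  obtain ⟨κ, a, y, hy, ha⟩ := Module.Flat.iff_forall_isTrivialRelation.1 hflat hrelk
  refine ⟨κ, fun i m => ιC k (a i m), fun m => ιA k (y m), ?_, ?_⟩
  · intro i
    have hyi : tA (x' i) = ∑ m, a i m • y m := hy i
    show x i = ∑ m, ιC k (a i m) • ιA k (y m)
    rw [← hx', ← h2, hyi, map_sum]
    apply Finset.sum_congr rfl
    intro m _
    rw [hsmul, hsmulk, map_mul, hcomm]
  · intro m
    have ham : ∑ i, tC (f' i) * a i m = 0 := ha m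
    have := congrArg (ιC k) ham
    rw [map_sum, map_zero] at this
    show ∑ i, f i * ιC k (a i m) = 0
    rw [← this]
    apply Finset.sum_congr rfl
    intro i _
    rw [map_mul, h1, hf']

include hcomm H1 H2 in
theorem comap_surjective_of_directed (hff : ∀ j, (φ j).FaithfullyFlat) :
    Function.Surjective (PrimeSpectrum.comap Φ) := by
  classical
  intro p
  have hmem : p ∈ Set.range (PrimeSpectrum.comap Φ) := by
    rw [PrimeSpectrum.mem_range_comap_iff]
    apply le_antisymm _ Ideal.le_comap_map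
    intro c hc
    rw [Ideal.mem_comap, Ideal.map, Ideal.span, Finsupp.mem_span_image_iff_linearCombination] at hc
    obtain ⟨l, hl, hlc⟩ := hc
    rw [Finsupp.linearCombination_apply, Finsupp.sum, ← Finset.sum_coe_sort] at hlc
    obtain ⟨j, hs, ht⟩ := H1 (insert c l.support) (l.support.image l)
    obtain ⟨c', hc'⟩ := hs c (Finset.mem_insert_self _ _)
    choose d' hd' using fun d : l.support => hs d (Finset.mem_insert_of_mem d.2)
    choose la' hla' using fun d : l.support => ht (l d) (Finset.mem_image_of_mem l d.2)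
    have h0 : ιA j (φ j c' - ∑ d : l.support, la' d * φ j (d' d)) = 0 := by
      rw [map_sub, map_sum, ← hcomm, hc', ← hlc, sub_eq_zero]
      apply Finset.sum_congr rfl
      intro d _
      rw [map_mul, hla', ← hcomm, hd', smul_eq_mul]
    obtain ⟨k, tC, tA, h1, h2, h3, h4⟩ := H2 j _ h0
    rw [map_sub, map_sum, sub_eq_zero] at h4
    letI := (φ k).toAlgebra
    haveI hffk : Module.FaithfullyFlat (Cj k) (Aj k) := hff k
    let pk : Ideal (Cj k) := p.asIdeal.comap (ιC k)
    have hmemk : tC c' ∈ (pk.map (algebraMap (Cj k) (Aj k))).comap (algebraMap (Cj k) (Aj k)) := by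
      rw [Ideal.mem_comap]
      show φ k (tC c') ∈ pk.map (φ k)
      rw [h3, h4]
      apply Submodule.sum_mem
      intro d _
      rw [map_mul, ← h3]
      apply Ideal.mul_mem_left
      apply Ideal.mem_map_of_mem
      show ιC k (tC (d' d)) ∈ p.asIdeal
      rw [h1, hd']
      exact hl d.2
    rw [Ideal.comap_map_eq_self_of_faithfullyFlat] at hmemk
    have : ιC k (tC c') ∈ p.asIdeal := hmemk
    rw [h1, hc'] at this
    exact this
  exact hmem

include hcomm H1 H2 in
theorem faithfullyFlat_of_directed (hff : ∀ j, (φ j).FaithfullyFlat) : Φ.FaithfullyFlat := by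
  rw [RingHom.FaithfullyFlat.iff_flat_and_comap_surjective]
  exact ⟨flat_of_directed Φ φ ιC ιA hcomm H1 H2 (fun j => (hff j).flat),
    comap_surjective_of_directed Φ φ ιC ιA hcomm H1 H2 hff⟩

end Groth.Agent.Lib.Helper84.ColimFF
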