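import Mathlib
import Groth.Agent.Lib.Helper84.HopfFFInf

set_option autoImplicit false
set_option linter.style.haveILetI false
set_option linter.unusedSectionVars false
open TensorProduct WithConv
open Groth.Agent.Lib.Helper86.HopfInv Groth.Agent.Lib.Helper84.HopfFFInf
universe u v₁ v₂ v₃

namespace Groth.Agent.Lib.Helper84.HopfFFDescent

open Coalgebra Bialgebra HopfAlgebra

section LiftRingHom

variable {R₀ : Type*} {A₀ : Type*} {B₀ : Type*} {T₀ : Type*} [CommRing R₀] [CommRing A₀]
  [CommRing B₀] [CommRing T₀] [Algebra R₀ A₀] [Algebra R₀ B₀]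

/-- the universal property of the tensor product of commutative rings, for ring homs. -/
noncomputable def liftRingHom (f : A₀ →+* T₀) (g : B₀ →+* T₀)
    (h : f.comp (algebraMap R₀ A₀) = g.comp (algebraMap R₀ B₀)) : A₀ ⊗[R₀] B₀ →+* T₀ :=
  letI : Algebra R₀ T₀ := (f.comp (algebraMap R₀ A₀)).toAlgebra
  (Algebra.TensorProduct.lift
    ({ f with commutes' := fun _ => rfl } : A₀ →ₐ[R₀] T₀)
    ({ g with commutes' := fun r => (RingHom.congr_fun h r).symm } : B₀ →ₐ[R₀] T₀)
    (fun _ _ => Commute.all _ _)).toRingHom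

theorem liftRingHom_tmul (f : A₀ →+* T₀) (g : B₀ →+* T₀)
    (h : f.comp (algebraMap R₀ A₀) = g.comp (algebraMap R₀ B₀)) (a : A₀) (b : B₀) :
    liftRingHom f g h (a ⊗ₜ[R₀] b) = f a * g b := by
  unfold liftRingHom
  letI : Algebra R₀ T₀ := (f.comp (algebraMap R₀ A₀)).toAlgebra
  simp only [AlgHom.toRingHom_eq_coe, RingHom.coe_coe, Algebra.TensorProduct.lift_tmul]
  rfl

end LiftRingHom

section ConvCancel

variable {k : Type u} [CommRing k] {B : Type v₂} [CommRing B] [HopfAlgebra k B]
  {T : Type*} [CommRing T] [Algebra k T]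

theorem conv_cancel_right (g h : B →ₐ[k] T) :
    toConv g * toConv h * toConv (h.comp (antipodeAlgHom k B)) = toConv g := by
  rw [mul_assoc, conv_mul_antipode, mul_one]

theorem conv_cancel_right' (g h : B →ₐ[k] T) :
    toConv g * toConv (h.comp (antipodeAlgHom k B)) * toConv h = toConv g := by
  rw [mul_assoc, conv_antipode_mul, mul_one]

end ConvCancel

section Theta

variable {k : Type u} [Field k]
  {C : Type v₁} [CommRing C] [HopfAlgebra k C]
  {B : Type v₂} [CommRing B] [HopfAlgebra k B] [Algebra C B] [IsScalarTower k C B]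
  (j : C →ₐc[k] B) (hj : ∀ c, algebraMap C B c = j c)
  (R : Type v₃) [CommRing R] [Algebra k R] [Algebra C R] [Algebra B R]
  [IsScalarTower k C R] [IsScalarTower C B R] [IsScalarTower k B R]

/-- the structure map `B → R` as a `k`-algebra map. -/
noncomputable abbrev xR : B →ₐ[k] R := IsScalarTower.toAlgHom k B R

variable (k C B) in
/-- the quotient `B / C⁺B`. -/
abbrev Bbar : Type v₂ := B ⧸ augMap k B C

/-- `b ↦ Σ π(b₁) ⊗ x(b₂)`. -/
noncomputable def thetaB : B →ₐ[k] (Bbar k C B) ⊗[k] R :=
  (Algebra.TensorProduct.map (Ideal.Quotient.mkₐ k (augMap k B C)) (xR (k := k) (B := B) R)).comp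
    (comulAlgHom k B)

include hj in
theorem thetaB_j (c : C) : thetaB (k := k) (C := C) (B := B) R (j c) =
    (1 : Bbar k C B) ⊗ₜ[k] algebraMap C R c := by
  unfold thetaB
  rw [AlgHom.comp_apply, comulAlgHom_apply]
  have h1 : comul (R := k) (j c) = TensorProduct.map (j : C →ₗ[k] B) (j : C →ₗ[k] B)
      (comul (R := k) c) := (CoalgHomClass.map_comp_comul_apply j c).symm
  rw [h1]
  have hmk : ∀ c : C, Ideal.Quotient.mk (augMap k B C) (j c) =
      algebraMap k (Bbar k C B) (counit c) := mk_f j hj
  have hx : ∀ c : C, xR (k := k) (B := B) R (j c) = algebraMap C R c := by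
    intro c
    rw [← hj]
    exact (IsScalarTower.algebraMap_apply C B R c).symm
  have h2 : (Algebra.TensorProduct.map (Ideal.Quotient.mkₐ k (augMap k B C))
      (xR (k := k) (B := B) R)).toLinearMap ∘ₗ
      TensorProduct.map (j : C →ₗ[k] B) (j : C →ₗ[k] B) =
      (TensorProduct.map (Algebra.linearMap k (Bbar k C B))
        ((IsScalarTower.toAlgHom k C R).toLinearMap)) ∘ₗ
        (counit (R := k) (A := C)).rTensor C := by
    ext x y
    simp [hmk, hx]
  have h3 := LinearMap.congr_fun h2 (comul (R := k) c)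
  rw [LinearMap.comp_apply, LinearMap.comp_apply, Coalgebra.rTensor_counit_comul,
    AlgHom.toLinearMap_apply] at h3
  rw [h3]
  simp

/-- `θ : B ⊗_C R → B̄ ⊗_k R`, `b ⊗ r ↦ Σ π(b₁) ⊗ x(b₂) r`. -/
noncomputable def theta : B ⊗[C] R →+* (Bbar k C B) ⊗[k] R :=
  liftRingHom (thetaB (k := k) (C := C) (B := B) R).toRingHom
    (Algebra.TensorProduct.includeRight : R →ₐ[k] (Bbar k C B) ⊗[k] R).toRingHom
    (by
      ext c
      change thetaB (k := k) (C := C) (B := B) R (algebraMap C B c) = _
      rw [hj, thetaB_j j hj]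
      rfl)

theorem theta_tmul (b : B) (r : R) : theta j hj R (b ⊗ₜ[C] r) =
    thetaB (k := k) (C := C) (B := B) R b * ((1 : Bbar k C B) ⊗ₜ[k] r) := by
  unfold theta
  rw [liftRingHom_tmul]
  rfl

/-- `B → B ⊗_C R`, `b ↦ b ⊗ 1`. -/
noncomputable abbrev inL : B →ₐ[k] B ⊗[C] R := Algebra.TensorProduct.includeLeft

/-- `R → B ⊗_C R`, `r ↦ 1 ⊗ r`. -/
noncomputable abbrev inR : R →ₐ[k] B ⊗[C] R :=
  (Algebra.TensorProduct.includeRight : R →ₐ[C] B ⊗[C] R).restrictScalars k

/-- `b ↦ Σ b₁ ⊗ x(S b₂)`. -/
noncomputable def betaP : B →ₐ[k] B ⊗[C] R :=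
  (toConv (inL (k := k) (C := C) (B := B) R) *
    toConv (((inR (k := k) (C := C) (B := B) R).comp (xR (k := k) (B := B) R)).comp
      (antipodeAlgHom k B))).ofConv

include hj in
theorem inL_comp_j : (inL (k := k) (C := C) (B := B) R).comp (j : C →ₐ[k] B) =
    ((inR (k := k) (C := C) (B := B) R).comp (xR (k := k) (B := B) R)).comp (j : C →ₐ[k] B) := by
  ext c
  simp only [AlgHom.comp_apply]
  change (j c) ⊗ₜ[C] (1 : R) = (1 : B) ⊗ₜ[C] (algebraMap B R (j c))
  rw [← hj, ← IsScalarTower.algebraMap_apply, Algebra.algebraMap_eq_smul_one,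
    Algebra.algebraMap_eq_smul_one, TensorProduct.smul_tmul]

omit [IsScalarTower k C B] in
theorem antipode_comp_bialgHom {T : Type*} [CommRing T] [Algebra k T] (g : B →ₐ[k] T) :
    (g.comp (antipodeAlgHom k B)).comp (j : C →ₐ[k] B) =
      (g.comp (j : C →ₐ[k] B)).comp (antipodeAlgHom k C) := by
  ext c
  simp only [AlgHom.comp_apply, antipodeAlgHom_apply]
  exact congrArg g (bialgHom_antipode j c).symm

include hj in
theorem betaP_comp_j : (betaP (k := k) (C := C) (B := B) R).comp (j : C →ₐ[k] B) =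
    (1 : WithConv (C →ₐ[k] B ⊗[C] R)).ofConv := by
  unfold betaP
  rw [AlgHom.convMul_comp_bialgHom_distrib, ofConv_toConv, ofConv_toConv,
    antipode_comp_bialgHom, inL_comp_j j hj, conv_mul_antipode]

include hj in
theorem betaP_j (c : C) : betaP (k := k) (C := C) (B := B) R (j c) =
    algebraMap k (B ⊗[C] R) (counit c) := by
  have h := AlgHom.congr_fun (betaP_comp_j j hj R) c
  exact h

include hj in
theorem betaP_mem (a : B) (ha : a ∈ augMap k B C) :
    betaP (k := k) (C := C) (B := B) R a = 0 := by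
  have hle : augMap k B C ≤ RingHom.ker (betaP (k := k) (C := C) (B := B) R) := by
    rw [augMap, Ideal.map_le_iff_le_comap]
    intro c hc
    rw [Ideal.mem_comap, RingHom.mem_ker, hj, betaP_j j hj]
    have : counit (R := k) c = 0 := hc
    rw [this, map_zero]
  exact hle ha

/-- `θ' : B̄ ⊗_k R → B ⊗_C R`, `π b ⊗ r ↦ Σ b₁ ⊗ x(S b₂) r`. -/
noncomputable def thetaP : (Bbar k C B) ⊗[k] R →ₐ[k] B ⊗[C] R :=
  Algebra.TensorProduct.lift
    (Ideal.Quotient.liftₐ (augMap k B C) (betaP (k := k) (C := C) (B := B) R)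
      (betaP_mem j hj R))
    (inR (k := k) (C := C) (B := B) R) (fun _ _ => Commute.all _ _)

theorem thetaP_tmul (b : B) (r : R) :
    thetaP j hj R ((Ideal.Quotient.mk (augMap k B C) b) ⊗ₜ[k] r) =
      betaP (k := k) (C := C) (B := B) R b * ((1 : B) ⊗ₜ[C] r) := by
  unfold thetaP
  rw [Algebra.TensorProduct.lift_tmul]
  rfl

/-- `θ` as a `k`-algebra map. -/
noncomputable def thetaA : B ⊗[C] R →ₐ[k] (Bbar k C B) ⊗[k] R :=
  { theta j hj R with
    commutes' := fun r => by
      change theta j hj R ((algebraMap k B r) ⊗ₜ[C] (1 : R)) = _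
      rw [theta_tmul, AlgHom.commutes]
      simp }

theorem thetaA_tmul (b : B) (r : R) : thetaA j hj R (b ⊗ₜ[C] r) =
    thetaB (k := k) (C := C) (B := B) R b * ((1 : Bbar k C B) ⊗ₜ[k] r) :=
  theta_tmul j hj R b r

/-- `thetaB = (inL' ∘ π) * (inR' ∘ x)`. -/
theorem thetaB_eq_conv : thetaB (k := k) (C := C) (B := B) R =
    (toConv ((Algebra.TensorProduct.includeLeft : Bbar k C B →ₐ[k] (Bbar k C B) ⊗[k] R).comp
        (Ideal.Quotient.mkₐ k (augMap k B C))) *
      toConv ((Algebra.TensorProduct.includeRight : R →ₐ[k] (Bbar k C B) ⊗[k] R).comp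
        (xR (k := k) (B := B) R))).ofConv := by
  unfold thetaB
  rw [AlgHom.convMul_def, ofConv_toConv]
  rw [← AlgHom.comp_assoc]
  congr 1
  ext <;> simp

theorem thetaA_comp_thetaP : (thetaA j hj R).comp (thetaP j hj R) = AlgHom.id k _ := by
  apply Algebra.TensorProduct.ext
  · apply Ideal.Quotient.algHom_ext
    -- equality of maps `B → B̄ ⊗ R`
    have h1 : (((thetaA j hj R).comp (thetaP j hj R)).comp
        (Algebra.TensorProduct.includeLeft : Bbar k C B →ₐ[k] (Bbar k C B) ⊗[k] R)).comp
        (Ideal.Quotient.mkₐ k (augMap k B C)) =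
        (thetaA j hj R).comp (betaP (k := k) (C := C) (B := B) R) := by
      ext b
      simp only [AlgHom.comp_apply, Algebra.TensorProduct.includeLeft_apply,
        Ideal.Quotient.mkₐ_eq_mk]
      rw [thetaP_tmul, ← Algebra.TensorProduct.one_def, mul_one]
    rw [h1]
    unfold betaP
    rw [AlgHom.comp_convMul_distrib, ofConv_toConv, ofConv_toConv]
    have h2 : (thetaA j hj R).comp (inL (k := k) (C := C) (B := B) R) =
        thetaB (k := k) (C := C) (B := B) R := by
      ext b
      simp only [AlgHom.comp_apply, Algebra.TensorProduct.includeLeft_apply]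
      rw [thetaA_tmul, ← Algebra.TensorProduct.one_def, mul_one]
    have h3 : (thetaA j hj R).comp (((inR (k := k) (C := C) (B := B) R).comp
        (xR (k := k) (B := B) R)).comp (antipodeAlgHom k B)) =
        ((Algebra.TensorProduct.includeRight : R →ₐ[k] (Bbar k C B) ⊗[k] R).comp
          (xR (k := k) (B := B) R)).comp (antipodeAlgHom k B) := by
      ext b
      simp only [AlgHom.comp_apply]
      change thetaA j hj R ((1 : B) ⊗ₜ[C] _) = _
      rw [thetaA_tmul, map_one, one_mul]
      rfl
    rw [h2, h3, thetaB_eq_conv, toConv_ofConv, conv_cancel_right, ofConv_toConv]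
    rfl
  · ext r
    simp only [AlgHom.comp_apply, AlgHom.restrictScalars_apply,
      Algebra.TensorProduct.includeRight_apply, AlgHom.id_apply]
    have : ((1 : Bbar k C B) ⊗ₜ[k] r) = (Ideal.Quotient.mk (augMap k B C) 1) ⊗ₜ[k] r := rfl
    rw [this, thetaP_tmul, map_one, one_mul, thetaA_tmul, map_one, one_mul]
    rfl

theorem thetaP_comp_thetaB : (thetaP j hj R).comp (thetaB (k := k) (C := C) (B := B) R) =
    inL (k := k) (C := C) (B := B) R := by
  rw [thetaB_eq_conv, AlgHom.comp_convMul_distrib, ofConv_toConv, ofConv_toConv]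
  have h2 : (thetaP j hj R).comp
      ((Algebra.TensorProduct.includeLeft : Bbar k C B →ₐ[k] (Bbar k C B) ⊗[k] R).comp
        (Ideal.Quotient.mkₐ k (augMap k B C))) = betaP (k := k) (C := C) (B := B) R := by
    ext b
    simp only [AlgHom.comp_apply, Algebra.TensorProduct.includeLeft_apply,
      Ideal.Quotient.mkₐ_eq_mk]
    rw [thetaP_tmul, ← Algebra.TensorProduct.one_def, mul_one]
  have h3 : (thetaP j hj R).comp
      ((Algebra.TensorProduct.includeRight : R →ₐ[k] (Bbar k C B) ⊗[k] R).comp
        (xR (k := k) (B := B) R)) =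
      (inR (k := k) (C := C) (B := B) R).comp (xR (k := k) (B := B) R) := by
    ext b
    simp only [AlgHom.comp_apply, Algebra.TensorProduct.includeRight_apply]
    have : ((1 : Bbar k C B) ⊗ₜ[k] (xR (k := k) (B := B) R b)) =
        (Ideal.Quotient.mk (augMap k B C) 1) ⊗ₜ[k] (xR (k := k) (B := B) R b) := rfl
    rw [this, thetaP_tmul, map_one, one_mul]
    rfl
  rw [h2, h3]
  unfold betaP
  rw [toConv_ofConv, conv_cancel_right', ofConv_toConv]

theorem thetaP_comp_thetaA : (thetaP j hj R).comp (thetaA j hj R) = AlgHom.id k _ := by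
  apply AlgHom.coe_ringHom_injective
  apply Algebra.TensorProduct.ringHom_ext
  · ext b
    simp only [RingHom.comp_apply, AlgHom.comp_apply, RingHom.coe_coe,
      Algebra.TensorProduct.includeLeftRingHom_apply, AlgHom.id_apply]
    rw [thetaA_tmul, ← Algebra.TensorProduct.one_def, mul_one]
    exact AlgHom.congr_fun (thetaP_comp_thetaB j hj R) b
  · ext r
    simp only [RingHom.comp_apply, AlgHom.comp_apply, RingHom.coe_coe,
      AlgHom.toRingHom_eq_coe, Algebra.TensorProduct.includeRight_apply, AlgHom.id_apply]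
    rw [thetaA_tmul, map_one, one_mul]
    have : ((1 : Bbar k C B) ⊗ₜ[k] r) = (Ideal.Quotient.mk (augMap k B C) 1) ⊗ₜ[k] r := rfl
    rw [this, thetaP_tmul, map_one, one_mul]

/-- **The torsor trivialisation** `B ⊗_C R ≃ (B / C⁺B) ⊗_k R`. -/
noncomputable def thetaEquiv : B ⊗[C] R ≃ₐ[k] (Bbar k C B) ⊗[k] R :=
  AlgEquiv.ofAlgHom (thetaA j hj R) (thetaP j hj R) (thetaA_comp_thetaP j hj R)
    (thetaP_comp_thetaA j hj R)

theorem thetaEquiv_tmul (b : B) (r : R) : thetaEquiv j hj R (b ⊗ₜ[C] r) =
    thetaB (k := k) (C := C) (B := B) R b * ((1 : Bbar k C B) ⊗ₜ[k] r) :=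
  theta_tmul j hj R b r

end Theta

section LemmaD

/-- flatness descends along a faithfully flat base change (pushout form). -/
theorem flat_of_isPushout (R S R' S' : Type*) [CommRing R] [CommRing S] [CommRing R']
    [CommRing S'] [Algebra R S] [Algebra R R'] [Algebra S S'] [Algebra R' S'] [Algebra R S']
    [IsScalarTower R R' S'] [IsScalarTower R S S'] [Algebra.IsPushout R S R' S']
    [Module.FaithfullyFlat R S] [Module.Flat S S'] : Module.Flat R R' := by
  haveI : Module.Flat S (S ⊗[R] R') :=
    Module.Flat.of_linearEquiv (Algebra.IsPushout.equiv R S R' S').toLinearEquiv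
  exact Module.Flat.of_flat_tensorProduct R R' S

end LemmaD

section Square

variable {k : Type u} [Field k]
  {C : Type v₁} [CommRing C] [HopfAlgebra k C]
  {B : Type v₂} [CommRing B] [HopfAlgebra k B] [Algebra C B] [IsScalarTower k C B]
  {A : Type v₃} [CommRing A] [HopfAlgebra k A] [Algebra C A] [IsScalarTower k C A]
  [Algebra B A] [IsScalarTower C B A] [IsScalarTower k B A]
  (jB : C →ₐc[k] B) (hjB : ∀ c, algebraMap C B c = jB c)
  (jA : C →ₐc[k] A) (hjA : ∀ c, algebraMap C A c = jA c)
  (f : B →ₐc[k] A) (hfa : ∀ b, algebraMap B A b = f b)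

include hfa in
theorem augMap_le_comap :
    augMap k B C ≤ Ideal.comap (f : B →ₐ[k] A) (augMap k A C) := by
  rw [augMap, Ideal.map_le_iff_le_comap]
  intro c hc
  rw [Ideal.mem_comap, Ideal.mem_comap]
  change f (algebraMap C B c) ∈ _
  rw [← hfa, ← IsScalarTower.algebraMap_apply]
  exact Ideal.mem_map_of_mem _ hc

variable (C) in
/-- the induced map `B / C⁺B → A / C⁺A`. -/
noncomputable def fbar : Bbar k C B →ₐ[k] Bbar k C A :=
  Ideal.quotientMapₐ (augMap k A C) (f : B →ₐ[k] A) (augMap_le_comap f hfa)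

theorem fbar_mk (b : B) : fbar C f hfa (Ideal.Quotient.mk (augMap k B C) b) =
    Ideal.Quotient.mk (augMap k A C) (f b) := rfl

/-- the map `B ⊗_C A → A ⊗_C A`. -/
noncomputable abbrev mapC : B ⊗[C] A →ₐ[C] A ⊗[C] A :=
  Algebra.TensorProduct.map (IsScalarTower.toAlgHom C B A) (AlgHom.id C A)

include hfa in
theorem fbar_thetaB (b : B) :
    Algebra.TensorProduct.map (fbar C f hfa) (AlgHom.id k A)
      (thetaB (k := k) (C := C) (B := B) A b) =
      thetaB (k := k) (C := C) (B := A) A (f b) := by
  unfold thetaB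
  simp only [AlgHom.comp_apply, comulAlgHom_apply]
  have h1 : comul (R := k) (f b) = TensorProduct.map (f : B →ₗ[k] A) (f : B →ₗ[k] A)
      (comul (R := k) b) := (CoalgHomClass.map_comp_comul_apply f b).symm
  rw [h1]
  generalize comul (R := k) b = z
  induction z using TensorProduct.induction_on with
  | zero => simp
  | tmul x y =>
    simp only [Algebra.TensorProduct.map_tmul, TensorProduct.map_tmul, Ideal.Quotient.mkₐ_eq_mk,
      AlgHom.id_apply]
    rw [fbar_mk]
    congr 1
    change algebraMap B A y = algebraMap A A (f y)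
    rw [hfa]
    rfl
  | add x y hx hy => simp only [map_add, hx, hy]

include hfa in
/-- the compatibility square of the two torsor trivialisations. -/
theorem square (z : B ⊗[C] A) :
    Algebra.TensorProduct.map (fbar C f hfa) (AlgHom.id k A) (thetaEquiv jB hjB A z) =
      thetaEquiv jA hjA A (mapC (C := C) (B := B) (A := A) z) := by
  induction z using TensorProduct.induction_on with
  | zero => simp
  | tmul b a =>
    rw [thetaEquiv_tmul, map_mul, fbar_thetaB f hfa, Algebra.TensorProduct.map_tmul,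
      Algebra.TensorProduct.map_tmul, thetaEquiv_tmul]
    simp only [map_one, AlgHom.id_apply]
    congr 2
    change f b = algebraMap B A b
    rw [hfa]
  | add x y hx hy => simp only [map_add, hx, hy]

include hfa in
theorem mapC_injective [Module.Flat C A] (hf : Function.Injective f) :
    Function.Injective (mapC (C := C) (B := B) (A := A)) := by
  have hf' : Function.Injective (IsScalarTower.toAlgHom C B A).toLinearMap := by
    intro x y hxy
    apply hf
    rw [← hfa, ← hfa]
    exact hxy
  have h := Module.Flat.rTensor_preserves_injective_linearMap (M := A) _ hf'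
  have he : ∀ z : B ⊗[C] A, mapC (C := C) (B := B) (A := A) z =
      (IsScalarTower.toAlgHom C B A).toLinearMap.rTensor A z := by
    intro z
    induction z using TensorProduct.induction_on with
    | zero => simp
    | tmul x y => simp
    | add x y hx hy => simp only [map_add, hx, hy]
  intro z w hzw
  rw [he, he] at hzw
  exact h hzw

include hfa hjB hjA in
theorem map_fbar_injective [Module.Flat C A] (hf : Function.Injective f) :
    Function.Injective (Algebra.TensorProduct.map (fbar C f hfa) (AlgHom.id k A)) := by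
  intro z w hzw
  obtain ⟨z', rfl⟩ := (thetaEquiv jB hjB A).surjective z
  obtain ⟨w', rfl⟩ := (thetaEquiv jB hjB A).surjective w
  rw [square jB hjB jA hjA f hfa, square jB hjB jA hjA f hfa] at hzw
  have := mapC_injective f hfa hf ((thetaEquiv jA hjA A).injective hzw)
  rw [this]

include hfa hjB hjA in
/-- `B / C⁺B → A / C⁺A` is injective when `A` is flat over `C`. -/
theorem fbar_injective [Module.Flat C A] (hf : Function.Injective f) :
    Function.Injective (fbar C f hfa) := by
  intro x y hxy
  have h1 : (x ⊗ₜ[k] (1 : A)) = y ⊗ₜ[k] (1 : A) := by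
    apply map_fbar_injective jB hjB jA hjA f hfa hf
    simp [hxy]
  haveI : Nontrivial A := by
    by_contra hn
    rw [not_nontrivial_iff_subsingleton] at hn
    have h01 : (0 : A) = 1 := Subsingleton.elim _ _
    have := congrArg (Bialgebra.counitAlgHom k A) h01
    simp at this
  exact Algebra.TensorProduct.includeLeft_injective (S := k) (algebraMap k A).injective h1

include hfa hjB hjA in
/-- **Descent of flatness**: if `A` is faithfully flat over `C` and `A / C⁺A` is flat over
`B / C⁺B`, then `A` is flat over `B`. -/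
theorem flat_of_fbar_flat [Module.FaithfullyFlat C A]
    (hflat : (fbar C f hfa : Bbar k C B →+* Bbar k C A).Flat) : Module.Flat B A := by
  letI algST : Algebra (B ⊗[C] A) (A ⊗[C] A) :=
    (mapC (C := C) (B := B) (A := A)).toRingHom.toAlgebra
  haveI tower : IsScalarTower B (B ⊗[C] A) (A ⊗[C] A) :=
    IsScalarTower.of_algebraMap_eq (fun b => by
      change (algebraMap B A b) ⊗ₜ[C] (1 : A) =
        mapC (C := C) (B := B) (A := A) (b ⊗ₜ[C] (1 : A))
      simp)
  haveI hpo : Algebra.IsPushout B A (B ⊗[C] A) (A ⊗[C] A) :=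
    Algebra.IsPushout.tensorProduct_tensorProduct C A B A (by
      ext a
      change mapC (C := C) (B := B) (A := A) ((1 : B) ⊗ₜ[C] a) = (1 : A) ⊗ₜ[C] a
      simp)
  haveI hpo' : Algebra.IsPushout B (B ⊗[C] A) A (A ⊗[C] A) := hpo.symm
  -- flatness of `B ⊗_C A → A ⊗_C A`
  have h1 : (Algebra.TensorProduct.map (fbar C f hfa) (AlgHom.id k A)).toRingHom.Flat :=
    RingHom.Flat.tensorProductMap hflat (RingHom.Flat.id A)
  have h2 : (mapC (C := C) (B := B) (A := A)).toRingHom =
      ((thetaEquiv jA hjA A).symm.toRingEquiv.toRingHom.comp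
        (Algebra.TensorProduct.map (fbar C f hfa) (AlgHom.id k A)).toRingHom).comp
        (thetaEquiv jB hjB A).toRingEquiv.toRingHom := by
    refine RingHom.ext fun z => ?_
    simp only [AlgHom.toRingHom_eq_coe, RingHom.coe_coe, RingHom.comp_apply,
      RingEquiv.toRingHom_eq_coe, AlgEquiv.coe_ringEquiv]
    rw [square jB hjB jA hjA f hfa, AlgEquiv.symm_apply_apply]
  have h3 : (mapC (C := C) (B := B) (A := A)).toRingHom.Flat := by
    rw [h2]
    refine RingHom.Flat.comp (.of_bijective (AlgEquiv.bijective _)) (RingHom.Flat.comp h1 ?_)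
    exact .of_bijective (AlgEquiv.bijective _)
  haveI : Module.Flat (B ⊗[C] A) (A ⊗[C] A) := h3
  exact flat_of_isPushout B (B ⊗[C] A) A (A ⊗[C] A)

include hfa hjB hjA in
/-- `fbar` as a map of Hopf algebras. -/
theorem exists_fbar_bialgHom :
    haveI : (augMap k B C).IsHopfIdeal k := isHopfIdeal_augMap jB hjB
    haveI : (augMap k A C).IsHopfIdeal k := isHopfIdeal_augMap jA hjA
    ∃ fb : Bbar k C B →ₐc[k] Bbar k C A, ∀ x, fb x = fbar C f hfa x := by
  haveI : (augMap k B C).IsHopfIdeal k := isHopfIdeal_augMap jB hjB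
  haveI : (augMap k A C).IsHopfIdeal k := isHopfIdeal_augMap jA hjA
  refine ⟨BialgHom.ofAlgHom (fbar C f hfa) ?_ ?_, fun x => rfl⟩
  · apply Ideal.Quotient.algHom_ext
    ext b
    simp only [AlgHom.comp_apply, Ideal.Quotient.mkₐ_eq_mk, fbar_mk, counitAlgHom_apply,
      Bialgebra.Quotient.counit_mk]
    exact CoalgHomClass.counit_comp_apply f b
  · apply Ideal.Quotient.algHom_ext
    ext b
    simp only [AlgHom.comp_apply, Ideal.Quotient.mkₐ_eq_mk, fbar_mk, comulAlgHom_apply,
      Bialgebra.Quotient.comul_mk]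
    have h1 : comul (R := k) (f b) = TensorProduct.map (f : B →ₗ[k] A) (f : B →ₗ[k] A)
        (comul (R := k) b) := (CoalgHomClass.map_comp_comul_apply f b).symm
    rw [h1]
    generalize comul (R := k) b = z
    induction z using TensorProduct.induction_on with
    | zero => simp
    | tmul x y => simp [fbar_mk]
    | add x y hx hy => simp only [map_add, hx, hy]

include hfa hjB hjA in
/-- **Flatness over a Hopf subalgebra which is infinitesimal modulo a good Hopf subalgebra.** -/
theorem flat_of_pow_le [Module.FaithfullyFlat C A] (hf : Function.Injective f) (N : ℕ)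
    (hN : (augIdeal k B) ^ N ≤ augMap k B C) : Module.Flat B A := by
  haveI hB : (augMap k B C).IsHopfIdeal k := isHopfIdeal_augMap jB hjB
  haveI hA : (augMap k A C).IsHopfIdeal k := isHopfIdeal_augMap jA hjA
  obtain ⟨fb, hfb⟩ := exists_fbar_bialgHom jB hjB jA hjA f hfa
  letI : Algebra (Bbar k C B) (Bbar k C A) := (fbar C f hfa).toRingHom.toAlgebra
  haveI : IsScalarTower k (Bbar k C B) (Bbar k C A) :=
    IsScalarTower.of_algebraMap_eq (fun r => ((fbar C f hfa).commutes r).symm)
  have hinj : Function.Injective fb := by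
    intro x y hxy
    rw [hfb, hfb] at hxy
    exact fbar_injective jB hjB jA hjA f hfa hf hxy
  have hN' : (augIdeal k (Bbar k C B)) ^ N = ⊥ := by
    have h1 : augIdeal k (Bbar k C B) =
        Ideal.map (Ideal.Quotient.mk (augMap k B C)) (augIdeal k B) := by
      apply le_antisymm
      · intro x hx
        obtain ⟨b, rfl⟩ := Ideal.Quotient.mk_surjective x
        apply Ideal.mem_map_of_mem
        exact hx
      · rw [Ideal.map_le_iff_le_comap]
        intro b hb
        exact hb
    rw [h1, ← Ideal.map_pow, eq_bot_iff]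
    refine le_trans (Ideal.map_mono hN) ?_
    rw [Ideal.map_quotient_self]
  have hfree : Module.Free (Bbar k C B) (Bbar k C A) :=
    free_of_nilpotent fb (fun b => (hfb b).symm) hinj N hN'
  have hflat : (fbar C f hfa : Bbar k C B →+* Bbar k C A).Flat := by
    change Module.Flat (Bbar k C B) (Bbar k C A)
    infer_instance
  exact flat_of_fbar_flat jB hjB jA hjA f hfa hflat

end Square

end Groth.Agent.Lib.Helper84.HopfFFDescent
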