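import Mathlib
import Groth.Agent.Lib.Helper84.HopfFFTrans
import Groth.Agent.Lib.Helper91.GenericFreenessReduced

/-!
# Faithful flatness over a reduced Hopf subalgebra (helper84)

`k` algebraically closed, `A`, `B` finitely generated commutative Hopf algebras over `k`, `B` reduced,
`f : B → A` an injective bialgebra map.  Then `A` is faithfully flat over `B`
(`faithfullyFlat_of_reduced`) and every rational point of `B` lifts to `A` (`exists_lift`).

Proof: generic freeness over the reduced ring `B` (helper91) gives a dense open of `Spec B` over which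
`A` is free; translating by rational points of `A` gives flatness everywhere; two dense opens of
`Spec B` meet, which gives surjectivity on rational points.
-/

set_option autoImplicit false
set_option linter.style.haveILetI false
set_option linter.unusedSectionVars false

namespace Groth.Agent.Lib.Helper84.HopfFFReduced

open TensorProduct WithConv
universe u v w

section Loc
variable {R : Type v} {A : Type w} [CommRing R] [CommRing A] [Algebra R A]

theorem flat_away_of_free (f : R)
    [Module.Free (Localization.Away f) (LocalizedModule (Submonoid.powers f) A)] :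
    Module.Flat R (Localization.Away (algebraMap R A f)) := by
  haveI : IsLocalization (Algebra.algebraMapSubmonoid A (Submonoid.powers f))
      (Localization.Away (algebraMap R A f)) := by
    rw [Algebra.algebraMapSubmonoid, Submonoid.map_powers]; infer_instance
  haveI : IsLocalizedModule (Submonoid.powers f)
      (IsScalarTower.toAlgHom R A (Localization.Away (algebraMap R A f))).toLinearMap :=
    (isLocalizedModule_iff_isLocalization).mpr inferInstance
  let e : LocalizedModule (Submonoid.powers f) A ≃ₗ[R] Localization.Away (algebraMap R A f) :=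
    IsLocalizedModule.iso (Submonoid.powers f)
      (IsScalarTower.toAlgHom R A (Localization.Away (algebraMap R A f))).toLinearMap
  haveI : Module.Flat R (LocalizedModule (Submonoid.powers f) A) :=
    Module.Flat.trans R (Localization.Away f) _
  exact Module.Flat.of_linearEquiv e.symm

end Loc

section Transfer
variable {R : Type v} {A : Type w} [CommRing R] [CommRing A] [Algebra R A]

theorem flat_away_of_equiv (eA : A ≃+* A) (eR : R ≃+* R)
    (h : ∀ r, algebraMap R A (eR r) = eA (algebraMap R A r)) (t₀ : A)
    [Module.Flat R (Localization.Away t₀)] : Module.Flat R (Localization.Away (eA t₀)) := by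
  have hmap : (Submonoid.powers t₀).map eA.toMonoidHom = Submonoid.powers (eA t₀) := by
    rw [Submonoid.map_powers]; rfl
  let ε : Localization.Away t₀ ≃+* Localization.Away (eA t₀) :=
    IsLocalization.ringEquivOfRingEquiv (M := Submonoid.powers t₀) (T := Submonoid.powers (eA t₀))
      (Localization.Away t₀) (Localization.Away (eA t₀)) eA hmap
  have h0 : (algebraMap R (Localization.Away t₀)).Flat := RingHom.flat_algebraMap_iff.2 inferInstance
  have h1 : ((ε : Localization.Away t₀ →+* Localization.Away (eA t₀)).comp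
      ((algebraMap R (Localization.Away t₀)).comp (eR.symm : R →+* R))).Flat :=
    RingHom.Flat.comp (RingHom.Flat.comp (RingHom.Flat.of_bijective eR.symm.bijective) h0)
      (RingHom.Flat.of_bijective ε.bijective)
  have h2 : (ε : Localization.Away t₀ →+* Localization.Away (eA t₀)).comp
      ((algebraMap R (Localization.Away t₀)).comp (eR.symm : R →+* R))
      = algebraMap R (Localization.Away (eA t₀)) := by
    ext r
    simp only [RingHom.comp_apply, RingHom.coe_coe]
    rw [IsScalarTower.algebraMap_apply R A (Localization.Away t₀),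
      IsScalarTower.algebraMap_apply R A (Localization.Away (eA t₀))]
    show IsLocalization.ringEquivOfRingEquiv _ _ eA hmap (algebraMap A _ _) = _
    rw [IsLocalization.ringEquivOfRingEquiv_eq, ← h, RingEquiv.apply_symm_apply]
  rw [h2] at h1
  exact RingHom.flat_algebraMap_iff.1 h1

end Transfer

open Groth.Agent.Lib.Helper84.HopfFFTrans Groth.Agent.Lib.Helper86.HopfInv

section FlatPart

variable {k : Type u} [Field k] [IsAlgClosed k]
variable {A : Type v} [CommRing A] [HopfAlgebra k A] [Algebra.FiniteType k A]
variable {B : Type w} [CommRing B] [HopfAlgebra k B] [IsReduced B]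
variable [Algebra B A] [IsScalarTower k B A]
variable (f : B →ₐc[k] A) (hfa : ∀ b, algebraMap B A b = f b) (hf : Function.Injective f)

include hfa hf in
theorem flat_of_reduced : Module.Flat B A := by
  classical
  haveI : Algebra.FiniteType B A := Algebra.FiniteType.of_restrictScalars_finiteType k B A
  haveI : Nontrivial B := (Bialgebra.counitAlgHom k B).toRingHom.domain_nontrivial
  obtain ⟨U, hUo, hUd, hU⟩ :=
    Groth.Agent.Lib.Helper91.generic_freeness_reduced (R := B) (S := A) (M := A)
  obtain ⟨u₀, hu₀⟩ := hUd.nonempty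
  obtain ⟨g₀, hg₀u, -, hfree, -, -, -⟩ := hU u₀ hu₀
  have hg₀ : ¬ IsNilpotent (algebraMap B A g₀) := by
    rintro ⟨n, hn⟩
    rw [← map_pow, hfa, map_eq_zero_iff f hf] at hn
    exact hg₀u (u₀.isPrime.mem_of_pow_mem n (hn ▸ zero_mem _))
  haveI := hfree
  have hflat₀ : Module.Flat B (Localization.Away (algebraMap B A g₀)) := flat_away_of_free g₀
  let s : Set A := {t | ∃ h : A →ₐ[k] k, t = ltransEquiv h (algebraMap B A g₀)}
  have hspan : Ideal.span s = ⊤ := by
    by_contra hne
    obtain ⟨x, hx⟩ := Groth.Agent.Lib.Helper59.exists_algHom_of_ne_top k A (Ideal.span s) hne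
    obtain ⟨y, hy⟩ := exists_point_ne_zero k A (algebraMap B A g₀) hg₀
    let h : A →ₐ[k] k := ofConv (toConv y * toConv (x.comp (HopfAlgebra.antipodeAlgHom k A)))
    have h1 : x (ltransEquiv h (algebraMap B A g₀)) = 0 := hx _ (Ideal.subset_span ⟨h, rfl⟩)
    have h2 : x.comp (ltransEquiv h : A →ₐ[k] A) = y := by
      rw [comp_ltransEquiv]
      show ofConv (toConv (ofConv (toConv y * toConv (x.comp (HopfAlgebra.antipodeAlgHom k A))))
        * toConv x) = y
      rw [toConv_ofConv, mul_assoc, conv_antipode_mul, mul_one, ofConv_toConv]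
    apply hy
    rw [← h2]
    exact h1
  refine Module.flat_of_isLocalized_span A A s hspan (fun r => Localization.Away r.1)
    (fun r => Algebra.linearMap A (Localization.Away r.1)) ?_
  rintro ⟨_, h, rfl⟩
  exact flat_away_of_equiv (ltransEquiv h).toRingEquiv
    (ltransEquiv (h.comp (f : B →ₐ[k] A))).toRingEquiv
    (fun b => by
      rw [hfa, hfa]
      exact map_ltransEquiv f h b) (algebraMap B A g₀)

end FlatPart

section FaithPart

variable {k : Type u} [Field k] [IsAlgClosed k]
variable {A : Type v} [CommRing A] [HopfAlgebra k A] [Algebra.FiniteType k A]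
variable {B : Type w} [CommRing B] [HopfAlgebra k B] [Algebra.FiniteType k B]
variable [Algebra B A] [IsScalarTower k B A]
variable (f : B →ₐc[k] A) (hfa : ∀ b, algebraMap B A b = f b) (hf : Function.Injective f)

include hfa hf in
/-- a point of `B` in the locus where `A` is free lifts to `A`. -/
theorem exists_lift_of_free (g₀ : B)
    [Module.Free (Localization.Away g₀) (LocalizedModule (Submonoid.powers g₀) A)]
    (y : B →ₐ[k] k) (hy : y g₀ ≠ 0) : ∃ g : A →ₐ[k] k, g.comp (f : B →ₐ[k] A) = y := by
  classical
  haveI hprime : (RingHom.ker y).IsPrime := RingHom.ker_isPrime y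
  -- the localized module is nontrivial
  haveI : Nontrivial (LocalizedModule (Submonoid.powers g₀) A) := by
    refine ⟨⟨LocalizedModule.mkLinearMap (Submonoid.powers g₀) A 1, 0, ?_⟩⟩
    intro h0
    rw [IsLocalizedModule.eq_zero_iff (Submonoid.powers g₀)] at h0
    obtain ⟨⟨_, n, rfl⟩, hn⟩ := h0
    have h1 : algebraMap B A (g₀ ^ n) = 0 := by
      rw [Algebra.algebraMap_eq_smul_one]
      exact hn
    rw [hfa, map_eq_zero_iff f hf] at h1
    have : y (g₀ ^ n) = 0 := by rw [h1, map_zero]
    rw [map_pow] at this
    exact pow_ne_zero n hy this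
  -- the extended ideal is proper
  have hI' : Ideal.map (algebraMap B (Localization.Away g₀)) (RingHom.ker y) ≠ ⊤ := by
    rw [IsLocalization.map_algebraMap_ne_top_iff_disjoint (Submonoid.powers g₀)]
    rw [Set.disjoint_left]
    rintro _ ⟨n, rfl⟩ hmem
    have : y (g₀ ^ n) = 0 := hmem
    rw [map_pow] at this
    exact pow_ne_zero n hy this
  have hff := (Module.FaithfullyFlat.iff_flat_and_proper_ideal (R := Localization.Away g₀)
    (M := LocalizedModule (Submonoid.powers g₀) A)).1 inferInstance
  have hne := hff.2 _ hI'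
  -- hence `(ker y) A ≠ A`
  have hmap : Ideal.map (algebraMap B A) (RingHom.ker y) ≠ ⊤ := by
    intro htop
    apply hne
    rw [eq_top_iff]
    have key : ∀ a : A, LocalizedModule.mkLinearMap (Submonoid.powers g₀) A a ∈
        Ideal.map (algebraMap B (Localization.Away g₀)) (RingHom.ker y) •
          (⊤ : Submodule (Localization.Away g₀) (LocalizedModule (Submonoid.powers g₀) A)) := by
      intro a
      have ha : a ∈ (RingHom.ker y) • (⊤ : Submodule B A) := by
        rw [Ideal.smul_top_eq_map, htop]
        trivial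
      refine Submodule.smul_induction_on ha ?_ ?_
      · intro n hn a' _
        rw [map_smul, ← algebraMap_smul (Localization.Away g₀) n]
        exact Submodule.smul_mem_smul (Ideal.mem_map_of_mem _ hn) trivial
      · intro x y hx hy
        rw [map_add]
        exact Submodule.add_mem _ hx hy
    intro m _
    induction m using LocalizedModule.induction_on with
    | _ a s =>
      have : LocalizedModule.mk a s = (Localization.mk (1 : B) s) •
          LocalizedModule.mkLinearMap (Submonoid.powers g₀) A a := by
        rw [LocalizedModule.mkLinearMap_apply, LocalizedModule.mk_smul_mk, one_smul, mul_one]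
      rw [this]
      exact Submodule.smul_mem _ _ (key a)
  obtain ⟨g, hg⟩ := Groth.Agent.Lib.Helper59.exists_algHom_of_ne_top k A _ hmap
  refine ⟨g, (point_eq_of_ker_le y _ ?_).symm⟩
  intro b hb
  rw [RingHom.mem_ker, AlgHom.comp_apply]
  have := hg _ (Ideal.mem_map_of_mem (algebraMap B A) hb)
  rw [hfa] at this
  exact this

end FaithPart

section FaithPart2

variable {k : Type u} [Field k] [IsAlgClosed k]
variable {A : Type v} [CommRing A] [HopfAlgebra k A] [Algebra.FiniteType k A]
variable {B : Type w} [CommRing B] [HopfAlgebra k B] [Algebra.FiniteType k B] [IsReduced B]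
variable [Algebra B A] [IsScalarTower k B A]
variable (f : B →ₐc[k] A) (hfa : ∀ b, algebraMap B A b = f b) (hf : Function.Injective f)

include hfa hf in
/-- every rational point of `B` lifts to `A`. -/
theorem exists_lift (x : B →ₐ[k] k) : ∃ g : A →ₐ[k] k, g.comp (f : B →ₐ[k] A) = x := by
  classical
  haveI : Algebra.FiniteType B A := Algebra.FiniteType.of_restrictScalars_finiteType k B A
  haveI : Nontrivial B := (Bialgebra.counitAlgHom k B).toRingHom.domain_nontrivial
  obtain ⟨U, hUo, hUd, hU⟩ :=
    Groth.Agent.Lib.Helper91.generic_freeness_reduced (R := B) (S := A) (M := A)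
  let e : B ≃ₐ[k] B := ltransEquiv x
  let φ : PrimeSpectrum B ≃ₜ PrimeSpectrum B :=
    (PrimeSpectrum.homeomorphOfRingEquiv e.toRingEquiv).symm
  have hφ : ∀ (y : B →ₐ[k] k) (h1 : (RingHom.ker y).IsPrime)
      (h2 : (RingHom.ker (y.comp (e : B →ₐ[k] B))).IsPrime),
      φ ⟨RingHom.ker y, h1⟩ = ⟨RingHom.ker (y.comp (e : B →ₐ[k] B)), h2⟩ := by
    intro y h1 h2
    apply PrimeSpectrum.ext
    ext b
    rfl
  have hVo : IsOpen (φ ⁻¹' U) := hUo.preimage φ.continuous
  have hVd : Dense (φ ⁻¹' U) := hUd.preimage φ.isOpenMap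
  have hWd : Dense (U ∩ φ ⁻¹' U) := hUd.inter_of_isOpen_left hVd hUo
  obtain ⟨𝔭, h𝔭⟩ := hWd.nonempty
  obtain ⟨_, ⟨F, rfl⟩, h𝔭F, hFW⟩ :=
    PrimeSpectrum.isTopologicalBasis_basic_opens.exists_subset_of_mem_open h𝔭 (hUo.inter hVo)
  have hF : ¬ IsNilpotent F := by
    rintro ⟨n, hn⟩
    exact (PrimeSpectrum.mem_basicOpen _ _).mp h𝔭F
      (𝔭.isPrime.mem_of_pow_mem n (hn ▸ zero_mem _))
  obtain ⟨y, hy⟩ := exists_point_ne_zero k B F hF
  have hky : (RingHom.ker y).IsPrime := RingHom.ker_isPrime y
  have hkye : (RingHom.ker (y.comp (e : B →ₐ[k] B))).IsPrime := RingHom.ker_isPrime _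
  have hyW : (⟨RingHom.ker y, hky⟩ : PrimeSpectrum B) ∈ U ∩ φ ⁻¹' U := by
    apply hFW
    show _ ∈ PrimeSpectrum.basicOpen F
    rw [PrimeSpectrum.mem_basicOpen]
    exact hy
  -- lift `y`
  obtain ⟨g₀, hg₀, -, hfree, -, -, -⟩ := hU _ hyW.1
  haveI := hfree
  obtain ⟨g₁, hg₁⟩ := exists_lift_of_free f hfa hf g₀ y hg₀
  -- lift `x * y`
  have h2 : φ ⟨RingHom.ker y, hky⟩ ∈ U := hyW.2
  rw [hφ y hky hkye] at h2
  obtain ⟨g₀', hg₀', -, hfree', -, -, -⟩ := hU _ h2
  haveI := hfree'
  obtain ⟨g₂, hg₂⟩ := exists_lift_of_free f hfa hf g₀' (y.comp (e : B →ₐ[k] B)) hg₀'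
  rw [comp_ltransEquiv] at hg₂
  -- combine
  refine ⟨ofConv (toConv g₂ * toConv (g₁.comp (HopfAlgebra.antipodeAlgHom k A))), ?_⟩
  rw [comp_mul, hg₂, toConv_ofConv, mul_assoc]
  have h3 : toConv y * toConv ((g₁.comp (HopfAlgebra.antipodeAlgHom k A)).comp (f : B →ₐ[k] A))
      = 1 := by
    rw [← hg₁]
    have := comp_mul f g₁ (g₁.comp (HopfAlgebra.antipodeAlgHom k A))
    rw [conv_mul_antipode, comp_one] at this
    rw [← toConv_ofConv (toConv (g₁.comp (f : B →ₐ[k] A)) * _), ← this, toConv_ofConv]
  rw [h3, mul_one, ofConv_toConv]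

include hfa hf in
/-- **Faithful flatness over a reduced Hopf subalgebra**, finitely generated case over an
algebraically closed field. -/
theorem faithfullyFlat_of_reduced : Module.FaithfullyFlat B A := by
  haveI := flat_of_reduced f hfa hf
  refine ⟨?_⟩
  intro 𝔫 h𝔫 htop
  obtain ⟨x, hx⟩ := Groth.Agent.Lib.Helper59.exists_algHom_ker_eq_of_isMaximal k B 𝔫
  obtain ⟨g, hg⟩ := exists_lift f hfa hf x
  have key : ∀ a ∈ 𝔫 • (⊤ : Submodule B A), g a = 0 := by
    intro a ha
    refine Submodule.smul_induction_on ha ?_ ?_
    · intro n hn a' _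
      rw [Algebra.smul_def, map_mul, hfa]
      have : x n = 0 := by
        rw [← hx] at hn
        exact hn
      have h2 : g (f n) = x n := by rw [← hg]; rfl
      rw [h2, this, zero_mul]
    · intro a b ha hb
      rw [map_add, ha, hb, add_zero]
  have h1 := key 1 (by rw [htop]; trivial)
  rw [map_one] at h1
  exact one_ne_zero h1

end FaithPart2

end Groth.Agent.Lib.Helper84.HopfFFReduced
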