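import Mathlib
import Groth.Agent.Lib.Helper86.HopfSub
import Groth.Agent.Lib.Helper84.HopfFFInf
import Groth.Agent.Lib.Helper84.HopfFFDescent
import Groth.Agent.Lib.Helper84.HopfFFReduced
import Groth.Agent.Lib.Helper84.HopfCartier

set_option autoImplicit false
set_option linter.style.haveILetI false
set_option linter.unusedSectionVars false
open TensorProduct
open Groth.Agent.Lib.Helper86.HopfSub Groth.Agent.Lib.Helper84.HopfFFInf
  Groth.Agent.Lib.Helper84.HopfFFDescent
universe u v w

namespace Groth.Agent.Lib.Helper84.HopfFFFrob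

open Coalgebra Bialgebra HopfAlgebra

section AddPow

variable (k : Type u) [Field k] (p : ℕ) [Fact p.Prime] [CharP k p]

/-- `p^n`-th powers are additive in `k`-algebras. -/
theorem add_pow_q {R : Type*} [CommRing R] [Algebra k R] (n : ℕ) (x y : R) :
    (x + y) ^ p ^ n = x ^ p ^ n + y ^ p ^ n := by
  rcases subsingleton_or_nontrivial R with hs | hn
  · exact Subsingleton.elim _ _
  · have : CharP R p := charP_of_injective_algebraMap (algebraMap k R).injective p
    exact add_pow_char_pow x y p n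

end AddPow

section PowSub

variable (k : Type u) [Field k] (p : ℕ) [Fact p.Prime] [CharP k p] (n : ℕ)
  (B : Type v) [CommRing B] [HopfAlgebra k B]

/-- the subalgebra generated by `p^n`-th powers. -/
def powSubN : Subalgebra k B := Algebra.adjoin k (Set.range fun b : B => b ^ p ^ n)

theorem pow_mem_powSubN (b : B) : b ^ p ^ n ∈ powSubN k p n B := Algebra.subset_adjoin ⟨b, rfl⟩

theorem pow_mem_range_jj (t : B ⊗[k] B) : t ^ p ^ n ∈ (jj k B (powSubN k p n B)).range := by
  induction t using TensorProduct.induction_on with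
  | zero =>
    rw [zero_pow (pow_pos (Fact.out : p.Prime).pos n).ne']
    exact Subalgebra.zero_mem _
  | tmul x y =>
    rw [Algebra.TensorProduct.tmul_pow]
    exact ⟨(⟨x ^ p ^ n, pow_mem_powSubN k p n B x⟩ : powSubN k p n B) ⊗ₜ[k]
      (⟨y ^ p ^ n, pow_mem_powSubN k p n B y⟩ : powSubN k p n B), rfl⟩
  | add x y hx hy =>
    rw [add_pow_q k p]
    exact Subalgebra.add_mem _ hx hy

theorem isHopfSub_powSubN : IsHopfSub k B (powSubN k p n B) := by
  constructor
  · have : powSubN k p n B ≤
        (jj k B (powSubN k p n B)).range.comap (Bialgebra.comulAlgHom k B) := by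
      refine Algebra.adjoin_le ?_
      rintro _ ⟨a, rfl⟩
      show Bialgebra.comulAlgHom k B (a ^ p ^ n) ∈ (jj k B (powSubN k p n B)).range
      rw [map_pow]
      exact pow_mem_range_jj k p n B _
    intro b hb
    exact this hb
  · have : powSubN k p n B ≤ (powSubN k p n B).comap (HopfAlgebra.antipodeAlgHom k B) := by
      refine Algebra.adjoin_le ?_
      rintro _ ⟨a, rfl⟩
      show HopfAlgebra.antipodeAlgHom k B (a ^ p ^ n) ∈ powSubN k p n B
      rw [map_pow]
      exact pow_mem_powSubN k p n B _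
    intro b hb
    exact this hb

/-- over an algebraically closed field, every element of `powSubN` is a `p^n`-th power. -/
theorem exists_pow_eq [IsAlgClosed k] (c : B) (hc : c ∈ powSubN k p n B) :
    ∃ b : B, c = b ^ p ^ n := by
  have hq : 0 < p ^ n := pow_pos (Fact.out : p.Prime).pos n
  induction hc using Algebra.adjoin_induction with
  | mem x hx =>
    obtain ⟨b, rfl⟩ := hx
    exact ⟨b, rfl⟩
  | algebraMap r =>
    obtain ⟨z, rfl⟩ := IsAlgClosed.exists_pow_nat_eq r hq
    exact ⟨algebraMap k B z, by rw [map_pow]⟩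
  | add x y _ _ hx hy =>
    obtain ⟨b, rfl⟩ := hx
    obtain ⟨b', rfl⟩ := hy
    exact ⟨b + b', (add_pow_q k p n b b').symm⟩
  | mul x y _ _ hx hy =>
    obtain ⟨b, rfl⟩ := hx
    obtain ⟨b', rfl⟩ := hy
    exact ⟨b * b', (mul_pow b b' _).symm⟩

/-- for `n` large the subalgebra of `p^n`-th powers is reduced. -/
theorem exists_isReduced_powSubN [IsAlgClosed k] [Algebra.FiniteType k B] :
    ∃ n : ℕ, IsReduced (powSubN k p n B) := by
  haveI : IsNoetherianRing B := Algebra.FiniteType.isNoetherianRing k B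
  obtain ⟨m, hm⟩ := IsNoetherianRing.isNilpotent_nilradical B
  refine ⟨m, ⟨?_⟩⟩
  rintro ⟨c, hc⟩ hnil
  obtain ⟨b, rfl⟩ := exists_pow_eq k p m B c hc
  have h1 : IsNilpotent (b ^ p ^ m) := by
    obtain ⟨r, hr⟩ := hnil
    refine ⟨r, ?_⟩
    have := congrArg Subtype.val hr
    simpa using this
  have h2 : IsNilpotent b := by
    obtain ⟨r, hr⟩ := h1
    exact ⟨p ^ m * r, by rw [pow_mul]; exact hr⟩
  have h3 : b ∈ nilradical B := (mem_nilradical).2 h2
  have h4 : b ^ p ^ m ∈ (nilradical B) ^ m :=
    Ideal.pow_le_pow_right (Nat.lt_pow_self (Fact.out : p.Prime).one_lt).le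
      (Ideal.pow_mem_pow h3 _)
  rw [hm] at h4
  apply Subtype.ext
  exact h4

theorem finiteType_powSubN [Algebra.FiniteType k B] :
    Algebra.FiniteType k (powSubN k p n B) := by
  have hq : 0 < p ^ n := pow_pos (Fact.out : p.Prime).pos n
  haveI : Algebra.IsIntegral (powSubN k p n B) B := ⟨fun b => by
    refine IsIntegral.of_pow hq ?_
    have : b ^ p ^ n = algebraMap (powSubN k p n B) B ⟨b ^ p ^ n, pow_mem_powSubN k p n B b⟩ :=
      rfl
    rw [this]
    exact isIntegral_algebraMap⟩
  haveI : Algebra.FiniteType (powSubN k p n B) B :=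
    Algebra.FiniteType.of_restrictScalars_finiteType k (powSubN k p n B) B
  haveI : Module.Finite (powSubN k p n B) B := Algebra.IsIntegral.finite
  exact ⟨fg_of_fg_of_fg k (powSubN k p n B) B (Algebra.FiniteType.out)
    (Module.Finite.fg_top) Subtype.val_injective⟩

end PowSub

section General

variable {k : Type u} [Field k]
  {C : Type*} [CommRing C] [HopfAlgebra k C]
  {B : Type*} [CommRing B] [HopfAlgebra k B] [Algebra C B] [IsScalarTower k C B]
  {A : Type*} [CommRing A] [Algebra C A] [Algebra B A] [IsScalarTower C B A]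
  (jB : C →ₐc[k] B) (hjB : ∀ c, algebraMap C B c = jB c)
  (q : ℕ) (hq : 0 < q) (hpow : ∀ b : B, ∃ c : C, jB c = b ^ q)

include hjB hq hpow in
theorem augIdeal_le_radical : augIdeal k B ≤ (augMap k B C).radical := by
  intro b hb
  obtain ⟨c, hc⟩ := hpow b
  refine ⟨q, ?_⟩
  rw [← hc, ← hjB]
  apply Ideal.mem_map_of_mem
  rw [RingHom.mem_ker]
  have h1 : counit (R := k) c = counit (R := k) (jB c) :=
    (CoalgHomClass.counit_comp_apply jB c).symm
  change counit (R := k) c = 0
  rw [h1, hc]
  have h2 : counit (R := k) (b ^ q) = (counit (R := k) b) ^ q := map_pow (counitAlgHom k B) b q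
  rw [h2]
  have h3 : counit (R := k) b = 0 := hb
  rw [h3, zero_pow hq.ne']

include hjB hq hpow in
theorem comap_surjective_of_pow [Module.FaithfullyFlat C A] :
    Function.Surjective (PrimeSpectrum.comap (algebraMap B A)) := by
  intro 𝔮
  let 𝔯 : Ideal C := Ideal.comap (algebraMap C B) 𝔮.asIdeal
  haveI : 𝔯.IsPrime := Ideal.comap_isPrime _ _
  obtain ⟨𝔓, h𝔓, hover⟩ := Ideal.exists_isPrime_liesOver_of_faithfullyFlat (B := A) 𝔯
  refine ⟨⟨𝔓, h𝔓⟩, ?_⟩
  apply PrimeSpectrum.ext
  change Ideal.comap (algebraMap B A) 𝔓 = 𝔮.asIdeal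
  have hover' : 𝔯 = Ideal.comap (algebraMap C A) 𝔓 := hover.over
  ext b
  obtain ⟨c, hc⟩ := hpow b
  rw [Ideal.mem_comap]
  have h1 : algebraMap B A b ∈ 𝔓 ↔ (algebraMap B A b) ^ q ∈ 𝔓 :=
    ⟨fun h => Ideal.pow_mem_of_mem _ h _ hq, fun h => h𝔓.mem_of_pow_mem _ h⟩
  have h2 : b ∈ 𝔮.asIdeal ↔ b ^ q ∈ 𝔮.asIdeal :=
    ⟨fun h => Ideal.pow_mem_of_mem _ h _ hq, fun h => 𝔮.2.mem_of_pow_mem _ h⟩
  rw [h1, h2, ← map_pow, ← hc, ← hjB, ← IsScalarTower.algebraMap_apply]
  have h3 : c ∈ 𝔯 ↔ c ∈ Ideal.comap (algebraMap C A) 𝔓 := by rw [← hover']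
  exact h3.symm

end General

section Final

variable {k : Type u} [Field k] [IsAlgClosed k]
  {A : Type v} [CommRing A] [HopfAlgebra k A] [Algebra.FiniteType k A]
  {B : Type w} [CommRing B] [HopfAlgebra k B] [Algebra.FiniteType k B]
  [Algebra B A] [IsScalarTower k B A]
  (f : B →ₐc[k] A) (hfa : ∀ b, algebraMap B A b = f b) (hf : Function.Injective f)

include hfa hf in
/-- faithful flatness over Hopf subalgebras, characteristic `p`, algebraically closed base. -/
theorem faithfullyFlat_charP (p : ℕ) [Fact p.Prime] [CharP k p] : Module.FaithfullyFlat B A := by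
  obtain ⟨n, hred⟩ := exists_isReduced_powSubN k p B
  have hq : 0 < p ^ n := pow_pos (Fact.out : p.Prime).pos n
  have hsub := isHopfSub_powSubN k p n B
  letI : HopfAlgebra k (powSubN k p n B) := hopfAlgebraB hsub
  haveI : Algebra.FiniteType k (powSubN k p n B) := finiteType_powSubN k p n B
  let jB : (powSubN k p n B) →ₐc[k] B := BialgHom.ofAlgHom (powSubN k p n B).val
    (by ext c; rfl)
    (by
      ext c
      exact map_comul hsub c)
  have hjB : ∀ c, algebraMap (powSubN k p n B) B c = jB c := fun c => rfl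
  let jA : (powSubN k p n B) →ₐc[k] A := f.comp jB
  have hjA : ∀ c, algebraMap (powSubN k p n B) A c = jA c := by
    intro c
    rw [IsScalarTower.algebraMap_apply (powSubN k p n B) B A, hfa]
    rfl
  have hjAinj : Function.Injective jA := by
    intro x y hxy
    exact Subtype.ext (hf hxy)
  haveI : Module.FaithfullyFlat (powSubN k p n B) A :=
    HopfFFReduced.faithfullyFlat_of_reduced jA hjA hjAinj
  have hpow : ∀ b : B, ∃ c : powSubN k p n B, jB c = b ^ p ^ n :=
    fun b => ⟨⟨b ^ p ^ n, pow_mem_powSubN k p n B b⟩, rfl⟩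
  haveI : IsNoetherianRing B := Algebra.FiniteType.isNoetherianRing k B
  obtain ⟨N, hN⟩ := Ideal.exists_pow_le_of_le_radical_of_fg
    (augIdeal_le_radical jB hjB (p ^ n) hq hpow) (IsNoetherian.noetherian _)
  haveI : Module.Flat B A := flat_of_pow_le jB hjB jA hjA f hfa hf N hN
  have hsurj := comap_surjective_of_pow (A := A) jB hjB (p ^ n) hq hpow
  rw [← RingHom.faithfullyFlat_algebraMap_iff, RingHom.FaithfullyFlat.iff_flat_and_comap_surjective]
  exact ⟨RingHom.flat_algebraMap_iff.2 inferInstance, hsurj⟩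

include hfa hf in
/-- faithful flatness over Hopf subalgebras, algebraically closed base, finitely generated. -/
theorem faithfullyFlat_algClosed : Module.FaithfullyFlat B A := by
  obtain ⟨p, hp⟩ := CharP.exists k
  rcases CharP.char_is_prime_or_zero k p with hpp | hp0
  · haveI : Fact p.Prime := ⟨hpp⟩
    exact faithfullyFlat_charP f hfa hf p
  · subst hp0
    haveI : CharZero k := CharP.charP_to_charZero k
    haveI : IsReduced B := HopfCartier.isReduced_of_charZero k B
    exact HopfFFReduced.faithfullyFlat_of_reduced f hfa hf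

end Final

end Groth.Agent.Lib.Helper84.HopfFFFrob

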