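import Mathlib
import Groth.Agent.Lib.Helper84.HopfFFFrob

set_option autoImplicit false
set_option linter.style.haveILetI false
set_option linter.unusedSectionVars false
open TensorProduct
universe u v w

namespace Groth.Agent.Lib.Helper84.HopfFFField

open Coalgebra Bialgebra HopfAlgebra

section Cancel

variable (R : Type*) (S : Type*) (T : Type*) [CommRing R] [CommRing S] [CommRing T]
  [Algebra R S] [Algebra S T] [Algebra R T] [IsScalarTower R S T]

/-- if `T` is flat over `R` and faithfully flat over `S`, then `S` is flat over `R`. -/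
theorem flat_of_comp [Module.Flat R T] [Module.FaithfullyFlat S T] : Module.Flat R S := by
  rw [Module.Flat.iff_lTensor_preserves_injective_linearMap]
  intro N P _ _ _ _ l hl
  have h1 : Function.Injective (l.baseChange S) → Function.Injective (l.lTensor S) := by
    intro h x y hxy
    exact h hxy
  apply h1
  rw [← Module.FaithfullyFlat.lTensor_injective_iff_injective S T]
  have h2 : (l.baseChange S).lTensor T =
      ((AlgebraTensorModule.cancelBaseChange R S T T P).symm.toLinearMap.restrictScalars S) ∘ₗ
        ((l.baseChange T).restrictScalars S) ∘ₗ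
        ((AlgebraTensorModule.cancelBaseChange R S T T N).toLinearMap.restrictScalars S) := by
    ext t s
    simp
  rw [h2]
  simp only [LinearMap.coe_comp, LinearMap.coe_restrictScalars, LinearEquiv.coe_coe]
  refine (LinearEquiv.injective _).comp (Function.Injective.comp ?_ (LinearEquiv.injective _))
  exact Module.Flat.lTensor_preserves_injective_linearMap (M := T) l hl

/-- cancellation for faithfully flat algebras. -/
theorem faithfullyFlat_of_comp [Module.FaithfullyFlat R T] [Module.FaithfullyFlat S T] :
    Module.FaithfullyFlat R S := by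
  haveI : Module.Flat R S := flat_of_comp R S T
  rw [← RingHom.faithfullyFlat_algebraMap_iff, RingHom.FaithfullyFlat.iff_flat_and_comap_surjective]
  refine ⟨RingHom.flat_algebraMap_iff.2 inferInstance, ?_⟩
  have h1 : Function.Surjective (PrimeSpectrum.comap (algebraMap R T)) :=
    PrimeSpectrum.comap_surjective_of_faithfullyFlat
  intro 𝔮
  obtain ⟨𝔓, h𝔓⟩ := h1 𝔮
  refine ⟨PrimeSpectrum.comap (algebraMap S T) 𝔓, ?_⟩
  rw [← h𝔓, IsScalarTower.algebraMap_eq R S T]
  rfl

end Cancel

section Field

variable {k : Type u} [Field k]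
  {A : Type v} [CommRing A] [HopfAlgebra k A] [Algebra.FiniteType k A]
  {B : Type w} [CommRing B] [HopfAlgebra k B] [Algebra.FiniteType k B]
  [Algebra B A] [IsScalarTower k B A]
  (f : B →ₐc[k] A) (hfa : ∀ b, algebraMap B A b = f b) (hf : Function.Injective f)

attribute [local instance] Algebra.TensorProduct.rightAlgebra in
include hfa hf in
/-- **A finitely generated commutative Hopf algebra over a field is faithfully flat over every
finitely generated Hopf subalgebra.** -/
theorem faithfullyFlat_of_injective : Module.FaithfullyFlat B A := by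
  let K := AlgebraicClosure k
  let fK : K ⊗[k] B →ₐc[K] K ⊗[k] A := Bialgebra.TensorProduct.map (BialgHom.id K K) f
  have hfK_tmul : ∀ (x : K) (b : B), fK (x ⊗ₜ b) = x ⊗ₜ f b := fun x b => rfl
  have hfK : Function.Injective fK := by
    have h := Module.Flat.lTensor_preserves_injective_linearMap (M := K) (f : B →ₗ[k] A) hf
    have he : ∀ z : K ⊗[k] B, fK z = (f : B →ₗ[k] A).lTensor K z := by
      intro z
      induction z using TensorProduct.induction_on with
      | zero => simp
      | tmul x y => rfl
      | add x y hx hy => simp only [map_add, hx, hy]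
    intro z w hzw
    rw [he, he] at hzw
    exact h hzw
  letI algKK : Algebra (K ⊗[k] B) (K ⊗[k] A) := (fK : K ⊗[k] B →+* K ⊗[k] A).toAlgebra
  haveI : IsScalarTower K (K ⊗[k] B) (K ⊗[k] A) :=
    IsScalarTower.of_algebraMap_eq (fun r => (AlgHomClass.commutes fK r).symm)
  haveI : Module.FaithfullyFlat (K ⊗[k] B) (K ⊗[k] A) :=
    HopfFFFrob.faithfullyFlat_algClosed fK (fun _ => rfl) hfK
  haveI : Module.FaithfullyFlat A (K ⊗[k] A) :=
    Module.FaithfullyFlat.of_linearEquiv A (A ⊗[k] K)
      (Algebra.TensorProduct.commRight k A K).symm.toLinearEquiv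
  haveI : Module.FaithfullyFlat B (K ⊗[k] B) :=
    Module.FaithfullyFlat.of_linearEquiv B (B ⊗[k] K)
      (Algebra.TensorProduct.commRight k B K).symm.toLinearEquiv
  letI algBT : Algebra B (K ⊗[k] A) :=
    ((algebraMap A (K ⊗[k] A)).comp (algebraMap B A)).toAlgebra
  haveI : IsScalarTower B A (K ⊗[k] A) := IsScalarTower.of_algebraMap_eq (fun _ => rfl)
  haveI : IsScalarTower B (K ⊗[k] B) (K ⊗[k] A) := IsScalarTower.of_algebraMap_eq (fun b => by
    change (1 : K) ⊗ₜ[k] (algebraMap B A b) = fK ((1 : K) ⊗ₜ[k] b)
    rw [hfK_tmul, hfa])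
  haveI : Module.FaithfullyFlat B (K ⊗[k] A) :=
    Module.FaithfullyFlat.trans B (K ⊗[k] B) (K ⊗[k] A)
  exact faithfullyFlat_of_comp B A (K ⊗[k] A)

end Field

end Groth.Agent.Lib.Helper84.HopfFFField
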