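import Groth.Prelude.Def_HopfRep
import Mathlib.LinearAlgebra.TensorProduct.Basis
import Mathlib.RingTheory.Flat.Basic
import Mathlib.RingTheory.HopfAlgebra.Convolution
import Mathlib.RingTheory.Adjoin.FG
import Groth.Agent.H40.Integral
import Groth.Agent.Lib.Helper66.Hopf

/-!
# Matrix coefficients of a finite-dimensional subcomodule (helper84)

For a subcomodule `W` of a comodule `V` over a coalgebra `C` over a field, with a finite basis
`b`, the matrix coefficients `a j i ∈ C` with `ρ (b i) = ∑ j, b j ⊗ a j i` satisfy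
`Δ (a l i) = ∑ j, a l j ⊗ a j i` and `ε (a l i) = δ_{l i}`.

For a commutative Hopf algebra, a finite family closed under `Δ` in this matrix sense generates
(together with its antipodes) a finitely generated sub-Hopf-algebra.
-/

set_option autoImplicit false
universe u v w

open TensorProduct

namespace Groth.Agent.Lib.Helper84.MatCoeff

section Coalg

variable {k : Type u} [Field k] {C : Type v} [AddCommGroup C] [Module k C] [Coalgebra k C]
  {V : Type w} [AddCommGroup V] [Module k V] [HopfRep.Comod k C V]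

/-- Uniqueness of coefficients with respect to a basis of a subspace, inside `V ⊗ N`. -/
theorem eq_of_sum_basis_tmul_eq {ι : Type*} [Fintype ι] {N : Type*} [AddCommGroup N] [Module k N]
    (W : Submodule k V) (b : Module.Basis ι k W) (c d : ι → N)
    (h : ∑ j, ((b j : W) : V) ⊗ₜ[k] c j = ∑ j, ((b j : W) : V) ⊗ₜ[k] d j) : c = d := by
  classical
  have hinj : Function.Injective (LinearMap.rTensor N W.subtype) :=
    Module.Flat.rTensor_preserves_injective_linearMap _ W.injective_subtype
  have h2 : ∑ j, (b j) ⊗ₜ[k] c j = ∑ j, (b j) ⊗ₜ[k] d j := by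
    apply hinj
    simpa [map_sum] using h
  have h3 := congrArg (TensorProduct.equivFinsuppOfBasisLeft b) h2
  funext i
  have h4 := DFunLike.congr_fun h3 i
  simpa [map_sum, TensorProduct.equivFinsuppOfBasisLeft_apply_tmul_apply, Finsupp.single_apply]
    using h4

/-- Matrix coefficients of a finite-dimensional subcomodule with respect to a basis. -/
theorem exists_matCoeff {ι : Type*} [Fintype ι] [DecidableEq ι]
    (W : Submodule k V) (hW : HopfRep.IsSubcomod (k := k) (A := C) W) (b : Module.Basis ι k W) :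
    ∃ a : ι → ι → C,
      (∀ i, HopfRep.Comod.coact (k := k) (A := C) ((b i : W) : V) =
        ∑ j, ((b j : W) : V) ⊗ₜ[k] a j i) ∧
      (∀ l i, Coalgebra.comul (R := k) (a l i) = ∑ j, a l j ⊗ₜ[k] a j i) ∧
      (∀ l i, Coalgebra.counit (R := k) (a l i) = if l = i then 1 else 0) := by
  classical
  have hex : ∀ i, ∃ c : ι → C, HopfRep.Comod.coact (k := k) (A := C) ((b i : W) : V) =
      ∑ j, ((b j : W) : V) ⊗ₜ[k] c j := by
    intro i
    obtain ⟨t, ht⟩ := hW _ (b i).2
    obtain ⟨c, hc⟩ := TensorProduct.eq_repr_basis_left b t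
    refine ⟨fun j => c j, ?_⟩
    rw [← ht, ← hc, Finsupp.sum_fintype _ _ (by simp), map_sum]
    simp
  choose a ha using hex
  refine ⟨fun j i => a i j, ha, ?_, ?_⟩
  · intro l i
    have h1 := LinearMap.congr_fun (HopfRep.Comod.coassoc (k := k) (A := C) (V := V))
      ((b i : W) : V)
    simp only [LinearMap.comp_apply, LinearEquiv.coe_coe] at h1
    rw [ha i] at h1
    simp only [map_sum, LinearMap.rTensor_tmul, LinearMap.lTensor_tmul] at h1
    have h2 : ∀ j, (TensorProduct.assoc k V C C)
        ((HopfRep.Comod.coact (k := k) (A := C) ((b j : W) : V)) ⊗ₜ[k] a i j) =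
        ∑ l, ((b l : W) : V) ⊗ₜ[k] (a j l ⊗ₜ[k] a i j) := by
      intro j
      rw [ha j, TensorProduct.sum_tmul, map_sum]
      simp
    simp only [h2] at h1
    rw [Finset.sum_comm] at h1
    simp only [← TensorProduct.tmul_sum] at h1
    have h3 := eq_of_sum_basis_tmul_eq W b _ _ h1
    exact (congrFun h3 l).symm
  · intro l i
    have h1 := LinearMap.congr_fun (HopfRep.Comod.counit_comp (k := k) (A := C) (V := V))
      ((b i : W) : V)
    simp only [LinearMap.comp_apply, LinearMap.flip_apply, TensorProduct.mk_apply] at h1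
    rw [ha i] at h1
    simp only [map_sum, LinearMap.lTensor_tmul] at h1
    have h2 : ((b i : W) : V) ⊗ₜ[k] (1 : k) =
        ∑ j, ((b j : W) : V) ⊗ₜ[k] (if j = i then (1 : k) else 0) := by
      rw [Finset.sum_eq_single i]
      · simp
      · intro j _ hj
        simp [hj]
      · intro hi
        exact absurd (Finset.mem_univ i) hi
    rw [h2] at h1
    have h3 := eq_of_sum_basis_tmul_eq W b _ _ h1
    exact congrFun h3 l

end Coalg

section Regular

variable {k : Type u} [Field k] {C : Type v} [AddCommGroup C] [Module k C] [Coalgebra k C]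

/-- For a finite-dimensional subcomodule of the regular comodule, the basis vectors lie in the
span of the matrix coefficients. -/
theorem exists_matCoeff_regular {ι : Type*} [Fintype ι] [DecidableEq ι]
    (W : Submodule k C) (hW : HopfRep.IsSubcomod (k := k) (A := C) W) (b : Module.Basis ι k W) :
    ∃ a : ι → ι → C,
      (∀ l i, Coalgebra.comul (R := k) (a l i) = ∑ j, a l j ⊗ₜ[k] a j i) ∧
      (∀ l i, Coalgebra.counit (R := k) (a l i) = if l = i then 1 else 0) ∧
      (∀ i, ((b i : W) : C) = ∑ j, Coalgebra.counit (R := k) ((b j : W) : C) • a j i) := by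
  classical
  obtain ⟨a, h1, h2, h3⟩ := exists_matCoeff (C := C) (V := C) W hW b
  refine ⟨a, h2, h3, ?_⟩
  intro i
  have h := Coalgebra.rTensor_counit_comul (R := k) ((b i : W) : C)
  have h1' : Coalgebra.comul (R := k) ((b i : W) : C) = ∑ j, ((b j : W) : C) ⊗ₜ[k] a j i := h1 i
  rw [h1'] at h
  simp only [map_sum, LinearMap.rTensor_tmul] at h
  have h4 := congrArg (TensorProduct.lid k C) h
  simpa [map_sum] using h4.symm

end Regular

section Hopf

variable {k : Type u} [Field k] {A : Type v} [CommRing A] [HopfAlgebra k A]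

/-- The subalgebra generated by a family and its antipodes. -/
noncomputable def genAlg {ι : Type*} (a : ι → ι → A) : Subalgebra k A :=
  Algebra.adjoin k (Set.range (fun p : ι × ι => a p.1 p.2) ∪
    Set.range (fun p : ι × ι => HopfAlgebra.antipode k (a p.1 p.2)))

theorem mem_genAlg {ι : Type*} (a : ι → ι → A) (l i : ι) : a l i ∈ genAlg (k := k) a :=
  Algebra.subset_adjoin (Or.inl ⟨(l, i), rfl⟩)

theorem antipode_mem_genAlg {ι : Type*} (a : ι → ι → A) (l i : ι) :
    HopfAlgebra.antipode k (a l i) ∈ genAlg (k := k) a :=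
  Algebra.subset_adjoin (Or.inr ⟨(l, i), rfl⟩)

theorem genAlg_fg {ι : Type*} [Finite ι] (a : ι → ι → A) : (genAlg (k := k) a).FG := by
  exact Subalgebra.fg_def.2 ⟨_, (Set.finite_range _).union (Set.finite_range _), rfl⟩

theorem tmul_mem_range (B : Subalgebra k A) {x y : A} (hx : x ∈ B) (hy : y ∈ B) :
    x ⊗ₜ[k] y ∈ LinearMap.range (TensorProduct.map B.val.toLinearMap B.val.toLinearMap) :=
  ⟨(⟨x, hx⟩ : B) ⊗ₜ[k] (⟨y, hy⟩ : B), by simp⟩

/-- The comultiplication preserves `genAlg a` when `a` is a matrix of coefficients. -/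
theorem comul_mem_genAlg {ι : Type*} [Fintype ι] (a : ι → ι → A)
    (ha : ∀ l i, Coalgebra.comul (R := k) (a l i) = ∑ j, a l j ⊗ₜ[k] a j i)
    (x : A) (hx : x ∈ genAlg (k := k) a) :
    Coalgebra.comul (R := k) x ∈ LinearMap.range
      (TensorProduct.map (genAlg (k := k) a).val.toLinearMap (genAlg (k := k) a).val.toLinearMap) := by
  set B := genAlg (k := k) a with hB
  let R : Subalgebra k (A ⊗[k] A) := (Algebra.TensorProduct.map B.val B.val).range
  have hR : ∀ t : A ⊗[k] A, t ∈ R ↔
      t ∈ LinearMap.range (TensorProduct.map B.val.toLinearMap B.val.toLinearMap) := by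
    intro t
    constructor
    · rintro ⟨s, rfl⟩
      exact ⟨s, rfl⟩
    · rintro ⟨s, rfl⟩
      exact ⟨s, rfl⟩
  let D : Subalgebra k A := R.comap (Bialgebra.comulAlgHom k A)
  have hle : B ≤ D := by
    rw [hB, genAlg]
    apply Algebra.adjoin_le
    rintro _ (⟨⟨l, i⟩, rfl⟩ | ⟨⟨l, i⟩, rfl⟩)
    · show Bialgebra.comulAlgHom k A (a l i) ∈ R
      rw [hR]
      show Coalgebra.comul (R := k) (a l i) ∈ _
      rw [ha]
      apply Submodule.sum_mem
      intro j _
      exact tmul_mem_range B (mem_genAlg a l j) (mem_genAlg a j i)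
    · show Bialgebra.comulAlgHom k A (HopfAlgebra.antipode k (a l i)) ∈ R
      rw [hR]
      show Coalgebra.comul (R := k) (HopfAlgebra.antipode k (a l i)) ∈ _
      rw [Groth.Agent.Lib.Helper66.comul_antipode, ha]
      simp only [map_sum, TensorProduct.comm_tmul, TensorProduct.map_tmul]
      apply Submodule.sum_mem
      intro j _
      exact tmul_mem_range B (antipode_mem_genAlg a j i) (antipode_mem_genAlg a l j)
  have := hle hx
  exact (hR _).1 this

/-- The antipode preserves `genAlg a`. -/
theorem antipode_mem_genAlg' {ι : Type*} (a : ι → ι → A)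
    (x : A) (hx : x ∈ genAlg (k := k) a) :
    HopfAlgebra.antipode k x ∈ genAlg (k := k) a := by
  set B := genAlg (k := k) a with hB
  let D : Subalgebra k A := B.comap (HopfAlgebra.antipodeAlgHom k A)
  have hle : B ≤ D := by
    rw [hB, genAlg]
    apply Algebra.adjoin_le
    rintro _ (⟨⟨l, i⟩, rfl⟩ | ⟨⟨l, i⟩, rfl⟩)
    · exact antipode_mem_genAlg a l i
    · show HopfAlgebra.antipode k (HopfAlgebra.antipode k (a l i)) ∈ B
      rw [Groth.Agent.H40.antipode_antipode]
      exact mem_genAlg a l i
  exact hle hx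

end Hopf

end Groth.Agent.Lib.Helper84.MatCoeff
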