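import Mathlib
import Groth.Agent.Lib.Helper84.HopfFFField
import Groth.Agent.Lib.Helper84.ColimFF
import Groth.Agent.S5375

set_option autoImplicit false
set_option linter.style.haveILetI false
set_option linter.unusedSectionVars false
open TensorProduct
open Groth.Agent.Lib.Helper86.HopfSub
universe u

namespace Groth.Agent.Lib.Helper84.HopfFFUnion

open Coalgebra Bialgebra HopfAlgebra

section Sub

variable {k : Type u} [Field k] {A : Type u} [CommRing A] [HopfAlgebra k A]

theorem isHopfSub_iff (B : Subalgebra k A) : SGA3.IsHopfSubalgebra k A B ↔ IsHopfSub k A B := by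
  constructor
  · rintro ⟨h1, h2⟩
    refine ⟨fun b hb => ?_, h2⟩
    obtain ⟨z, hz⟩ := h1 b hb
    exact ⟨z, hz⟩
  · rintro ⟨h1, h2⟩
    refine ⟨fun b hb => ?_, h2⟩
    obtain ⟨z, hz⟩ := h1 b hb
    exact ⟨z, hz⟩

theorem range_jj_mono {B₁ B₂ : Subalgebra k A} (h : B₁ ≤ B₂) :
    (jj k A B₁).range ≤ (jj k A B₂).range := by
  rintro _ ⟨z, rfl⟩
  refine ⟨Algebra.TensorProduct.map (Subalgebra.inclusion h) (Subalgebra.inclusion h) z, ?_⟩
  induction z using TensorProduct.induction_on with
  | zero => simp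
  | tmul x y => rfl
  | add x y hx hy =>
    simp only [map_add] at hx hy ⊢
    rw [hx, hy]

theorem isHopfSub_sup {B₁ B₂ : Subalgebra k A} (h₁ : IsHopfSub k A B₁) (h₂ : IsHopfSub k A B₂) :
    IsHopfSub k A (B₁ ⊔ B₂) := by
  constructor
  · have : B₁ ⊔ B₂ ≤ (jj k A (B₁ ⊔ B₂)).range.comap (Bialgebra.comulAlgHom k A) := by
      refine sup_le ?_ ?_
      · intro b hb
        exact range_jj_mono le_sup_left (h₁.comul_mem b hb)
      · intro b hb
        exact range_jj_mono le_sup_right (h₂.comul_mem b hb)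
    intro b hb
    exact this hb
  · have : B₁ ⊔ B₂ ≤ (B₁ ⊔ B₂).comap (HopfAlgebra.antipodeAlgHom k A) := by
      refine sup_le ?_ ?_
      · intro b hb
        exact (le_sup_left : B₁ ≤ B₁ ⊔ B₂) (h₁.antipode_mem b hb)
      · intro b hb
        exact (le_sup_right : B₂ ≤ B₁ ⊔ B₂) (h₂.antipode_mem b hb)
    intro b hb
    exact this hb

theorem isHopfSub_bot : IsHopfSub k A (⊥ : Subalgebra k A) := by
  constructor
  · intro b hb
    obtain ⟨r, rfl⟩ := Algebra.mem_bot.1 hb
    rw [AlgHom.commutes]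
    exact Subalgebra.algebraMap_mem _ r
  · intro b hb
    obtain ⟨r, rfl⟩ := Algebra.mem_bot.1 hb
    have : HopfAlgebra.antipode k (algebraMap k A r) = algebraMap k A r := by
      rw [Algebra.algebraMap_eq_smul_one, map_smul, HopfAlgebra.antipode_one]
    rw [this]
    exact Subalgebra.algebraMap_mem _ r

variable (k A) in
/-- finitely many elements lie in a finitely generated Hopf subalgebra. -/
theorem exists_fg_hopfSub (t : Finset A) :
    ∃ A' : Subalgebra k A, A'.FG ∧ IsHopfSub k A A' ∧ ∀ x ∈ t, x ∈ A' := by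
  classical
  induction t using Finset.induction_on with
  | empty => exact ⟨⊥, Subalgebra.fg_bot, isHopfSub_bot, by simp⟩
  | insert a s _ ih =>
    obtain ⟨A₁, hfg₁, hH₁, hs⟩ := ih
    obtain ⟨A₂, ha, hfg₂, hH₂⟩ := Groth.Agent.S5375.result k A a
    refine ⟨A₁ ⊔ A₂, hfg₁.sup hfg₂, isHopfSub_sup hH₁ ((isHopfSub_iff A₂).1 hH₂), ?_⟩
    intro x hx
    rw [Finset.mem_insert] at hx
    rcases hx with rfl | hx
    · exact (le_sup_right : A₂ ≤ A₁ ⊔ A₂) ha
    · exact (le_sup_left : A₁ ≤ A₁ ⊔ A₂) (hs x hx)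

/-- finitely many elements of a Hopf subalgebra `B` lie in a finitely generated Hopf subalgebra
contained in `B`. -/
theorem exists_fg_hopfSub_le (B : Subalgebra k A) (hB : IsHopfSub k A B) (s : Finset B) :
    ∃ B' : Subalgebra k A, B'.FG ∧ IsHopfSub k A B' ∧ B' ≤ B ∧ ∀ x ∈ s, (x : A) ∈ B' := by
  letI : HopfAlgebra k B := hopfAlgebraB hB
  obtain ⟨B'', hfg, hH, hs⟩ := exists_fg_hopfSub k B s
  have hle : B''.map B.val ≤ B := by
    rintro _ ⟨b, -, rfl⟩
    exact b.2
  refine ⟨B''.map B.val, hfg.map _, ?_, hle, ?_⟩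
  · let e : B'' →ₐ[k] (B''.map B.val) :=
      (B.val.comp B''.val).codRestrict (B''.map B.val) (fun x => ⟨x.1, x.2, rfl⟩)
    constructor
    · rintro _ ⟨b, hb, rfl⟩
      have h1 : comulAlgHom k A (b : A) = jj k A B (comul (R := k) b) := (map_comul hB b).symm
      obtain ⟨z, hz⟩ := hH.comul_mem b hb
      have hz' : jj k B B'' z = comul (R := k) b := hz
      refine ⟨Algebra.TensorProduct.map e e z, ?_⟩
      change jj k A (B''.map B.val) (Algebra.TensorProduct.map e e z) = comulAlgHom k A (b : A)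
      rw [h1, ← hz']
      clear hz hz'
      induction z using TensorProduct.induction_on with
      | zero => simp
      | tmul x y => rfl
      | add x y hx hy =>
        simp only [map_add] at hx hy ⊢
        rw [hx, hy]
    · rintro _ ⟨b, hb, rfl⟩
      refine ⟨HopfAlgebra.antipode k b, hH.antipode_mem b hb, ?_⟩
      exact coe_antipode hB b
  · intro x hx
    exact ⟨x, hs x hx, rfl⟩

end Sub

section Main

variable {k : Type u} [Field k] {A : Type u} [CommRing A] [HopfAlgebra k A]

/-- inclusion of finitely generated Hopf subalgebras is faithfully flat. -/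
theorem inclusion_faithfullyFlat {B' A' : Subalgebra k A} (hB' : IsHopfSub k A B')
    (hA' : IsHopfSub k A A') (hfgB : B'.FG) (hfgA : A'.FG) (hle : B' ≤ A') :
    ((Subalgebra.inclusion hle : B' →ₐ[k] A') : B' →+* A').FaithfullyFlat := by
  letI : HopfAlgebra k B' := hopfAlgebraB hB'
  letI : HopfAlgebra k A' := hopfAlgebraB hA'
  haveI : Algebra.FiniteType k B' := (Subalgebra.fg_iff_finiteType B').1 hfgB
  haveI : Algebra.FiniteType k A' := (Subalgebra.fg_iff_finiteType A').1 hfgA
  let incl : B' →ₐc[k] A' := BialgHom.ofAlgHom (Subalgebra.inclusion hle)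
    (by ext c; rfl)
    (by
      ext b
      apply jj_injective k A A'
      have h1 : jj k A A' (comulAlgHom k A' (Subalgebra.inclusion hle b)) =
          comulAlgHom k A ((Subalgebra.inclusion hle b : A' ) : A) :=
        map_comul hA' (Subalgebra.inclusion hle b)
      have h2 : jj k A B' (comulAlgHom k B' b) = comulAlgHom k A (b : A) := map_comul hB' b
      simp only [AlgHom.comp_apply]
      rw [h1]
      change _ = comulAlgHom k A (b : A)
      rw [← h2]
      generalize comulAlgHom k B' b = z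
      induction z using TensorProduct.induction_on with
      | zero => simp
      | tmul x y => rfl
      | add x y hx hy =>
        simp only [map_add] at hx hy ⊢
        rw [hx, hy])
  letI : Algebra B' A' := ((Subalgebra.inclusion hle : B' →ₐ[k] A') : B' →+* A').toAlgebra
  haveI : IsScalarTower k B' A' := IsScalarTower.of_algebraMap_eq (fun r => rfl)
  have h : Module.FaithfullyFlat B' A' :=
    HopfFFField.faithfullyFlat_of_injective incl (fun _ => rfl)
      (Subalgebra.inclusion_injective hle)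
  exact h

/-- **A commutative Hopf algebra over a field is faithfully flat over every Hopf subalgebra.** -/
theorem faithfullyFlat_hopfSub (B : Subalgebra k A) (hB : IsHopfSub k A B) :
    Module.FaithfullyFlat B A := by
  classical
  let J := {p : Subalgebra k A × Subalgebra k A // p.1.FG ∧ IsHopfSub k A p.1 ∧ p.1 ≤ B ∧
    p.2.FG ∧ IsHopfSub k A p.2 ∧ p.1 ≤ p.2}
  rw [← RingHom.faithfullyFlat_algebraMap_iff]
  apply ColimFF.faithfullyFlat_of_directed (J := J) (Cj := fun j => ↥j.1.1)
    (Aj := fun j => ↥j.1.2) (algebraMap B A)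
    (fun j => ((Subalgebra.inclusion j.2.2.2.2.2.2 : j.1.1 →ₐ[k] j.1.2) : j.1.1 →+* j.1.2))
    (fun j => ((Subalgebra.inclusion j.2.2.2.1 : j.1.1 →ₐ[k] B) : j.1.1 →+* B))
    (fun j => (j.1.2.val : j.1.2 →+* A))
  · intro j c
    rfl
  · intro s t
    obtain ⟨B', hfgB, hHB, hleB, hsB⟩ := exists_fg_hopfSub_le B hB s
    obtain ⟨A'', hfgA, hHA, htA⟩ := exists_fg_hopfSub k A t
    refine ⟨⟨(B', A'' ⊔ B'), hfgB, hHB, hleB, hfgA.sup hfgB, isHopfSub_sup hHA hHB,
      le_sup_right⟩, ?_, ?_⟩
    · intro x hx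
      exact ⟨⟨(x : A), hsB x hx⟩, rfl⟩
    · intro x hx
      exact ⟨⟨x, (le_sup_left : A'' ≤ A'' ⊔ B') (htA x hx)⟩, rfl⟩
  · intro j a ha
    have ha0 : a = 0 := Subtype.ext ha
    refine ⟨j, RingHom.id _, RingHom.id _, fun _ => rfl, fun _ => rfl, fun _ => rfl, ?_⟩
    rw [ha0]
    rfl
  · intro j
    exact inclusion_faithfullyFlat j.2.2.1 j.2.2.2.2.2.1 j.2.1 j.2.2.2.2.1 j.2.2.2.2.2.2

end Main

end Groth.Agent.Lib.Helper84.HopfFFUnion
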