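import Mathlib
import Groth.Prelude.Def_SGA3
import Groth.Agent.Lib.Helper84.Coinv
import Groth.Agent.Lib.Helper84.HopfFFUnion

/-!
# `B = A^{co A/B⁺A}` for a Hopf subalgebra `B` (helper84)
-/

set_option autoImplicit false
set_option linter.style.haveILetI false
set_option linter.unusedSectionVars false
open TensorProduct WithConv
universe u v w x y

namespace Groth.Agent.Lib.Helper84.CoinvSub

open Groth.Agent.Lib.Helper84.Points Groth.Agent.Lib.Helper84.Coinv

section Lift

variable {k : Type u} [CommRing k] {A : Type u} [CommRing A] [HopfAlgebra k A]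
variable {R : Type u} [CommRing R] [Algebra k R] (B : Subalgebra k A)

theorem lift_congr_of_mem_range (g n n' : A →ₐ[k] R) (hn : ∀ b ∈ B, n b = n' b) (z : A ⊗[k] A)
    (hz : z ∈ LinearMap.range (TensorProduct.map B.val.toLinearMap B.val.toLinearMap)) :
    Algebra.TensorProduct.lift g n (fun _ _ => Commute.all _ _) z =
      Algebra.TensorProduct.lift g n' (fun _ _ => Commute.all _ _) z := by
  obtain ⟨y, rfl⟩ := hz
  induction y using TensorProduct.induction_on with
  | zero => simp
  | tmul a b =>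
    simp only [TensorProduct.map_tmul, AlgHom.toLinearMap_apply, Subalgebra.coe_val,
      Algebra.TensorProduct.lift_tmul]
    rw [hn b b.2]
  | add a b ha hb => simp only [map_add, ha, hb]

theorem lift_congr_of_mem_range' (g g' n : A →ₐ[k] R) (hg : ∀ b ∈ B, g b = g' b) (z : A ⊗[k] A)
    (hz : z ∈ LinearMap.range (TensorProduct.map B.val.toLinearMap B.val.toLinearMap)) :
    Algebra.TensorProduct.lift g n (fun _ _ => Commute.all _ _) z =
      Algebra.TensorProduct.lift g' n (fun _ _ => Commute.all _ _) z := by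
  obtain ⟨y, rfl⟩ := hz
  induction y using TensorProduct.induction_on with
  | zero => simp
  | tmul a b =>
    simp only [TensorProduct.map_tmul, AlgHom.toLinearMap_apply, Subalgebra.coe_val,
      Algebra.TensorProduct.lift_tmul]
    rw [hg a a.2]
  | add a b ha hb => simp only [map_add, ha, hb]

/-- a point killing `B⁺A` restricts to the counit on `B`. -/
theorem eq_counit_of_kills (n : Pt k A R) (hn : Kills (SGA3.augIdealSpan k A B) n) (b : A)
    (hb : b ∈ B) : n.ofConv b = (1 : Pt k A R).ofConv b := by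
  have h1 : b - algebraMap k A (Coalgebra.counit (R := k) b) ∈ SGA3.augIdealSpan k A B := by
    apply Ideal.subset_span
    refine ⟨B.sub_mem hb (B.algebraMap_mem _), ?_⟩
    rw [map_sub, Bialgebra.counit_algebraMap, sub_self]
  have h2 := hn _ h1
  rw [map_sub, sub_eq_zero, AlgHom.commutes] at h2
  rw [h2, one_apply]

/-- a point restricting to the counit on `B` kills `B⁺A`. -/
theorem kills_of_eq_counit (n : Pt k A R) (hn : ∀ b ∈ B, n.ofConv b = (1 : Pt k A R).ofConv b) :
    Kills (SGA3.augIdealSpan k A B) n := by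
  have hle : SGA3.augIdealSpan k A B ≤ RingHom.ker (n.ofConv : A →+* R) := by
    unfold SGA3.augIdealSpan
    rw [Ideal.span_le]
    rintro b ⟨hb, hε⟩
    rw [SetLike.mem_coe, RingHom.mem_ker]
    change n.ofConv b = 0
    rw [hn b hb, one_apply, hε, map_zero]
  intro a ha
  exact hle ha

end Lift

section Main

variable {k : Type u} [Field k] {A : Type u} [CommRing A] [HopfAlgebra k A]
variable (B : Subalgebra k A) (hB : SGA3.IsHopfSubalgebra k A B)

include hB in
theorem le_coinv_augIdealSpan : B ≤ coinv (k := k) (SGA3.augIdealSpan k A B) := by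
  intro b hb
  rw [mem_coinv_iff_points]
  intro R _ _ g n hn
  rw [mul_apply, lift_congr_of_mem_range B g.ofConv n.ofConv (1 : Pt k A R).ofConv
    (eq_counit_of_kills B n hn) _ (hB.1 b hb), ← mul_apply, mul_one]

include hB in
/-- **`A^{co A/B⁺A} = B`** for a Hopf subalgebra `B` of a commutative Hopf algebra over a field. -/
theorem coinv_augIdealSpan : coinv (k := k) (SGA3.augIdealSpan k A B) = B := by
  apply le_antisymm _ (le_coinv_augIdealSpan B hB)
  intro x hx
  haveI : Module.FaithfullyFlat B A :=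
    HopfFFUnion.faithfullyFlat_hopfSub B ((HopfFFUnion.isHopfSub_iff B).1 hB)
  -- the two points of `A ⊗_B A`
  let g₁ : Pt k A (A ⊗[B] A) := toConv (Algebra.TensorProduct.includeLeft (R := B) (S := k))
  let g₂ : Pt k A (A ⊗[B] A) :=
    toConv ((Algebra.TensorProduct.includeRight : A →ₐ[B] A ⊗[B] A).restrictScalars k)
  have hg : ∀ b ∈ B, g₁.ofConv b = g₂.ofConv b := by
    intro b hb
    change (b : A) ⊗ₜ[B] (1 : A) = (1 : A) ⊗ₜ[B] (b : A)
    have : (b : A) = (⟨b, hb⟩ : B) • (1 : A) := by
      rw [Subalgebra.smul_def, smul_eq_mul, mul_one]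
    rw [this, TensorProduct.smul_tmul]
  have hm : Kills (SGA3.augIdealSpan k A B) (g₂⁻¹ * g₁) := by
    apply kills_of_eq_counit
    intro b hb
    rw [mul_apply, lift_congr_of_mem_range B (g₂⁻¹).ofConv g₁.ofConv g₂.ofConv hg _ (hB.1 b hb),
      ← mul_apply, inv_mul_cancel]
  have h1 : g₁ = g₂ * (g₂⁻¹ * g₁) := by group
  rw [mem_coinv_iff_points] at hx
  have h2 := hx _ g₂ _ hm
  rw [← h1] at h2
  -- `x ⊗ 1 = 1 ⊗ x`
  have h3 : x ⊗ₜ[B] (1 : A) = (1 : A) ⊗ₜ[B] x := h2
  -- descent
  let Bm : Submodule B A := LinearMap.range (Algebra.linearMap B A)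
  have h4 := congrArg (LinearMap.lTensor A Bm.mkQ) h3
  rw [LinearMap.lTensor_tmul, LinearMap.lTensor_tmul] at h4
  have h5 : Bm.mkQ (1 : A) = 0 := by
    rw [Submodule.mkQ_apply, Submodule.Quotient.mk_eq_zero]
    exact ⟨1, by simp⟩
  rw [h5, TensorProduct.tmul_zero] at h4
  have h6 := (Module.FaithfullyFlat.one_tmul_eq_zero_iff (R := B) (A := A) (M := A ⧸ Bm) (Bm.mkQ x)).1 h4.symm
  rw [Submodule.mkQ_apply, Submodule.Quotient.mk_eq_zero] at h6
  obtain ⟨b, hb⟩ := h6
  rw [← hb]
  exact b.2

end Main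

end Groth.Agent.Lib.Helper84.CoinvSub
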