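import Groth.Prelude.Def_W4c4lgringredgrpLG
import Mathlib.RingTheory.FiniteType
import Mathlib.RingTheory.Finiteness.Projective
import Mathlib.RingTheory.Nakayama
import Mathlib.RingTheory.TensorProduct.Free
import Mathlib.RingTheory.Spectrum.Prime.FreeLocus
import Mathlib.LinearAlgebra.Matrix.ToLin
import Mathlib.LinearAlgebra.Determinant
import Mathlib.Algebra.MvPolynomial.Rename

/-!
LG-rings (local-global rings): helper lemmas (helper84).
-/

set_option autoImplicit false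
universe u v v₁ v₂
open TensorProduct

namespace Groth.Agent.Lib.Helper84.LG

open LGRing MvPolynomial

section basic
variable {R : Type u} [CommRing R]

/-- The LG property for polynomials in any finite set of variables. -/
theorem representsUnit_of_finite (hR : IsLGRing R) {σ : Type} [Finite σ]
    (f : MvPolynomial σ R)
    (h : ∀ (m : Ideal R) [m.IsMaximal], RepresentsUnit f (R ⧸ m)) : RepresentsUnit f R := by
  cases nonempty_fintype σ
  let e := Fintype.equivFin σ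
  have key := hR (Fintype.card σ) (MvPolynomial.rename e f) ?_
  · obtain ⟨s, hs⟩ := key
    refine ⟨s ∘ e, ?_⟩
    rwa [MvPolynomial.aeval_rename] at hs
  · intro m _
    obtain ⟨s, hs⟩ := h m
    refine ⟨s ∘ e.symm, ?_⟩
    rw [MvPolynomial.aeval_rename]
    have : (s ∘ e.symm) ∘ e = s := by
      ext x; simp
    rwa [this]

/-- Nakayama: a finite faithful module is not killed by reduction modulo a proper ideal. -/
theorem smul_top_ne_top_of_faithful (M : Type v) [AddCommGroup M] [Module R M] [Module.Finite R M]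
    [FaithfulSMul R M] (I : Ideal R) (hI : I ≠ ⊤) : I • (⊤ : Submodule R M) ≠ ⊤ := by
  intro h
  obtain ⟨r, hr, hr0⟩ := Submodule.exists_sub_one_mem_and_smul_eq_zero_of_fg_of_le_smul I
    (⊤ : Submodule R M) Module.Finite.fg_top (by rw [h])
  have : r = 0 := by
    apply FaithfulSMul.eq_of_smul_eq_smul (α := M)
    intro a
    rw [hr0 a Submodule.mem_top, zero_smul]
  apply hI
  rw [Ideal.eq_top_iff_one]
  rw [this, zero_sub] at hr
  simpa using I.neg_mem hr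

end basic

section unimodular
variable {R : Type u} [CommRing R]

/-- Over an LG-ring, a faithfully projective module has a unimodular element. -/
theorem exists_unimodular (hR : IsLGRing R) (M : Type v) [AddCommGroup M] [Module R M]
    [Module.Finite R M] [Module.Projective R M] [FaithfulSMul R M] :
    ∃ (m : M) (f : Module.Dual R M), f m = 1 := by
  classical
  obtain ⟨n, p, i, -, -, hpi⟩ := Module.Finite.exists_comp_eq_id_of_projective R M
  have hpi' : ∀ z, p (i z) = z := fun z => LinearMap.congr_fun hpi z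
  let P : Matrix (Fin n) (Fin n) R := LinearMap.toMatrix' (i ∘ₗ p)
  have hP : ∀ (x : Fin n → R) a, i (p x) a = ∑ b, P a b * x b := by
    intro x a
    have := congrFun (LinearMap.toMatrix'_mulVec (i ∘ₗ p) x) a
    rw [LinearMap.comp_apply] at this
    rw [← this]
    rfl
  let F : MvPolynomial (Fin n ⊕ Fin n) R :=
    ∑ a, ∑ b, X (Sum.inr a) * C (P a b) * X (Sum.inl b)
  have hF : ∀ (S : Type u) [CommRing S] [Algebra R S] (s : Fin n ⊕ Fin n → S),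
      aeval s F = ∑ a, ∑ b, s (Sum.inr a) * algebraMap R S (P a b) * s (Sum.inl b) := by
    intro S _ _ s
    simp [F]
  have key := representsUnit_of_finite hR F ?_
  · obtain ⟨s, hs⟩ := key
    rw [hF] at hs
    obtain ⟨u, hu⟩ := hs
    let f0 : Module.Dual R M := ∑ a, s (Sum.inr a) • (LinearMap.proj a ∘ₗ i)
    refine ⟨p (fun b => s (Sum.inl b)), (↑u⁻¹ : R) • f0, ?_⟩
    have : f0 (p (fun b => s (Sum.inl b))) = (u : R) := by
      rw [hu]
      simp only [f0, LinearMap.sum_apply, LinearMap.smul_apply, LinearMap.comp_apply,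
        LinearMap.proj_apply, hP, smul_eq_mul, Finset.mul_sum, Algebra.algebraMap_self,
        RingHom.id_apply, mul_assoc]
    rw [LinearMap.smul_apply, this, smul_eq_mul]
    exact Units.inv_mul u
  · intro m hm
    by_cases hall : ∀ a b, P a b ∈ m
    · exfalso
      refine smul_top_ne_top_of_faithful M m hm.ne_top ?_
      rw [eq_top_iff]
      intro z _
      have hz : z = ∑ b, (i z) b • p (fun j => if b = j then 1 else 0) := by
        conv_lhs => rw [← hpi' z, LinearMap.pi_apply_eq_sum_univ p (i z)]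
      rw [hz]
      refine Submodule.sum_mem _ fun b _ => ?_
      refine Submodule.smul_mem_smul ?_ Submodule.mem_top
      have : (i z) b = ∑ c, P b c * (i z) c := by
        have h := hP (i z) b
        rwa [hpi'] at h
      rw [this]
      exact Ideal.sum_mem _ fun c _ => Ideal.mul_mem_right _ _ (hall b c)
    · push Not at hall
      obtain ⟨a, b, hab⟩ := hall
      refine ⟨fun t => Sum.elim (fun b' => if b' = b then 1 else 0)
        (fun a' => if a' = a then 1 else 0) t, ?_⟩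
      rw [hF]
      simp only [Sum.elim_inr, Sum.elim_inl, ite_mul, one_mul, zero_mul, mul_ite, mul_one,
        mul_zero, Finset.sum_ite_eq', Finset.mem_univ, if_true]
      letI := Ideal.Quotient.field m
      rw [isUnit_iff_ne_zero]
      rw [Ideal.Quotient.algebraMap_eq, Ne, Ideal.Quotient.eq_zero_iff_mem]
      exact hab

end unimodular

section retract
variable {R : Type u} [CommRing R] {M₁ : Type v₁} {M₂ : Type v₂}
  [AddCommGroup M₁] [Module R M₁] [AddCommGroup M₂] [Module R M₂]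
  {V₁ : Type*} {V₂ : Type*} [AddCommGroup V₁] [Module R V₁] [AddCommGroup V₂] [Module R V₂]

/-- The endomorphism `1 - Π₂ + Π₂ X Π₁ Y Π₂` of `V₂` where `Π_j = i_j ∘ p_j`. -/
def TT (p₁ : V₁ →ₗ[R] M₁) (i₁ : M₁ →ₗ[R] V₁) (p₂ : V₂ →ₗ[R] M₂) (i₂ : M₂ →ₗ[R] V₂)
    (X : V₁ →ₗ[R] V₂) (Y : V₂ →ₗ[R] V₁) : V₂ →ₗ[R] V₂ :=
  LinearMap.id - i₂ ∘ₗ p₂ + (i₂ ∘ₗ p₂) ∘ₗ X ∘ₗ (i₁ ∘ₗ p₁) ∘ₗ Y ∘ₗ (i₂ ∘ₗ p₂)

theorem TT_apply (p₁ : V₁ →ₗ[R] M₁) (i₁ : M₁ →ₗ[R] V₁) (p₂ : V₂ →ₗ[R] M₂) (i₂ : M₂ →ₗ[R] V₂)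
    (X : V₁ →ₗ[R] V₂) (Y : V₂ →ₗ[R] V₁) (w : V₂) :
    TT p₁ i₁ p₂ i₂ X Y w = w - i₂ (p₂ w) + i₂ (p₂ (X (i₁ (p₁ (Y (i₂ (p₂ w))))))) := rfl

theorem surjective_of_TT_surjective (p₁ : V₁ →ₗ[R] M₁) (i₁ : M₁ →ₗ[R] V₁) (p₂ : V₂ →ₗ[R] M₂)
    (i₂ : M₂ →ₗ[R] V₂) (h₂ : ∀ z, p₂ (i₂ z) = z)
    (X : V₁ →ₗ[R] V₂) (Y : V₂ →ₗ[R] V₁)
    (hs : Function.Surjective (TT p₁ i₁ p₂ i₂ X Y)) :
    Function.Surjective (p₂ ∘ₗ X ∘ₗ i₁) := by
  intro z
  obtain ⟨w, hw⟩ := hs (i₂ z)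
  refine ⟨p₁ (Y (i₂ (p₂ w))), ?_⟩
  have := congrArg p₂ hw
  rw [TT_apply, map_add, map_sub, h₂, h₂, h₂, sub_self, zero_add] at this
  exact this

theorem bijective_of_TT_surjective [Module.Finite R M₁]
    (p₁ : V₁ →ₗ[R] M₁) (i₁ : M₁ →ₗ[R] V₁) (p₂ : V₂ →ₗ[R] M₂)
    (i₂ : M₂ →ₗ[R] V₂) (h₁ : ∀ z, p₁ (i₁ z) = z) (h₂ : ∀ z, p₂ (i₂ z) = z)
    (X : V₁ →ₗ[R] V₂) (Y : V₂ →ₗ[R] V₁)
    (hs₂ : Function.Surjective (TT p₁ i₁ p₂ i₂ X Y))
    (hs₁ : Function.Surjective (TT p₂ i₂ p₁ i₁ Y X)) :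
    Function.Bijective (p₂ ∘ₗ X ∘ₗ i₁) := by
  have hh := surjective_of_TT_surjective p₁ i₁ p₂ i₂ h₂ X Y hs₂
  have hg := surjective_of_TT_surjective p₂ i₂ p₁ i₁ h₁ Y X hs₁
  refine ⟨?_, hh⟩
  have hgh : Function.Surjective ((p₁ ∘ₗ Y ∘ₗ i₂) ∘ₗ (p₂ ∘ₗ X ∘ₗ i₁)) := hg.comp hh
  have hinj := OrzechProperty.injective_of_surjective_endomorphism _ hgh
  rw [LinearMap.coe_comp] at hinj
  exact Function.Injective.of_comp hinj

theorem TT_eq_id_of_equiv (p₁ : V₁ →ₗ[R] M₁) (i₁ : M₁ →ₗ[R] V₁) (p₂ : V₂ →ₗ[R] M₂)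
    (i₂ : M₂ →ₗ[R] V₂) (h₁ : ∀ z, p₁ (i₁ z) = z) (h₂ : ∀ z, p₂ (i₂ z) = z)
    (e : M₁ ≃ₗ[R] M₂) :
    TT p₁ i₁ p₂ i₂ (i₂ ∘ₗ e.toLinearMap ∘ₗ p₁) (i₁ ∘ₗ e.symm.toLinearMap ∘ₗ p₂) = LinearMap.id := by
  ext w
  simp only [TT_apply, LinearMap.comp_apply, LinearEquiv.coe_coe, h₁, h₂, LinearEquiv.apply_symm_apply,
    LinearMap.id_apply, sub_add_cancel]

end retract

section matrices
variable {R : Type u} [CommRing R]

/-- Matrix form of `TT`. -/
def TM {S : Type*} [CommRing S] {n₁ n₂ : ℕ} (P₁ : Matrix (Fin n₁) (Fin n₁) S)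
    (P₂ : Matrix (Fin n₂) (Fin n₂) S) (X : Matrix (Fin n₂) (Fin n₁) S)
    (Y : Matrix (Fin n₁) (Fin n₂) S) : Matrix (Fin n₂) (Fin n₂) S :=
  1 - P₂ + P₂ * (X * (P₁ * (Y * P₂)))

theorem TM_map {S T : Type*} [CommRing S] [CommRing T] (φ : S →+* T) {n₁ n₂ : ℕ}
    (P₁ : Matrix (Fin n₁) (Fin n₁) S)
    (P₂ : Matrix (Fin n₂) (Fin n₂) S) (X : Matrix (Fin n₂) (Fin n₁) S)
    (Y : Matrix (Fin n₁) (Fin n₂) S) :
    (TM P₁ P₂ X Y).map φ = TM (P₁.map φ) (P₂.map φ) (X.map φ) (Y.map φ) := by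
  unfold TM
  rw [Matrix.map_add _ (map_add φ), Matrix.map_sub _ (map_sub φ), Matrix.map_one _ (map_zero φ) (map_one φ),
    Matrix.map_mul, Matrix.map_mul, Matrix.map_mul, Matrix.map_mul]

theorem toMatrix_TT {M₁ : Type v₁} {M₂ : Type v₂}
    [AddCommGroup M₁] [Module R M₁] [AddCommGroup M₂] [Module R M₂]
    {V₁ : Type*} {V₂ : Type*} [AddCommGroup V₁] [Module R V₁] [AddCommGroup V₂] [Module R V₂]
    {n₁ n₂ : ℕ} (b₁ : Module.Basis (Fin n₁) R V₁) (b₂ : Module.Basis (Fin n₂) R V₂)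
    (p₁ : V₁ →ₗ[R] M₁) (i₁ : M₁ →ₗ[R] V₁) (p₂ : V₂ →ₗ[R] M₂) (i₂ : M₂ →ₗ[R] V₂)
    (X : V₁ →ₗ[R] V₂) (Y : V₂ →ₗ[R] V₁) :
    LinearMap.toMatrix b₂ b₂ (TT p₁ i₁ p₂ i₂ X Y) =
      TM (LinearMap.toMatrix b₁ b₁ (i₁ ∘ₗ p₁)) (LinearMap.toMatrix b₂ b₂ (i₂ ∘ₗ p₂))
        (LinearMap.toMatrix b₁ b₂ X) (LinearMap.toMatrix b₂ b₁ Y) := by
  unfold TT TM
  rw [map_add, map_sub, LinearMap.toMatrix_id, LinearMap.toMatrix_comp b₂ b₂ b₂,
    LinearMap.toMatrix_comp b₂ b₁ b₂ X, LinearMap.toMatrix_comp b₂ b₁ b₁,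
    LinearMap.toMatrix_comp b₂ b₂ b₁ Y]

/-- The generic matrices and the polynomial whose unit values give isomorphisms. -/
noncomputable def FF {n₁ n₂ : ℕ} (P₁ : Matrix (Fin n₁) (Fin n₁) R) (P₂ : Matrix (Fin n₂) (Fin n₂) R) :
    MvPolynomial ((Fin n₂ × Fin n₁) ⊕ (Fin n₁ × Fin n₂)) R :=
  (TM (P₁.map C) (P₂.map C) (Matrix.of fun a b => X (Sum.inl (a, b)))
      (Matrix.of fun a b => X (Sum.inr (a, b)))).det *
  (TM (P₂.map C) (P₁.map C) (Matrix.of fun a b => X (Sum.inr (a, b)))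
      (Matrix.of fun a b => X (Sum.inl (a, b)))).det

theorem aeval_FF {S : Type*} [CommRing S] [Algebra R S] {n₁ n₂ : ℕ}
    (P₁ : Matrix (Fin n₁) (Fin n₁) R) (P₂ : Matrix (Fin n₂) (Fin n₂) R)
    (s : (Fin n₂ × Fin n₁) ⊕ (Fin n₁ × Fin n₂) → S) :
    aeval s (FF P₁ P₂) =
      (TM (P₁.map (algebraMap R S)) (P₂.map (algebraMap R S))
        (Matrix.of fun a b => s (Sum.inl (a, b))) (Matrix.of fun a b => s (Sum.inr (a, b)))).det *
      (TM (P₂.map (algebraMap R S)) (P₁.map (algebraMap R S))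
        (Matrix.of fun a b => s (Sum.inr (a, b))) (Matrix.of fun a b => s (Sum.inl (a, b)))).det := by
  have hC : ∀ {n : ℕ} (P : Matrix (Fin n) (Fin n) R),
      (P.map C).map (aeval s : MvPolynomial _ R →ₐ[R] S).toRingHom = P.map (algebraMap R S) := by
    intro n P
    ext a b
    simp
  have hX : (Matrix.of fun (a : Fin n₂) (b : Fin n₁) =>
      (X (Sum.inl (a, b)) : MvPolynomial ((Fin n₂ × Fin n₁) ⊕ (Fin n₁ × Fin n₂)) R)).map
        (aeval s : MvPolynomial _ R →ₐ[R] S).toRingHom = Matrix.of fun a b => s (Sum.inl (a, b)) := by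
    ext a b
    simp
  have hY : (Matrix.of fun (a : Fin n₁) (b : Fin n₂) =>
      (X (Sum.inr (a, b)) : MvPolynomial ((Fin n₂ × Fin n₁) ⊕ (Fin n₁ × Fin n₂)) R)).map
        (aeval s : MvPolynomial _ R →ₐ[R] S).toRingHom = Matrix.of fun a b => s (Sum.inr (a, b)) := by
    ext a b
    simp
  unfold FF
  rw [map_mul]
  have hdet : ∀ {n : ℕ} (A : Matrix (Fin n) (Fin n) (MvPolynomial ((Fin n₂ × Fin n₁) ⊕ (Fin n₁ × Fin n₂)) R)),
      aeval s A.det = (A.map (aeval s : MvPolynomial _ R →ₐ[R] S).toRingHom).det := by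
    intro n A
    exact (RingHom.map_det (aeval s : MvPolynomial _ R →ₐ[R] S).toRingHom A)
  rw [hdet, hdet, TM_map, TM_map, hC, hC, hX, hY]

end matrices

section key
variable {R : Type u} [CommRing R]

theorem finrank_quotient_tensor (m : Ideal R) [m.IsMaximal] (M : Type v) [AddCommGroup M]
    [Module R M] [Module.Finite R M] [Module.Projective R M] :
    Module.finrank (R ⧸ m) ((R ⧸ m) ⊗[R] M) = Module.rankAtStalk M
      ((⟨⊥, Ideal.isPrime_bot⟩ : PrimeSpectrum (R ⧸ m)).comap (algebraMap R (R ⧸ m))) := by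
  letI := Ideal.Quotient.field m
  rw [← Module.rankAtStalk_baseChange, Module.rankAtStalk_eq_finrank_of_free]
  rfl

open Module in
/-- Over an LG-ring, finite projective modules with the same rank function are isomorphic. -/
theorem nonempty_linearEquiv_of_rankAtStalk_eq (hR : IsLGRing R)
    (M₁ : Type v₁) (M₂ : Type v₂) [AddCommGroup M₁] [Module R M₁] [Module.Finite R M₁]
    [Module.Projective R M₁] [AddCommGroup M₂] [Module R M₂] [Module.Finite R M₂]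
    [Module.Projective R M₂]
    (h : Module.rankAtStalk (R := R) M₁ = Module.rankAtStalk M₂) : Nonempty (M₁ ≃ₗ[R] M₂) := by
  obtain ⟨n₁, p₁, i₁, -, -, hpi₁⟩ := Module.Finite.exists_comp_eq_id_of_projective R M₁
  obtain ⟨n₂, p₂, i₂, -, -, hpi₂⟩ := Module.Finite.exists_comp_eq_id_of_projective R M₂
  have h₁ : ∀ z, p₁ (i₁ z) = z := fun z => LinearMap.congr_fun hpi₁ z
  have h₂ : ∀ z, p₂ (i₂ z) = z := fun z => LinearMap.congr_fun hpi₂ z
  let b₁ := Pi.basisFun R (Fin n₁)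
  let b₂ := Pi.basisFun R (Fin n₂)
  let P₁ := LinearMap.toMatrix b₁ b₁ (i₁ ∘ₗ p₁)
  let P₂ := LinearMap.toMatrix b₂ b₂ (i₂ ∘ₗ p₂)
  have key := representsUnit_of_finite hR (FF P₁ P₂) ?_
  · obtain ⟨s, hs⟩ := key
    rw [aeval_FF] at hs
    obtain ⟨hs2, hs1⟩ := IsUnit.mul_iff.mp hs
    have hid : ∀ {n : ℕ} (P : Matrix (Fin n) (Fin n) R), P.map (algebraMap R R) = P := by
      intro n P; ext a b; simp
    rw [hid, hid] at hs2 hs1
    let X := Matrix.toLin b₁ b₂ (Matrix.of fun a b => s (Sum.inl (a, b)))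
    let Y := Matrix.toLin b₂ b₁ (Matrix.of fun a b => s (Sum.inr (a, b)))
    have hT2 : LinearMap.toMatrix b₂ b₂ (TT p₁ i₁ p₂ i₂ X Y) = TM P₁ P₂
        (Matrix.of fun a b => s (Sum.inl (a, b))) (Matrix.of fun a b => s (Sum.inr (a, b))) := by
      rw [toMatrix_TT b₁ b₂]
      simp only [X, Y, LinearMap.toMatrix_toLin, P₁, P₂]
    have hT1 : LinearMap.toMatrix b₁ b₁ (TT p₂ i₂ p₁ i₁ Y X) = TM P₂ P₁
        (Matrix.of fun a b => s (Sum.inr (a, b))) (Matrix.of fun a b => s (Sum.inl (a, b))) := by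
      rw [toMatrix_TT b₂ b₁]
      simp only [X, Y, LinearMap.toMatrix_toLin, P₁, P₂]
    rw [← hT2] at hs2
    rw [← hT1] at hs1
    have hsurj2 : Function.Surjective (TT p₁ i₁ p₂ i₂ X Y) :=
      (LinearEquiv.ofIsUnitDet hs2).surjective
    have hsurj1 : Function.Surjective (TT p₂ i₂ p₁ i₁ Y X) :=
      (LinearEquiv.ofIsUnitDet hs1).surjective
    exact ⟨LinearEquiv.ofBijective _ (bijective_of_TT_surjective p₁ i₁ p₂ i₂ h₁ h₂ X Y hsurj2 hsurj1)⟩
  · intro m hm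
    letI := Ideal.Quotient.field m
    have hfr : Module.finrank (R ⧸ m) ((R ⧸ m) ⊗[R] M₁) = Module.finrank (R ⧸ m) ((R ⧸ m) ⊗[R] M₂) := by
      rw [finrank_quotient_tensor, finrank_quotient_tensor, h]
    obtain ⟨e⟩ := FiniteDimensional.nonempty_linearEquiv_of_finrank_eq hfr
    let c₁ := Algebra.TensorProduct.basis (R ⧸ m) b₁
    let c₂ := Algebra.TensorProduct.basis (R ⧸ m) b₂
    let q₁ := p₁.baseChange (R ⧸ m)
    let q₂ := p₂.baseChange (R ⧸ m)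
    let j₁ := i₁.baseChange (R ⧸ m)
    let j₂ := i₂.baseChange (R ⧸ m)
    have hq₁ : ∀ z, q₁ (j₁ z) = z := by
      intro z
      have : q₁ ∘ₗ j₁ = LinearMap.id := by
        simp only [q₁, j₁]
        rw [← LinearMap.baseChange_comp, hpi₁, LinearMap.baseChange_id]
      exact LinearMap.congr_fun this z
    have hq₂ : ∀ z, q₂ (j₂ z) = z := by
      intro z
      have : q₂ ∘ₗ j₂ = LinearMap.id := by
        simp only [q₂, j₂]
        rw [← LinearMap.baseChange_comp, hpi₂, LinearMap.baseChange_id]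
      exact LinearMap.congr_fun this z
    let X := j₂ ∘ₗ e.toLinearMap ∘ₗ q₁
    let Y := j₁ ∘ₗ e.symm.toLinearMap ∘ₗ q₂
    refine ⟨fun t => Sum.elim (fun ab : Fin n₂ × Fin n₁ => LinearMap.toMatrix c₁ c₂ X ab.1 ab.2)
      (fun ab : Fin n₁ × Fin n₂ => LinearMap.toMatrix c₂ c₁ Y ab.1 ab.2) t, ?_⟩
    rw [aeval_FF]
    have hP₁ : P₁.map (algebraMap R (R ⧸ m)) = LinearMap.toMatrix c₁ c₁ (j₁ ∘ₗ q₁) := by
      simp only [P₁, j₁, q₁, c₁]
      rw [← LinearMap.baseChange_comp, LinearMap.toMatrix_baseChange]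
    have hP₂ : P₂.map (algebraMap R (R ⧸ m)) = LinearMap.toMatrix c₂ c₂ (j₂ ∘ₗ q₂) := by
      simp only [P₂, j₂, q₂, c₂]
      rw [← LinearMap.baseChange_comp, LinearMap.toMatrix_baseChange]
    have hX : (Matrix.of fun a b => Sum.elim (fun ab : Fin n₂ × Fin n₁ => LinearMap.toMatrix c₁ c₂ X ab.1 ab.2)
      (fun ab : Fin n₁ × Fin n₂ => LinearMap.toMatrix c₂ c₁ Y ab.1 ab.2) (Sum.inl (a, b))) = LinearMap.toMatrix c₁ c₂ X := by
      ext a b; rfl
    have hY : (Matrix.of fun a b => Sum.elim (fun ab : Fin n₂ × Fin n₁ => LinearMap.toMatrix c₁ c₂ X ab.1 ab.2)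
      (fun ab : Fin n₁ × Fin n₂ => LinearMap.toMatrix c₂ c₁ Y ab.1 ab.2) (Sum.inr (a, b))) = LinearMap.toMatrix c₂ c₁ Y := by
      ext a b; rfl
    rw [hP₁, hP₂, hX, hY, ← toMatrix_TT c₁ c₂, ← toMatrix_TT c₂ c₁]
    rw [TT_eq_id_of_equiv q₁ j₁ q₂ j₂ hq₁ hq₂ e]
    have := TT_eq_id_of_equiv q₂ j₂ q₁ j₁ hq₂ hq₁ e.symm
    rw [LinearEquiv.symm_symm] at this
    rw [this, LinearMap.toMatrix_id, LinearMap.toMatrix_id, Matrix.det_one, Matrix.det_one, mul_one]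
    exact isUnit_one

end key

end Groth.Agent.Lib.Helper84.LG
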