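import Groth.Agent.Lib.Helper84.ColimFF
import Mathlib.RingTheory.Etale.Weakly
import Mathlib.LinearAlgebra.TensorProduct.Finiteness

/-!
# Directed unions of weakly étale algebras are weakly étale (helper84)
-/

set_option autoImplicit false
universe u w

open TensorProduct

namespace Groth.Agent.Lib.Helper84.ColimWE

variable {A : Type u} [CommRing A] {B : Type u} [CommRing B] [Algebra A B]
  {J : Type w} {Bj : J → Type u} [∀ j, CommRing (Bj j)] [∀ j, Algebra A (Bj j)]
  (ι : ∀ j, Bj j →ₐ[A] B)
  (H1 : ∀ t : Finset B, ∃ j, ∀ x ∈ t, ∃ y, ι j y = x)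
  (H2 : ∀ (j : J) (y : Bj j), ι j y = 0 → ∃ (k : J) (t : Bj j →ₐ[A] Bj k),
    (∀ z, ι k (t z) = ι j z) ∧ t y = 0)

include H1 H2 in
theorem flat_of_directed (hfl : ∀ j, Module.Flat A (Bj j)) : Module.Flat A B := by
  classical
  have h : (algebraMap A B).Flat := by
    apply Groth.Agent.Lib.Helper84.ColimFF.flat_of_directed (J := J) (Cj := fun _ => A)
      (Aj := Bj) (algebraMap A B) (fun j => algebraMap A (Bj j)) (fun _ => RingHom.id A)
      (fun j => (ι j).toRingHom)
    · intro j c
      exact ((ι j).commutes c).symm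
    · intro s t
      obtain ⟨j, hj⟩ := H1 t
      exact ⟨j, fun x _ => ⟨x, rfl⟩, hj⟩
    · intro j a ha
      obtain ⟨k, t, ht1, ht2⟩ := H2 j a ha
      refine ⟨k, RingHom.id A, t.toRingHom, fun c => rfl, ht1, ?_, ht2⟩
      intro c
      exact (t.commutes c).symm
    · intro j
      exact RingHom.flat_algebraMap_iff.2 (hfl j)
  exact RingHom.flat_algebraMap_iff.1 h

omit [∀ j, Algebra A (Bj j)] in
theorem lmul'_map {S T : Type u} [CommRing S] [CommRing T] [Algebra A S] [Algebra A T]
    (f : S →ₐ[A] T) (x : S ⊗[A] S) :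
    Algebra.TensorProduct.lmul' A (S := T) (Algebra.TensorProduct.map f f x) =
      f (Algebra.TensorProduct.lmul' A (S := S) x) := by
  induction x using TensorProduct.induction_on with
  | zero => simp
  | tmul a b => simp
  | add y z hy hz => simp only [map_add, hy, hz]

include H1 H2 in
theorem flat_lmul'_of_directed
    (hfl : ∀ j, (Algebra.TensorProduct.lmul' A (S := Bj j)).Flat) :
    (Algebra.TensorProduct.lmul' A (S := B)).Flat := by
  classical
  apply Groth.Agent.Lib.Helper84.ColimFF.flat_of_directed (J := J)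
    (Cj := fun j => Bj j ⊗[A] Bj j) (Aj := Bj)
    (Algebra.TensorProduct.lmul' A (S := B)).toRingHom
    (fun j => (Algebra.TensorProduct.lmul' A (S := Bj j)).toRingHom)
    (fun j => (Algebra.TensorProduct.map (ι j) (ι j)).toRingHom)
    (fun j => (ι j).toRingHom)
  · intro j c
    exact lmul'_map (ι j) c
  · intro s t
    -- collect all the entries of pure tensors
    have hex : ∀ x : B ⊗[A] B, ∃ S : Finset (B × B), x = ∑ p ∈ S, p.1 ⊗ₜ[A] p.2 :=
      fun x => TensorProduct.exists_finset x
    choose S hS using hex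
    let t' : Finset B := t ∪ (s.biUnion fun x => (S x).image Prod.fst) ∪
      (s.biUnion fun x => (S x).image Prod.snd)
    obtain ⟨j, hj⟩ := H1 t'
    refine ⟨j, ?_, ?_⟩
    · intro x hx
      have h1 : ∀ p ∈ S x, ∃ y, ι j y = p.1 := by
        intro p hp
        apply hj
        simp only [t', Finset.mem_union, Finset.mem_biUnion, Finset.mem_image]
        exact Or.inl (Or.inr ⟨x, hx, p, hp, rfl⟩)
      have h2 : ∀ p ∈ S x, ∃ y, ι j y = p.2 := by
        intro p hp
        apply hj
        simp only [t', Finset.mem_union, Finset.mem_biUnion, Finset.mem_image]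
        exact Or.inr ⟨x, hx, p, hp, rfl⟩
      choose! y1 hy1 using h1
      choose! y2 hy2 using h2
      refine ⟨∑ p ∈ S x, y1 p ⊗ₜ[A] y2 p, ?_⟩
      rw [map_sum]
      conv_rhs => rw [hS x]
      apply Finset.sum_congr rfl
      intro p hp
      show Algebra.TensorProduct.map (ι j) (ι j) (y1 p ⊗ₜ[A] y2 p) = _
      rw [Algebra.TensorProduct.map_tmul, hy1 p hp, hy2 p hp]
    · intro x hx
      apply hj
      simp only [t', Finset.mem_union]
      exact Or.inl (Or.inl hx)
  · intro j a ha
    obtain ⟨k, t, ht1, ht2⟩ := H2 j a ha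
    refine ⟨k, (Algebra.TensorProduct.map t t).toRingHom, t.toRingHom, ?_, ht1, ?_, ht2⟩
    · intro c
      have hcomp : (ι k).comp t = ι j := AlgHom.ext ht1
      show Algebra.TensorProduct.map (ι k) (ι k) (Algebra.TensorProduct.map t t c) =
        Algebra.TensorProduct.map (ι j) (ι j) c
      rw [← AlgHom.comp_apply, ← Algebra.TensorProduct.map_comp, hcomp]
    · intro c
      exact lmul'_map t c
  · intro j
    exact hfl j

include H1 H2 in
theorem weaklyEtale_of_directed (hwe : ∀ j, Algebra.WeaklyEtale A (Bj j)) :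
    Algebra.WeaklyEtale A B where
  flat := flat_of_directed ι H1 H2 (fun j => (hwe j).flat)
  flat_lmul' := flat_lmul'_of_directed ι H1 H2 (fun j => Algebra.WeaklyEtale.flat_lmul' A (Bj j))

end Groth.Agent.Lib.Helper84.ColimWE
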