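import Mathlib
import Groth.Prelude.Def_HopfRep
import Groth.Prelude.Def_ComodTens

set_option autoImplicit false
set_option linter.style.haveILetI false
set_option linter.unusedSectionVars false
open TensorProduct HopfRep
universe u v w x

namespace Groth.Agent.Lib.Helper84.ExtComod

section Iota

variable {k : Type u} [CommRing k] {V : Type w} [AddCommGroup V] [Module k V]
  (R : Type x) [CommRing R] [Algebra k R]

/-- `V ⊗ R → ΛV ⊗ R`. -/
noncomputable def iotaR : V ⊗[k] R →ₗ[k] ExteriorAlgebra k V ⊗[k] R :=
  (ExteriorAlgebra.ι k).rTensor R

@[simp] theorem iotaR_tmul (v : V) (r : R) :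
    iotaR R (v ⊗ₜ[k] r) = ExteriorAlgebra.ι k v ⊗ₜ[k] r := rfl

theorem iotaR_mul_add_swap (s t : V ⊗[k] R) :
    iotaR R s * iotaR R t + iotaR R t * iotaR R s = 0 := by
  induction s using TensorProduct.induction_on with
  | zero => simp
  | tmul v a =>
    induction t using TensorProduct.induction_on with
    | zero => simp
    | tmul w b =>
      rw [iotaR_tmul, iotaR_tmul, Algebra.TensorProduct.tmul_mul_tmul,
        Algebra.TensorProduct.tmul_mul_tmul, mul_comm b a, ← TensorProduct.add_tmul,
        ExteriorAlgebra.ι_add_mul_swap, TensorProduct.zero_tmul]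
    | add x y hx hy =>
      rw [map_add, mul_add, add_mul]
      calc _ = (iotaR R (v ⊗ₜ[k] a) * iotaR R x + iotaR R x * iotaR R (v ⊗ₜ[k] a)) +
            (iotaR R (v ⊗ₜ[k] a) * iotaR R y + iotaR R y * iotaR R (v ⊗ₜ[k] a)) := by abel
        _ = 0 := by rw [hx, hy, add_zero]
  | add x y hx hy =>
    rw [map_add, mul_add, add_mul]
    calc _ = (iotaR R x * iotaR R t + iotaR R t * iotaR R x) +
          (iotaR R y * iotaR R t + iotaR R t * iotaR R y) := by abel
      _ = 0 := by rw [hx, hy, add_zero]

theorem iotaR_sq (t : V ⊗[k] R) : iotaR R t * iotaR R t = 0 := by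
  induction t using TensorProduct.induction_on with
  | zero => simp
  | tmul v a =>
    rw [iotaR_tmul, Algebra.TensorProduct.tmul_mul_tmul, ExteriorAlgebra.ι_sq_zero,
      TensorProduct.zero_tmul]
  | add x y hx hy =>
    rw [map_add, mul_add, add_mul, add_mul, hx, hy, zero_add, add_zero, add_comm]
    exact iotaR_mul_add_swap R x y

end Iota

section Coact

variable {k : Type u} [CommRing k] {A : Type v} [CommRing A] [Bialgebra k A]
variable {V : Type w} [AddCommGroup V] [Module k V] (c : Comod k A V)

/-- the coaction on the exterior algebra, as an algebra map. -/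
noncomputable def coactAlg : ExteriorAlgebra k V →ₐ[k] ExteriorAlgebra k V ⊗[k] A :=
  ExteriorAlgebra.lift k ⟨iotaR A ∘ₗ c.coact, fun _ => iotaR_sq A _⟩

theorem coactAlg_ι (v : V) : coactAlg c (ExteriorAlgebra.ι k v) = iotaR A (c.coact v) := by
  unfold coactAlg
  rw [ExteriorAlgebra.lift_ι_apply]
  rfl

theorem map_coactAlg_iotaR (t : V ⊗[k] A) :
    Algebra.TensorProduct.map (coactAlg c) (AlgHom.id k A) (iotaR A t) =
      (iotaR A ∘ₗ c.coact).rTensor A t := by
  induction t using TensorProduct.induction_on with
  | zero => simp
  | tmul v a =>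
    rw [iotaR_tmul, Algebra.TensorProduct.map_tmul, coactAlg_ι]
    rfl
  | add x y hx hy => simp only [map_add, hx, hy]

/-- the exterior algebra of a comodule is a comodule. -/
@[reducible] noncomputable def extComod : Comod k A (ExteriorAlgebra k V) where
  coact := (coactAlg c).toLinearMap
  coassoc := by
    have h : ((Algebra.TensorProduct.assoc k k k (ExteriorAlgebra k V) A A).toAlgHom.comp
        ((Algebra.TensorProduct.map (coactAlg c) (AlgHom.id k A)).comp (coactAlg c))) =
        (Algebra.TensorProduct.map (AlgHom.id k (ExteriorAlgebra k V))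
          (Bialgebra.comulAlgHom k A)).comp (coactAlg c) := by
      apply ExteriorAlgebra.hom_ext
      ext v
      simp only [LinearMap.comp_apply, AlgHom.toLinearMap_apply, AlgHom.comp_apply]
      rw [coactAlg_ι, map_coactAlg_iotaR]
      change (Algebra.TensorProduct.assoc k k k (ExteriorAlgebra k V) A A) _ = _
      have h1 := LinearMap.congr_fun c.coassoc v
      simp only [LinearMap.comp_apply, LinearEquiv.coe_coe] at h1
      have h2 : ∀ z : (V ⊗[k] A) ⊗[k] A,
          (Algebra.TensorProduct.assoc k k k (ExteriorAlgebra k V) A A)
            ((iotaR A).rTensor A z) =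
          iotaR (A ⊗[k] A) (TensorProduct.assoc k V A A z) := by
        intro z
        induction z using TensorProduct.induction_on with
        | zero => simp
        | tmul y a =>
          induction y using TensorProduct.induction_on with
          | zero => simp
          | tmul v' a' => rfl
          | add p q hp hq =>
            simp only [TensorProduct.add_tmul, map_add, hp, hq]
        | add p q hp hq => simp only [map_add, hp, hq]
      rw [LinearMap.rTensor_comp, LinearMap.comp_apply, h2, h1]
      generalize c.coact v = t
      induction t using TensorProduct.induction_on with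
      | zero => simp
      | tmul v' a => rfl
      | add p q hp hq => simp only [map_add, hp, hq]
    refine LinearMap.ext fun x => ?_
    exact AlgHom.congr_fun h x
  counit_comp := by
    have h : (Algebra.TensorProduct.map (AlgHom.id k (ExteriorAlgebra k V))
        (Bialgebra.counitAlgHom k A)).comp (coactAlg c) =
        (Algebra.TensorProduct.includeLeft : ExteriorAlgebra k V →ₐ[k]
          ExteriorAlgebra k V ⊗[k] k) := by
      apply ExteriorAlgebra.hom_ext
      ext v
      simp only [LinearMap.comp_apply, AlgHom.toLinearMap_apply, AlgHom.comp_apply]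
      rw [coactAlg_ι]
      have h1 := LinearMap.congr_fun c.counit_comp v
      simp only [LinearMap.comp_apply, LinearMap.flip_apply, TensorProduct.mk_apply] at h1
      have h2 : ∀ t : V ⊗[k] A, Algebra.TensorProduct.map (AlgHom.id k (ExteriorAlgebra k V))
          (Bialgebra.counitAlgHom k A) (iotaR A t) =
          iotaR k ((CoalgebraStruct.counit (R := k) (A := A)).lTensor V t) := by
        intro t
        induction t using TensorProduct.induction_on with
        | zero => simp
        | tmul v' a => rfl
        | add p q hp hq => simp only [map_add, hp, hq]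
      rw [h2, h1]
      rfl
    refine LinearMap.ext fun x => ?_
    exact AlgHom.congr_fun h x

theorem extComod_coact (x : ExteriorAlgebra k V) :
    (extComod c).coact x = coactAlg c x := rfl

end Coact

section Points

variable {k : Type u} [CommRing k] {A : Type v} [CommRing A] [Bialgebra k A]
variable {V : Type w} [AddCommGroup V] [Module k V] (c : Comod k A V)
variable {R : Type x} [CommRing R] [Algebra k R] (g : A →ₐ[k] R)

/-- the action of an `R`-point on the exterior algebra, as an algebra map. -/
noncomputable def tauAlg : ExteriorAlgebra k V →ₐ[k] ExteriorAlgebra k V ⊗[k] R :=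
  (Algebra.TensorProduct.map (AlgHom.id k (ExteriorAlgebra k V)) g).comp (coactAlg c)

theorem tauAlg_apply (x : ExteriorAlgebra k V) :
    tauAlg c g x = g.toLinearMap.lTensor (ExteriorAlgebra k V) ((extComod c).coact x) := by
  unfold tauAlg
  rw [AlgHom.comp_apply, extComod_coact]
  generalize coactAlg c x = t
  induction t using TensorProduct.induction_on with
  | zero => simp
  | tmul y a => rfl
  | add p q hp hq => simp only [map_add, hp, hq]

theorem tauAlg_ι (v : V) :
    tauAlg c g (ExteriorAlgebra.ι k v) = iotaR R (g.toLinearMap.lTensor V (c.coact v)) := by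
  unfold tauAlg
  rw [AlgHom.comp_apply, coactAlg_ι]
  generalize c.coact v = t
  induction t using TensorProduct.induction_on with
  | zero => simp
  | tmul y a => rfl
  | add p q hp hq => simp only [map_add, hp, hq]

theorem tauAlg_ιMulti {n : ℕ} (v : Fin n → V) :
    tauAlg c g (ExteriorAlgebra.ιMulti k n v) =
      (List.ofFn fun i => iotaR R (g.toLinearMap.lTensor V (c.coact (v i)))).prod := by
  rw [ExteriorAlgebra.ιMulti_apply, map_list_prod, List.map_ofFn]
  congr 1
  congr 1
  funext i
  exact tauAlg_ι c g (v i)

end Points

end Groth.Agent.Lib.Helper84.ExtComod
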