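import Mathlib
import Groth.Agent.Lib.Helper84.ExtComod
import Groth.Agent.Lib.Helper84.Stabilizer

set_option autoImplicit false
set_option linter.style.haveILetI false
set_option linter.unusedSectionVars false
open TensorProduct HopfRep
universe u v w x

namespace Groth.Agent.Lib.Helper84.ExtLine

open Groth.Agent.Lib.Helper84.ExtComod

section LinAlg

variable {k : Type u} [Field k] {V : Type w} [AddCommGroup V] [Module k V]

/-- the wedge of a linearly independent family is nonzero. -/
theorem ιMulti_ne_zero {n : ℕ} {v : Fin n → V} (hv : LinearIndependent k v) :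
    ExteriorAlgebra.ιMulti k n v ≠ 0 := by
  have h := exteriorPower.ιMulti_family_linearIndependent_field (K := k) (n := n) hv
  let e : Fin n ↪o Fin n := (OrderIso.refl (Fin n)).toOrderEmbedding
  have h2 := h.ne_zero (Set.powersetCard.ofFinEmbEquiv e)
  intro h0
  apply h2
  apply Subtype.ext
  rw [exteriorPower.ιMulti_family, exteriorPower.ιMulti_apply_coe, Equiv.symm_apply_apply]
  exact h0

variable {d : ℕ} (wv : Fin d → V) (hw : LinearIndependent k wv)

/-- `ω = w₀ ∧ … ∧ w_{d-1}`. -/
noncomputable abbrev omega : ExteriorAlgebra k V := ExteriorAlgebra.ιMulti k d wv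

include hw in
/-- the kernel of `x ↦ x ∧ ω` is the span of the `wᵢ`. -/
theorem mem_span_of_ι_mul_omega (x : V) (hx : ExteriorAlgebra.ι k x * omega wv = 0) :
    x ∈ Submodule.span k (Set.range wv) := by
  by_contra hxW
  have hli : LinearIndependent k (Fin.cons x wv : Fin (d + 1) → V) :=
    (linearIndependent_finCons).2 ⟨hw, hxW⟩
  have hne := ιMulti_ne_zero hli
  rw [ExteriorAlgebra.ιMulti_succ_apply] at hne
  apply hne
  have h1 : Matrix.vecTail (Fin.cons x wv : Fin (d + 1) → V) = wv := by
    funext i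
    simp [Matrix.vecTail]
  rw [h1]
  exact hx

section BaseChange

variable (R : Type x) [CommRing R] [Algebra k R]

include hw in
theorem mem_range_of_iotaR_mul (y : V ⊗[k] R)
    (hy : iotaR R y * (omega wv ⊗ₜ[k] (1 : R)) = 0) :
    y ∈ LinearMap.range ((Submodule.span k (Set.range wv)).subtype.rTensor R) := by
  set W := Submodule.span k (Set.range wv) with hW
  let m : V →ₗ[k] ExteriorAlgebra k V :=
    (LinearMap.mulRight k (omega wv)) ∘ₗ (ExteriorAlgebra.ι k)
  have hex : Function.Exact W.subtype m := by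
    intro x
    constructor
    · intro hx
      exact ⟨⟨x, mem_span_of_ι_mul_omega wv hw x hx⟩, rfl⟩
    · rintro ⟨⟨x', hx'⟩, rfl⟩
      change ExteriorAlgebra.ι k x' * omega wv = 0
      induction hx' using Submodule.span_induction with
      | mem x hx =>
        obtain ⟨i, rfl⟩ := hx
        have h0 : ExteriorAlgebra.ιMulti k (d + 1) (Fin.cons (wv i) wv : Fin (d + 1) → V) = 0 := by
          apply AlternatingMap.map_eq_zero_of_eq _ _ (i := 0) (j := i.succ)
          · simp
          · exact (Fin.succ_ne_zero i).symm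
        rw [ExteriorAlgebra.ιMulti_succ_apply] at h0
        have h1 : Matrix.vecTail (Fin.cons (wv i) wv : Fin (d + 1) → V) = wv := by
          funext j
          simp [Matrix.vecTail]
        rw [h1] at h0
        simpa using h0
      | zero => simp
      | add x y _ _ hx hy => rw [map_add, add_mul, hx, hy, add_zero]
      | smul a x _ hx => rw [map_smul, smul_mul_assoc, hx, smul_zero]
  have hex2 := Module.Flat.rTensor_exact R hex
  have hm : ∀ z : V ⊗[k] R, m.rTensor R z = iotaR R z * (omega wv ⊗ₜ[k] (1 : R)) := by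
    intro z
    induction z using TensorProduct.induction_on with
    | zero => simp
    | tmul v r =>
      rw [LinearMap.rTensor_tmul, iotaR_tmul, Algebra.TensorProduct.tmul_mul_tmul, mul_one]
      rfl
    | add p q hp hq => rw [map_add, map_add, add_mul, hp, hq]
  exact (hex2 y).1 ((hm y).trans hy)

omit [Field k] in
theorem list_prod_tmul {k : Type u} [CommRing k] {E : Type*} [Ring E] [Algebra k E] {n : ℕ}
    (a : Fin n → E) (r : Fin n → R) [Algebra k R] :
    (List.ofFn fun i => a i ⊗ₜ[k] r i).prod =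
      (List.ofFn a).prod ⊗ₜ[k] (List.ofFn r).prod := by
  induction n with
  | zero => simp [Algebra.TensorProduct.one_def]
  | succ n ih =>
    rw [List.ofFn_succ, List.ofFn_succ, List.ofFn_succ, List.prod_cons, List.prod_cons,
      List.prod_cons, ih, Algebra.TensorProduct.tmul_mul_tmul]

theorem exists_smul_omega (φ : Fin d → Fin d) :
    ∃ c : k, ExteriorAlgebra.ιMulti k d (wv ∘ φ) = c • omega wv := by
  by_cases hφ : Function.Injective φ
  · have hbij : Function.Bijective φ := Finite.injective_iff_bijective.1 hφ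
    let σ : Equiv.Perm (Fin d) := Equiv.ofBijective φ hbij
    refine ⟨((Equiv.Perm.sign σ : ℤ) : k), ?_⟩
    have h := AlternatingMap.map_perm (ExteriorAlgebra.ιMulti k d (M := V)) wv σ
    have h2 : (wv ∘ φ) = wv ∘ σ := rfl
    rw [h2, h]
    rw [Units.smul_def, ← Int.cast_smul_eq_zsmul k]
  · refine ⟨0, ?_⟩
    rw [zero_smul]
    apply AlternatingMap.map_eq_zero_of_not_injective
    intro hinj
    apply hφ
    intro i j hij
    apply hinj
    simp [hij]

theorem exists_prod_eq (y : Fin d → V ⊗[k] R)
    (hy : ∀ i, y i ∈ LinearMap.range ((Submodule.span k (Set.range wv)).subtype.rTensor R)) :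
    ∃ c : R, (List.ofFn fun i => iotaR R (y i)).prod = omega wv ⊗ₜ[k] c := by
  classical
  set W := Submodule.span k (Set.range wv) with hW
  -- elements of the range are combinations of the `wᵢ`
  have hcomb : ∀ z : W ⊗[k] R, ∃ r : Fin d → R,
      W.subtype.rTensor R z = ∑ j, wv j ⊗ₜ[k] r j := by
    intro z
    induction z using TensorProduct.induction_on with
    | zero => exact ⟨0, by simp⟩
    | tmul w r =>
      obtain ⟨a, ha⟩ := (Submodule.mem_span_range_iff_exists_fun k).1 w.2
      refine ⟨fun j => a j • r, ?_⟩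
      rw [LinearMap.rTensor_tmul, Submodule.subtype_apply, ← ha, TensorProduct.sum_tmul]
      apply Finset.sum_congr rfl
      intro j _
      rw [TensorProduct.smul_tmul]
    | add p q hp hq =>
      obtain ⟨r₁, h₁⟩ := hp
      obtain ⟨r₂, h₂⟩ := hq
      refine ⟨r₁ + r₂, ?_⟩
      rw [map_add, h₁, h₂, ← Finset.sum_add_distrib]
      apply Finset.sum_congr rfl
      intro j _
      rw [Pi.add_apply, TensorProduct.tmul_add]
  have hy' : ∀ i, ∃ r : Fin d → R, y i = ∑ j, wv j ⊗ₜ[k] r j := by
    intro i
    obtain ⟨z, hz⟩ := hy i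
    obtain ⟨r, hr⟩ := hcomb z
    exact ⟨r, hz ▸ hr⟩
  choose r hr using hy'
  let f : MultilinearMap k (fun _ : Fin d => V ⊗[k] R) (ExteriorAlgebra k V ⊗[k] R) :=
    (MultilinearMap.mkPiAlgebraFin k d (ExteriorAlgebra k V ⊗[k] R)).compLinearMap
      (fun _ => iotaR R)
  have hf : ∀ z : Fin d → V ⊗[k] R, f z = (List.ofFn fun i => iotaR R (z i)).prod := fun z => rfl
  rw [← hf]
  have hyr : y = fun i => ∑ j, wv j ⊗ₜ[k] r i j := funext hr
  rw [hyr, MultilinearMap.map_sum]
  choose cφ hcφ using exists_smul_omega (k := k) wv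
  refine ⟨∑ φ : Fin d → Fin d, cφ φ • (List.ofFn fun i => r i (φ i)).prod, ?_⟩
  rw [TensorProduct.tmul_sum]
  apply Finset.sum_congr rfl
  intro φ _
  rw [hf]
  simp only [iotaR_tmul]
  rw [list_prod_tmul]
  have h1 : (List.ofFn fun i => ExteriorAlgebra.ι k (wv (φ i))).prod =
      ExteriorAlgebra.ιMulti k d (wv ∘ φ) := by
    rw [ExteriorAlgebra.ιMulti_apply]
    rfl
  rw [h1, hcφ, TensorProduct.smul_tmul]

end BaseChange

end LinAlg

section Line

open Groth.Agent.Lib.Helper84.RPoints Groth.Agent.Lib.Helper84.Stabilizer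

variable {k : Type u} [Field k] {A : Type v} [CommRing A] [HopfAlgebra k A]
variable {V : Type w} [AddCommGroup V] [Module k V] [cV : Comod k A V]
variable {d : ℕ} (wv : Fin d → V) (hw : LinearIndependent k wv)
variable {R : Type x} [CommRing R] [Algebra k R] (g : A →ₐ[k] R)

omit [Field k] in
theorem ι_mul_omega_of_mem {k : Type u} [CommRing k] [Module k V] (wv : Fin d → V) (x : V)
    (hx : x ∈ Submodule.span k (Set.range wv)) :
    ExteriorAlgebra.ι k x * ExteriorAlgebra.ιMulti k d wv = 0 := by
  induction hx using Submodule.span_induction with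
  | mem x hx =>
    obtain ⟨i, rfl⟩ := hx
    have h0 : ExteriorAlgebra.ιMulti k (d + 1) (Fin.cons (wv i) wv : Fin (d + 1) → V) = 0 := by
      apply AlternatingMap.map_eq_zero_of_eq _ _ (i := 0) (j := i.succ)
      · simp
      · exact (Fin.succ_ne_zero i).symm
    rw [ExteriorAlgebra.ιMulti_succ_apply] at h0
    have h1 : Matrix.vecTail (Fin.cons (wv i) wv : Fin (d + 1) → V) = wv := by
      funext j
      simp [Matrix.vecTail]
    rw [h1] at h0
    simpa using h0
  | zero => simp
  | add x y _ _ hx hy => rw [map_add, add_mul, hx, hy, add_zero]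
  | smul a x _ hx => rw [map_smul, smul_mul_assoc, hx, smul_zero]

include hw in
/-- **the stabilizer of a subspace is the stabilizer of a line in the exterior algebra.** -/
theorem stabP_iff_line :
    StabP (A := A) (Submodule.span k (Set.range wv)) R g ↔
      ∃ c : R, g.toLinearMap.lTensor (ExteriorAlgebra k V) ((extComod cV).coact (omega (k := k) wv)) =
        omega (k := k) wv ⊗ₜ[k] c := by
  set W := Submodule.span k (Set.range wv) with hW
  constructor
  · intro hst
    have hy : ∀ i, g.toLinearMap.lTensor V (cV.coact (wv i)) ∈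
        LinearMap.range (W.subtype.rTensor R) :=
      fun i => hst (wv i) (Submodule.subset_span ⟨i, rfl⟩)
    obtain ⟨c, hc⟩ := exists_prod_eq wv R (fun i => g.toLinearMap.lTensor V (cV.coact (wv i))) hy
    refine ⟨c, ?_⟩
    rw [← tauAlg_apply, tauAlg_ιMulti]
    exact hc
  · rintro ⟨c₀, hc₀⟩
    letI : Comod k A (ExteriorAlgebra k V) := extComod cV
    -- `c₀` is a unit
    have hunit : IsUnit c₀ := by
      have h1 : tau (A := A) g (omega (k := k) wv) = c₀ • ((1 : R) ⊗ₜ[k] omega (k := k) wv) := by
        rw [tau_apply]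
        have : g.toLinearMap.lTensor (ExteriorAlgebra k V)
            (Comod.coact (k := k) (A := A) (omega (k := k) wv)) = omega (k := k) wv ⊗ₜ[k] c₀ := hc₀
        rw [this, TensorProduct.comm_tmul, TensorProduct.smul_tmul', smul_eq_mul, mul_one]
      have h2 : actR (A := A) g ((1 : R) ⊗ₜ[k] omega (k := k) wv) = c₀ • ((1 : R) ⊗ₜ[k] omega (k := k) wv) := by
        rw [actR_one_tmul, h1]
      have h3 := LinearMap.congr_fun
        (actR_inv_comp (A := A) (V := ExteriorAlgebra k V) g) ((1 : R) ⊗ₜ[k] omega (k := k) wv)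
      rw [LinearMap.comp_apply, h2, map_smul, LinearMap.id_apply] at h3
      obtain ⟨φ, hφ⟩ : ∃ φ : ExteriorAlgebra k V →ₗ[k] k, φ (omega (k := k) wv) = 1 := by
        have hne := ιMulti_ne_zero hw
        obtain ⟨f, hf⟩ : ∃ f : Module.Dual k (ExteriorAlgebra k V), f (omega (k := k) wv) ≠ 0 := by
          by_contra hcon
          push Not at hcon
          exact hne ((Module.forall_dual_apply_eq_zero_iff k (omega (k := k) wv)).1 hcon)
        exact ⟨(f (omega (k := k) wv))⁻¹ • f, by simp [hf]⟩
      let Φ : R ⊗[k] ExteriorAlgebra k V →ₗ[R] R :=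
        (Algebra.TensorProduct.rid k R R).toLinearMap ∘ₗ φ.baseChange R
      have hΦ : Φ ((1 : R) ⊗ₜ[k] omega (k := k) wv) = 1 := by
        simp [Φ, hφ]
      have h4 := congrArg Φ h3
      rw [map_smul, hΦ, smul_eq_mul] at h4
      exact IsUnit.of_mul_eq_one _ h4
    obtain ⟨u, hu⟩ := hunit
    intro w hwW
    apply mem_range_of_iotaR_mul wv hw R
    have h1 : ExteriorAlgebra.ι k w * omega (k := k) wv = 0 := ι_mul_omega_of_mem wv w hwW
    have h2 := congrArg (tauAlg cV g) h1
    rw [map_mul, map_zero, tauAlg_ι, tauAlg_apply] at h2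
    have h3 : g.toLinearMap.lTensor (ExteriorAlgebra k V) ((extComod cV).coact (omega (k := k) wv)) =
        omega (k := k) wv ⊗ₜ[k] c₀ := hc₀
    rw [h3] at h2
    have h4 : omega (k := k) wv ⊗ₜ[k] c₀ = (omega (k := k) wv ⊗ₜ[k] (1 : R)) * ((1 : ExteriorAlgebra k V) ⊗ₜ[k] c₀) := by
      rw [Algebra.TensorProduct.tmul_mul_tmul, mul_one, one_mul]
    rw [h4, ← mul_assoc] at h2
    have h5 := congrArg (· * ((1 : ExteriorAlgebra k V) ⊗ₜ[k] ((u⁻¹ : Rˣ) : R))) h2
    simp only [zero_mul] at h5
    rw [mul_assoc, Algebra.TensorProduct.tmul_mul_tmul, mul_one, ← hu, Units.mul_inv,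
      ← Algebra.TensorProduct.one_def, mul_one] at h5
    exact h5

end Line

end Groth.Agent.Lib.Helper84.ExtLine
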