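import Mathlib
import Groth.Prelude.Def_SGA3
import Groth.Prelude.Def_ComodSub
import Groth.Agent.Lib.Helper84.ExtLine
import Groth.Agent.Lib.Helper84.SmallestSubcomod

set_option autoImplicit false
set_option linter.style.haveILetI false
set_option linter.unusedSectionVars false
open TensorProduct HopfRep
universe u v w x

namespace Groth.Agent.Lib.Helper84.Chevalley

open Groth.Agent.Lib.Helper84.ExtComod Groth.Agent.Lib.Helper84.ExtLine
open Groth.Agent.Lib.Helper84.Stabilizer

section Fin

variable {k : Type u} [Field k] {V : Type w} [AddCommGroup V] [Module k V] [Module.Finite k V]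

instance finite_exteriorAlgebra : Module.Finite k (ExteriorAlgebra k V) := by
  let b := Module.finBasis k V
  exact Module.Finite.of_basis b.ExteriorAlgebra

omit [Module.Finite k V] in
theorem exists_fin_basis (W : Submodule k V) [Module.Finite k W] :
    ∃ (d : ℕ) (wv : Fin d → V), LinearIndependent k wv ∧ Submodule.span k (Set.range wv) = W := by
  let b := Module.finBasis k W
  refine ⟨Module.finrank k W, fun i => W.subtype (b i), ?_, ?_⟩
  · exact b.linearIndependent.map' W.subtype (Submodule.ker_subtype W)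
  · have h1 : Set.range (fun i => W.subtype (b i)) = W.subtype '' Set.range b := by
      rw [← Set.range_comp]
      rfl
    rw [h1, ← Submodule.map_span, b.span_eq, Submodule.map_subtype_top]

end Fin

section Sub

variable {k : Type u} [Field k] {A : Type v} [CommRing A] [HopfAlgebra k A]
variable (I : Ideal A) [I.IsHopfIdeal k]
variable (V₀ : Submodule k A) (hV₀ : IsSubcomod (k := k) (A := A) V₀)
variable {R : Type x} [CommRing R] [Algebra k R]

/-- `W = V₀ ∩ I` as a subspace of `V₀`. -/
def Wsub : Submodule k V₀ := (I.restrictScalars k).comap V₀.subtype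

include hV₀ in
theorem stabP_of_kills (g : A →ₐ[k] R) (hg : ∀ a ∈ I, g a = 0) :
    @StabP k _ A _ _ V₀ _ _ (ComodSub.Comod.restr (Comod.regular k A) V₀ hV₀) (Wsub I V₀) R _ _ g := by
  letI cV : Comod k A V₀ := ComodSub.Comod.restr (Comod.regular k A) V₀ hV₀
  intro w hw
  set I' := I.restrictScalars k with hI'
  set W := Wsub I V₀ with hW
  -- the map `q : V₀ → A / I`
  let q : V₀ →ₗ[k] A ⧸ I' := I'.mkQ ∘ₗ V₀.subtype
  have hqker : LinearMap.ker q = W := by
    ext x
    simp only [q, LinearMap.mem_ker, LinearMap.comp_apply, Submodule.mkQ_apply,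
      Submodule.Quotient.mk_eq_zero]
    rfl
  let j : V₀ ⧸ W →ₗ[k] A ⧸ I' := W.liftQ q (le_of_eq hqker.symm)
  have hj : Function.Injective j := by
    rw [← LinearMap.ker_eq_bot]
    exact Submodule.ker_liftQ_eq_bot _ _ _ (le_of_eq hqker)
  have hjq : j ∘ₗ W.mkQ = q := Submodule.liftQ_mkQ _ _ _
  have hjR : Function.Injective (j.rTensor R) :=
    Module.Flat.rTensor_preserves_injective_linearMap _ hj
  -- `g` factors through `A / I`
  let gbar : A ⧸ I' →ₗ[k] R := I'.liftQ g.toLinearMap (fun a ha => by
    rw [LinearMap.mem_ker]; exact hg a ha)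
  have hgbar : gbar ∘ₗ I'.mkQ = g.toLinearMap := Submodule.liftQ_mkQ _ _ _
  -- the key vanishing
  have hkey : TensorProduct.map q g.toLinearMap (cV.coact w) = 0 := by
    have h1 : TensorProduct.map q g.toLinearMap =
        (gbar.lTensor (A ⧸ I')) ∘ₗ (TensorProduct.map I'.mkQ I'.mkQ) ∘ₗ (V₀.subtype.rTensor A) := by
      rw [← hgbar]
      apply TensorProduct.ext'
      intro x a
      simp [q]
    rw [h1, LinearMap.comp_apply, LinearMap.comp_apply]
    have h2 : V₀.subtype.rTensor A (cV.coact w) = CoalgebraStruct.comul (R := k) (A := A) (w : A) :=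
      ComodSub.rTensor_subtype_restrCoact (Comod.regular k A) V₀ hV₀ w
    rw [h2]
    have h3 : TensorProduct.map I'.mkQ I'.mkQ (CoalgebraStruct.comul (R := k) (A := A) (w : A)) = 0 :=
      Submodule.IsCoideal.map_mkQ_comul_eq_zero (I := I') hw
    rw [h3, map_zero]
  have hzero : (W.mkQ.rTensor R) (g.toLinearMap.lTensor V₀ (cV.coact w)) = 0 := by
    apply hjR
    rw [map_zero, ← LinearMap.comp_apply, ← LinearMap.rTensor_comp, hjq, ← LinearMap.comp_apply,
      LinearMap.rTensor_comp_lTensor]
    exact hkey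
  rw [← rTensor_mkQ, LinearMap.mem_ker]
  exact hzero

include hV₀ in
theorem kills_of_stabP (g : A →ₐ[k] R)
    (hg : @StabP k _ A _ _ V₀ _ _ (ComodSub.Comod.restr (Comod.regular k A) V₀ hV₀) (Wsub I V₀) R _ _ g)
    (w : V₀) (hw : w ∈ Wsub I V₀) : g (w : A) = 0 := by
  letI cV : Comod k A V₀ := ComodSub.Comod.restr (Comod.regular k A) V₀ hV₀
  set W := Wsub I V₀ with hW
  let φ : V₀ →ₗ[k] k := (CoalgebraStruct.counit (R := k) (A := A)) ∘ₗ V₀.subtype
  have h1 := lid_rTensor_lTensor (A := A) (V := V₀) φ g (cV.coact w)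
  have h2 : TensorProduct.lid k A (φ.rTensor A (cV.coact w)) = (w : A) := by
    have : φ.rTensor A (cV.coact w) =
        (CoalgebraStruct.counit (R := k) (A := A)).rTensor A (V₀.subtype.rTensor A (cV.coact w)) := by
      rw [← LinearMap.comp_apply ((CoalgebraStruct.counit (R := k) (A := A)).rTensor A),
        ← LinearMap.rTensor_comp]
    rw [this]
    have h2' : V₀.subtype.rTensor A (cV.coact w) = CoalgebraStruct.comul (R := k) (A := A) (w : A) :=
      ComodSub.rTensor_subtype_restrCoact (Comod.regular k A) V₀ hV₀ w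
    rw [h2', Coalgebra.rTensor_counit_comul]
    simp
  rw [h2] at h1
  rw [← h1]
  obtain ⟨y, hy⟩ := hg w hw
  have hy' : g.toLinearMap.lTensor V₀ (cV.coact w) = W.subtype.rTensor R y := hy.symm
  rw [hy', ← LinearMap.comp_apply, ← LinearMap.rTensor_comp]
  have h0 : φ ∘ₗ W.subtype = 0 := by
    apply LinearMap.ext
    intro x
    have hx : ((x : V₀) : A) ∈ I.restrictScalars k := x.2
    simp only [φ, LinearMap.comp_apply, Submodule.subtype_apply, LinearMap.zero_apply]
    exact Submodule.IsCoideal.counit_eq_zero hx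
  rw [h0, LinearMap.rTensor_zero, LinearMap.zero_apply, map_zero]

end Sub

section Main

variable (k : Type u) [Field k] (A : Type u) [CommRing A] [HopfAlgebra k A]
  [Algebra.FiniteType k A] (I : Ideal A) [I.IsHopfIdeal k]

/-- **Chevalley's theorem**: a closed subgroup scheme of an affine algebraic group is the stabilizer
of a line in a finite-dimensional representation. -/
theorem exists_line :
    ∃ (V : Type u) (_ : AddCommGroup V) (_ : Module k V) (_ : HopfRep.Comod k A V)
      (_ : Module.Finite k V) (v : V), v ≠ 0 ∧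
      ∀ (R : Type x) [CommRing R] [Algebra k R] (g : A →ₐ[k] R),
        (∀ a ∈ I, g a = 0) ↔
          ∃ c : R, g.toLinearMap.lTensor V (HopfRep.Comod.coact (k := k) (A := A) v) = v ⊗ₜ[k] c := by
  haveI : IsNoetherianRing A := Algebra.FiniteType.isNoetherianRing k A
  obtain ⟨S, hS⟩ := (IsNoetherian.noetherian I : I.FG)
  let M : Submodule k A := Submodule.span k (S : Set A)
  obtain ⟨V₀, hV₀, hMV, hfg⟩ := SmallestSubcomod.exists_fg_subcomod_of_flat (C := A) (V := A) M
    (Submodule.fg_span S.finite_toSet)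
  haveI : Module.Finite k V₀ := Module.Finite.iff_fg.2 hfg
  letI cV : Comod k A V₀ := ComodSub.Comod.restr (Comod.regular k A) V₀ hV₀
  obtain ⟨W, hW⟩ : ∃ W : Submodule k V₀, W = Wsub I V₀ := ⟨_, rfl⟩
  obtain ⟨d, wv, hwv, hspan⟩ := exists_fin_basis (k := k) W
  refine ⟨ExteriorAlgebra k V₀, inferInstance, inferInstance, extComod cV, finite_exteriorAlgebra,
    omega wv, ιMulti_ne_zero hwv, ?_⟩
  intro R _ _ g
  have key := stabP_iff_line (cV := cV) wv hwv g
  rw [hspan] at key
  refine Iff.trans ?_ key
  constructor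
  · rw [hW]
    exact stabP_of_kills I V₀ hV₀ g
  · rw [hW]
    intro hst
    have hle : I ≤ RingHom.ker (g : A →+* R) := by
      rw [← hS, Ideal.span_le]
      intro s hs
      have hsV : s ∈ V₀ := hMV (Submodule.subset_span hs)
      have hsI : s ∈ I := by
        rw [← hS]
        exact Ideal.subset_span hs
      have := kills_of_stabP I V₀ hV₀ g hst ⟨s, hsV⟩ hsI
      exact this
    intro a ha
    exact hle ha

end Main

end Groth.Agent.Lib.Helper84.Chevalley
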