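import Mathlib
import Groth.Prelude.Def_SGA3
import Groth.Agent.Lib.Helper84.Chevalley
import Groth.Agent.Lib.Helper84.HopfFFInf
import Groth.Agent.H40.StabTensor
import Groth.Agent.Lib.Helper93.ComodPush

set_option autoImplicit false
set_option linter.style.haveILetI false
set_option linter.unusedSectionVars false
open TensorProduct HopfRep
universe u v v' w x

namespace Groth.Agent.Lib.Helper84.ChevalleyChar

section Ker

variable {k : Type u} [Field k] {A : Type v} [CommRing A] [HopfAlgebra k A]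
  {B : Type w} [CommRing B] [HopfAlgebra k B] (π : A →ₐc[k] B)

/-- the kernel of a bialgebra map of commutative Hopf algebras over a field is a Hopf ideal. -/
theorem isHopfIdeal_ker : (RingHom.ker (π : A →+* B)).IsHopfIdeal k := by
  set I' := (RingHom.ker (π : A →+* B)).restrictScalars k with hI'
  have hmem : ∀ x : A, x ∈ I' ↔ π x = 0 := fun x => Iff.rfl
  let j : A ⧸ I' →ₗ[k] B := I'.liftQ (π : A →ₗ[k] B) (fun a ha => by
    rw [LinearMap.mem_ker]; exact (hmem a).1 ha)
  have hj : Function.Injective j := by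
    rw [← LinearMap.ker_eq_bot]
    apply Submodule.ker_liftQ_eq_bot
    intro a ha
    exact (hmem a).2 ha
  have hjq : j ∘ₗ I'.mkQ = (π : A →ₗ[k] B) := Submodule.liftQ_mkQ _ _ _
  have hjj : Function.Injective (TensorProduct.map j j) :=
    TensorProduct.map_injective_of_flat_flat j j hj hj
  refine { counit_eq_zero := ?_, map_mkQ_comul_eq_zero := ?_, antipode_mem := ?_ }
  · intro x hx
    have h1 : Coalgebra.counit (R := k) (π x) = Coalgebra.counit (R := k) x :=
      CoalgHomClass.counit_comp_apply π x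
    rw [← h1, (hmem x).1 hx, map_zero]
  · intro x hx
    apply hjj
    rw [map_zero, ← LinearMap.comp_apply, ← TensorProduct.map_comp, hjq]
    have h1 : TensorProduct.map (π : A →ₗ[k] B) (π : A →ₗ[k] B) (Coalgebra.comul (R := k) x) =
        Coalgebra.comul (R := k) (π x) := (CoalgHomClass.map_comp_comul_apply π x)
    rw [h1, (hmem x).1 hx, map_zero]
  · intro x hx
    rw [RingHom.mem_ker]
    change π (HopfAlgebra.antipode k x) = 0
    rw [HopfFFInf.bialgHom_antipode, (hmem x).1 hx, map_zero]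

end Ker

section GroupLike

variable {k : Type u} [Field k] {D : Type v} [AddCommGroup D] [Module k D] [Coalgebra k D]
  {V : Type w} [AddCommGroup V] [Module k V]

/-- the character of a nonzero eigenvector is group-like. -/
theorem isGroupLikeElem_of_coact (c : Comod k D V) (v : V) (hv : v ≠ 0) (χ : D)
    (h : c.coact v = v ⊗ₜ[k] χ) : IsGroupLikeElem k χ := by
  obtain ⟨ℓ, hℓ⟩ := Groth.Agent.H40.exists_dual_eq_one (k := k) hv
  constructor
  · have h1 := LinearMap.congr_fun c.counit_comp v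
    simp only [LinearMap.comp_apply, h, LinearMap.lTensor_tmul, LinearMap.flip_apply,
      TensorProduct.mk_apply] at h1
    have h2 := congrArg (fun z => TensorProduct.lid k k (ℓ.rTensor k z)) h1
    simpa [hℓ] using h2
  · have h1 := LinearMap.congr_fun c.coassoc v
    simp only [LinearMap.comp_apply, h, LinearMap.lTensor_tmul, LinearMap.rTensor_tmul,
      LinearEquiv.coe_coe, TensorProduct.assoc_tmul] at h1
    have h2 := congrArg (fun z => TensorProduct.lid k (D ⊗[k] D) (ℓ.rTensor (D ⊗[k] D) z)) h1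
    simp only [LinearMap.rTensor_tmul, hℓ, TensorProduct.lid_tmul, one_smul] at h2
    exact h2.symm

end GroupLike

section Lines

open Groth.Agent.H40

variable {k A : Type u} [Field k] [CommRing A] [HopfAlgebra k A]
  {R : Type u} [CommRing R] [Algebra k R] (g : A →ₐ[k] R)
variable {V : Type v} [AddCommGroup V] [Module k V] (c : Comod k A V)
  {V' : Type v'} [AddCommGroup V'] [Module k V'] (c' : Comod k A V')

omit [CommRing A] [HopfAlgebra k A] in
theorem mem_range_span_singleton_iff (v : V) (z : V ⊗[k] R) :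
    z ∈ LinearMap.range ((Submodule.span k {v}).subtype.rTensor R) ↔ ∃ r : R, z = v ⊗ₜ[k] r := by
  constructor
  · rintro ⟨y, rfl⟩
    induction y using TensorProduct.induction_on with
    | zero => exact ⟨0, by simp⟩
    | tmul w r =>
      obtain ⟨a, ha⟩ := Submodule.mem_span_singleton.1 w.2
      refine ⟨a • r, ?_⟩
      rw [LinearMap.rTensor_tmul, Submodule.subtype_apply, ← ha, TensorProduct.smul_tmul]
    | add p q hp hq =>
      obtain ⟨r, hr⟩ := hp
      obtain ⟨r', hr'⟩ := hq
      exact ⟨r + r', by rw [map_add, hr, hr', TensorProduct.tmul_add]⟩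
  · rintro ⟨r, rfl⟩
    exact tmul_mem_range_rTensor_subtype _ (Submodule.mem_span_singleton_self v) r

theorem sl_iff_span (v : V) :
    (∃ r : R, g.toLinearMap.lTensor V (c.coact v) = v ⊗ₜ[k] r) ↔
      ∀ x ∈ Submodule.span k {v}, g.toLinearMap.lTensor V (c.coact x) ∈
        LinearMap.range ((Submodule.span k {v}).subtype.rTensor R) := by
  constructor
  · rintro ⟨r, hr⟩ x hx
    obtain ⟨a, rfl⟩ := Submodule.mem_span_singleton.1 hx
    rw [map_smul, map_smul, hr]
    exact Submodule.smul_mem _ _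
      (tmul_mem_range_rTensor_subtype _ (Submodule.mem_span_singleton_self v) r)
  · intro h
    exact (mem_range_span_singleton_iff v _).1 (h v (Submodule.mem_span_singleton_self v))

omit [CommRing A] [HopfAlgebra k A] in
theorem range_mapIncl_span_singleton (v : V) (v' : V') :
    LinearMap.range (TensorProduct.mapIncl (Submodule.span k {v}) (Submodule.span k {v'})) =
      Submodule.span k {v ⊗ₜ[k] v'} := by
  apply le_antisymm
  · rintro _ ⟨y, rfl⟩
    induction y using TensorProduct.induction_on with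
    | zero => simp
    | tmul w w' =>
      obtain ⟨a, ha⟩ := Submodule.mem_span_singleton.1 w.2
      obtain ⟨b, hb⟩ := Submodule.mem_span_singleton.1 w'.2
      simp only [TensorProduct.mapIncl, TensorProduct.map_tmul, Submodule.subtype_apply]
      rw [← ha, ← hb, TensorProduct.smul_tmul_smul]
      exact Submodule.smul_mem _ _ (Submodule.mem_span_singleton_self _)
    | add p q hp hq =>
      rw [map_add]
      exact Submodule.add_mem _ hp hq
  · rw [Submodule.span_singleton_le_iff_mem]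
    exact tmul_mem_range_mapIncl _ _ (Submodule.mem_span_singleton_self v)
      (Submodule.mem_span_singleton_self v')

/-- the stabilizer of the line `k (v ⊗ v')` is contained in that of `k v` and that of `k v'`. -/
theorem sl_of_sl_tensor (v : V) (v' : V') (hv : v ≠ 0) (hv' : v' ≠ 0)
    (h : ∃ r : R, g.toLinearMap.lTensor (V ⊗[k] V')
      ((ComodTens.Comod.tensor c c').coact (v ⊗ₜ[k] v')) = (v ⊗ₜ[k] v') ⊗ₜ[k] r) :
    (∃ r : R, g.toLinearMap.lTensor V (c.coact v) = v ⊗ₜ[k] r) ∧
      (∃ r : R, g.toLinearMap.lTensor V' (c'.coact v') = v' ⊗ₜ[k] r) := by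
  rw [sl_iff_span g c v, sl_iff_span g c' v']
  rw [sl_iff_span g (ComodTens.Comod.tensor c c') (v ⊗ₜ[k] v'),
    ← range_mapIncl_span_singleton v v'] at h
  refine (stab_tensor_iff g c c' (Submodule.span k {v}) (Submodule.span k {v'}) ?_ ?_).1 h
  · intro h0
    apply hv
    have := Submodule.mem_span_singleton_self (R := k) v
    rw [h0, Submodule.mem_bot] at this
    exact this
  · intro h0
    apply hv'
    have := Submodule.mem_span_singleton_self (R := k) v'
    rw [h0, Submodule.mem_bot] at this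
    exact this

theorem sl_tensor (v : V) (v' : V') (r r' : R)
    (h : g.toLinearMap.lTensor V (c.coact v) = v ⊗ₜ[k] r)
    (h' : g.toLinearMap.lTensor V' (c'.coact v') = v' ⊗ₜ[k] r') :
    g.toLinearMap.lTensor (V ⊗[k] V')
      ((ComodTens.Comod.tensor c c').coact (v ⊗ₜ[k] v')) = (v ⊗ₜ[k] v') ⊗ₜ[k] (r * r') := by
  rw [gact_tensor, h, h', prodR_tmul]

omit [CommRing A] [HopfAlgebra k A] in
theorem tmul_ne_zero (v : V) (v' : V') (hv : v ≠ 0) (hv' : v' ≠ 0) : v ⊗ₜ[k] v' ≠ 0 := by
  obtain ⟨ℓ, hℓ⟩ := exists_dual_eq_one (k := k) hv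
  obtain ⟨ℓ', hℓ'⟩ := exists_dual_eq_one (k := k) hv'
  intro h0
  have := congrArg (fun z => TensorProduct.lid k k (TensorProduct.map ℓ ℓ' z)) h0
  simp [hℓ, hℓ'] at this

end Lines

section Main

variable (k A B : Type u) [Field k] [CommRing A] [HopfAlgebra k A]
  [CommRing B] [HopfAlgebra k B] (π : A →ₐc[k] B)

/-- tensor powers of a line keep the stabilizer small and multiply the character. -/
theorem exists_pow_line {V : Type u} [AddCommGroup V] [Module k V] (cV : Comod k A V)
    [Module.Finite k V] (v : V) (hv : v ≠ 0) (χ : B)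
    (hχ : LinearMap.lTensor V (π : A →ₐ[k] B).toLinearMap (cV.coact v) = v ⊗ₜ[k] χ) (n : ℕ) :
    ∃ (X : Type u) (_ : AddCommGroup X) (_ : Module k X) (cX : Comod k A X)
      (_ : Module.Finite k X) (x : X), x ≠ 0 ∧
      (∀ (R : Type u) [CommRing R] [Algebra k R] (g : A →ₐ[k] R),
        (∃ r : R, g.toLinearMap.lTensor X (cX.coact x) = x ⊗ₜ[k] r) →
          ∃ r : R, g.toLinearMap.lTensor V (cV.coact v) = v ⊗ₜ[k] r) ∧
      LinearMap.lTensor X (π : A →ₐ[k] B).toLinearMap (cX.coact x) = x ⊗ₜ[k] (χ ^ (n + 1)) := by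
  induction n with
  | zero =>
    exact ⟨V, inferInstance, inferInstance, cV, inferInstance, v, hv, fun _ _ _ _ h => h,
      by simpa using hχ⟩
  | succ n ih =>
    obtain ⟨X, i1, i2, cX, i4, x, hx, hX, hXχ⟩ := ih
    refine ⟨X ⊗[k] V, inferInstance, inferInstance, ComodTens.Comod.tensor cX cV, inferInstance,
      x ⊗ₜ[k] v, tmul_ne_zero x v hx hv, ?_, ?_⟩
    · intro R _ _ g h
      exact hX R g (sl_of_sl_tensor g cX cV x v hx hv h).1
    · rw [pow_succ]
      exact sl_tensor (π : A →ₐ[k] B) cX cV x v _ _ hXχ hχ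

/-- if `g` kills `ker π` it factors linearly through `π`. -/
theorem exists_factor (hπ : Function.Surjective π) {R : Type u} [CommRing R] [Algebra k R]
    (g : A →ₐ[k] R) (hg : ∀ a ∈ RingHom.ker (π : A →+* B), g a = 0) :
    ∃ gbar : B →ₗ[k] R, gbar ∘ₗ (π : A →ₐ[k] B).toLinearMap = g.toLinearMap ∧ gbar 1 = 1 := by
  obtain ⟨σ, hσ⟩ := LinearMap.exists_rightInverse_of_surjective (π : A →ₐ[k] B).toLinearMap
    (LinearMap.range_eq_top.2 hπ)
  have hσ' : ∀ b, π (σ b) = b := fun b => LinearMap.congr_fun hσ b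
  have hcomp : ∀ a, g (σ (π a)) = g a := by
    intro a
    have h1 : σ (π a) - a ∈ RingHom.ker (π : A →+* B) := by
      rw [RingHom.mem_ker]
      change π (σ (π a) - a) = 0
      rw [map_sub, hσ', sub_self]
    have h2 := hg _ h1
    rw [map_sub, sub_eq_zero] at h2
    exact h2
  refine ⟨g.toLinearMap ∘ₗ σ, ?_, ?_⟩
  · apply LinearMap.ext
    intro a
    exact hcomp a
  · have := hcomp 1
    rw [map_one π, map_one g] at this
    exact this

theorem main [Algebra.FiniteType k A] (hπ : Function.Surjective π)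
    (hocc : ∀ χ : B, IsGroupLikeElem k χ →
      (∃ (V : Type u) (_ : AddCommGroup V) (_ : Module k V) (_ : HopfRep.Comod k A V) (_ : Module.Finite k V) (v : V),
          v ≠ 0 ∧ LinearMap.lTensor V π.toLinearMap (HopfRep.Comod.coact (k := k) (A := A) v) = v ⊗ₜ[k] χ) →
      ∃ m : ℕ, 0 < m ∧ ∃ ψ : B, IsGroupLikeElem k ψ ∧ ψ * χ ^ m = 1 ∧
        ∃ (V : Type u) (_ : AddCommGroup V) (_ : Module k V) (_ : HopfRep.Comod k A V) (_ : Module.Finite k V) (v : V),
          v ≠ 0 ∧ LinearMap.lTensor V π.toLinearMap (HopfRep.Comod.coact (k := k) (A := A) v) = v ⊗ₜ[k] ψ) :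
    ∃ (V : Type u) (_ : AddCommGroup V) (_ : Module k V) (_ : HopfRep.Comod k A V) (_ : Module.Finite k V) (v : V),
      v ≠ 0 ∧ Dyn.Represents k A (RingHom.ker (π : A →+* B)) (fun R _ _ g => SGA3.StabilizesLine k A v R g) ∧
      LinearMap.lTensor V π.toLinearMap (HopfRep.Comod.coact (k := k) (A := A) v) = v ⊗ₜ[k] (1 : B) := by
  haveI := isHopfIdeal_ker π
  obtain ⟨V, i1, i2, cV, i4, v, hv, hrep⟩ :=
    Chevalley.exists_line.{u, u} k A (RingHom.ker (π : A →+* B))
  obtain ⟨χ, hχ⟩ := (hrep B (π : A →ₐ[k] B)).1 (fun a ha => ha)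
  have hgl : IsGroupLikeElem k χ :=
    isGroupLikeElem_of_coact (Groth.Agent.Lib.Helper93.Comod.push π.toCoalgHom cV) v hv χ hχ
  obtain ⟨m, hm, ψ, hψ, hψχ, V', j1, j2, cV', j4, v', hv', hψ'⟩ :=
    hocc χ hgl ⟨V, i1, i2, cV, i4, v, hv, hχ⟩
  obtain ⟨n, rfl⟩ : ∃ n, m = n + 1 := ⟨m - 1, by omega⟩
  obtain ⟨X, x1, x2, cX, x4, x, hx, hX, hXχ⟩ := exists_pow_line k A B π cV v hv χ hχ n
  have hfix : LinearMap.lTensor (X ⊗[k] V') (π : A →ₐ[k] B).toLinearMap
      ((ComodTens.Comod.tensor cX cV').coact (x ⊗ₜ[k] v')) = (x ⊗ₜ[k] v') ⊗ₜ[k] (1 : B) := by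
    have := sl_tensor (π : A →ₐ[k] B) cX cV' x v' _ _ hXχ hψ'
    rw [mul_comm, hψχ] at this
    exact this
  refine ⟨X ⊗[k] V', inferInstance, inferInstance, ComodTens.Comod.tensor cX cV', inferInstance,
    x ⊗ₜ[k] v', tmul_ne_zero x v' hx hv', ?_, hfix⟩
  intro R _ _ g
  constructor
  · intro hg
    obtain ⟨gbar, hgbar, hg1⟩ := exists_factor k A B π hπ g hg
    refine ⟨1, ?_⟩
    rw [← hgbar, LinearMap.lTensor_comp, LinearMap.comp_apply]
    have hfix' : LinearMap.lTensor (X ⊗[k] V') (π : A →ₐ[k] B).toLinearMap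
      ((ComodTens.Comod.tensor cX cV').coact (x ⊗ₜ[k] v')) = (x ⊗ₜ[k] v') ⊗ₜ[k] (1 : B) := hfix
    rw [hfix', LinearMap.lTensor_tmul, hg1]
  · intro h
    have h1 := (sl_of_sl_tensor g cX cV' x v' hx hv' h).1
    exact (hrep R g).2 (hX R g h1)

end Main

end Groth.Agent.Lib.Helper84.ChevalleyChar
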