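import Mathlib

/-!
# Flat base change of coinvariants (helper84)

`A` a commutative `k`-algebra, `ρ : A → A ⊗ Q` an algebra map, `B ⊆ A` a subalgebra on which
`ρ b = b ⊗ 1`, with `B = {x | ρ x = x ⊗ 1}` and `A` flat over `B`.  Then an element `z` of
`A ⊗_B A` which is "coinvariant in the first factor" is of the form `1 ⊗ r`.
-/

set_option autoImplicit false
set_option linter.style.haveILetI false
set_option linter.unusedSectionVars false
open TensorProduct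
universe u

namespace Groth.Agent.Lib.Helper84.FlatBC

variable {k : Type u} [Field k] {A : Type u} [CommRing A] [Algebra k A] (B : Subalgebra k A)
  {Q : Type u} [CommRing Q] [Algebra k Q] (ρ : A →ₐ[k] A ⊗[k] Q)
  (hρB : ∀ b : B, ρ (b : A) = (b : A) ⊗ₜ[k] (1 : Q))

/-- `b • t = (b ⊗ 1) * t` in `A ⊗ Q`. -/
theorem smul_eq_tmul_one_mul (b : B) (t : A ⊗[k] Q) : b • t = ((b : A) ⊗ₜ[k] (1 : Q)) * t := by
  induction t using TensorProduct.induction_on with
  | zero => simp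
  | tmul x q =>
    change (b • x) ⊗ₜ[k] q = _
    rw [Algebra.TensorProduct.tmul_mul_tmul, one_mul, Subalgebra.smul_def, smul_eq_mul]
  | add x y hx hy => rw [smul_add, mul_add, hx, hy]

/-- the defect `x ↦ ρ x - x ⊗ 1`, a `B`-linear map. -/
noncomputable def phi : A →ₗ[B] A ⊗[k] Q :=
  { toFun := fun x => ρ x - x ⊗ₜ[k] (1 : Q)
    map_add' := fun x y => by
      rw [map_add, TensorProduct.add_tmul]
      abel
    map_smul' := fun b x => by
      rw [RingHom.id_apply, smul_sub, smul_eq_tmul_one_mul, smul_eq_tmul_one_mul,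
        Subalgebra.smul_def, smul_eq_mul, map_mul, hρB, Algebra.TensorProduct.tmul_mul_tmul,
        mul_one] }

theorem phi_apply (x : A) : phi B ρ hρB x = ρ x - x ⊗ₜ[k] (1 : Q) := rfl

/-- `(A ⊗ Q) ⊗_B A → (A ⊗_B A) ⊗ Q`. -/
noncomputable def Xi : (A ⊗[k] Q) ⊗[B] A →ₗ[B] (A ⊗[B] A) ⊗[k] Q :=
  (TensorProduct.AlgebraTensorModule.rightComm k B B A A Q).symm.toLinearMap

theorem Xi_injective : Function.Injective (Xi (k := k) (Q := Q) B) :=
  (TensorProduct.AlgebraTensorModule.rightComm k B B A A Q).symm.injective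

theorem Xi_tmul (x : A) (c : Q) (y : A) :
    Xi B ((x ⊗ₜ[k] c) ⊗ₜ[B] y) = (x ⊗ₜ[B] y) ⊗ₜ[k] c := rfl

/-- `x ↦ x ⊗_B 1`. -/
noncomputable abbrev inL : A →ₐ[k] A ⊗[B] A := Algebra.TensorProduct.includeLeft

theorem Xi_tmul' (w : A ⊗[k] Q) (y : A) :
    Xi B (w ⊗ₜ[B] y) = (LinearMap.rTensor Q (inL B).toLinearMap w) *
      (((1 : A) ⊗ₜ[B] y) ⊗ₜ[k] (1 : Q)) := by
  induction w using TensorProduct.induction_on with
  | zero => rw [TensorProduct.zero_tmul, LinearMap.map_zero, LinearMap.map_zero, zero_mul]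
  | tmul x' c =>
    rw [Xi_tmul]
    change _ = ((x' ⊗ₜ[B] (1 : A)) ⊗ₜ[k] c) * _
    rw [Algebra.TensorProduct.tmul_mul_tmul, Algebra.TensorProduct.tmul_mul_tmul, mul_one,
      mul_one, one_mul]
  | add w₁ w₂ h₁ h₂ =>
    rw [TensorProduct.add_tmul, LinearMap.map_add, LinearMap.map_add, add_mul, h₁, h₂]

theorem Xi_phi_tmul (x y : A) :
    Xi B ((phi B ρ hρB).rTensor A (x ⊗ₜ[B] y)) =
      (LinearMap.rTensor Q (inL B).toLinearMap (ρ x - x ⊗ₜ[k] (1 : Q))) *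
        (((1 : A) ⊗ₜ[B] y) ⊗ₜ[k] (1 : Q)) := by
  rw [LinearMap.rTensor_tmul, phi_apply, Xi_tmul']

include hρB in
theorem exists_of_rTensor_phi_eq_zero [Module.Flat B A] (hB : ∀ x : A, ρ x = x ⊗ₜ[k] (1 : Q) → x ∈ B)
    (z : A ⊗[B] A) (hz : (phi B ρ hρB).rTensor A z = 0) : ∃ r : A, z = (1 : A) ⊗ₜ[B] r := by
  let Bm : Submodule B A := LinearMap.range (Algebra.linearMap B A)
  have hex : Function.Exact Bm.subtype (phi B ρ hρB) := by
    intro x
    constructor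
    · intro hx
      rw [phi_apply, sub_eq_zero] at hx
      exact ⟨⟨x, ⟨⟨x, hB x hx⟩, rfl⟩⟩, rfl⟩
    · rintro ⟨⟨_, ⟨b, rfl⟩⟩, rfl⟩
      change phi B ρ hρB (b : A) = 0
      rw [phi_apply, hρB, sub_self]
  have hex2 := Module.Flat.rTensor_exact A hex
  obtain ⟨y₀, hy₀⟩ := (hex2 z).1 hz
  have hr : ∀ y₀ : Bm ⊗[B] A, ∃ r : A, (Bm.subtype.rTensor A) y₀ = (1 : A) ⊗ₜ[B] r := by
    intro y₀
    induction y₀ using TensorProduct.induction_on with
    | zero => exact ⟨0, by simp⟩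
    | tmul b' r' =>
      obtain ⟨b, hb⟩ := b'.2
      refine ⟨b • r', ?_⟩
      rw [LinearMap.rTensor_tmul, Submodule.subtype_apply, ← hb, Algebra.linearMap_apply,
        Algebra.algebraMap_eq_smul_one, TensorProduct.smul_tmul]
    | add y₁ y₂ h₁ h₂ =>
      obtain ⟨r₁, hr₁⟩ := h₁
      obtain ⟨r₂, hr₂⟩ := h₂
      exact ⟨r₁ + r₂, by rw [map_add, hr₁, hr₂, TensorProduct.tmul_add]⟩
  obtain ⟨r, hr⟩ := hr y₀
  exact ⟨r, by rw [← hy₀, hr]⟩

end Groth.Agent.Lib.Helper84.FlatBC
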