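import Mathlib
import Groth.Prelude.Def_SGA3
import Groth.Agent.Lib.Helper84.Coinv
import Groth.Agent.Lib.Helper84.CoinvSub
import Groth.Agent.Lib.Helper84.HopfFFDescent
import Groth.Agent.Lib.Helper84.FlatBC

/-!
# Preparation for the normal quotient theorem (helper84)

* `B⁺A` is a Hopf ideal for a Hopf subalgebra `B`;
* images of (normal) Hopf ideals in a quotient Hopf algebra are (normal) Hopf ideals;
* with `B = A^N` and `N' = V(B⁺A)`: every right-`N`-invariant function on `N'` is constant.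
-/

set_option autoImplicit false
set_option linter.style.haveILetI false
set_option linter.unusedSectionVars false
open TensorProduct WithConv
universe u v w x y

namespace Groth.Agent.Lib.Helper84.QuotPrep

open Groth.Agent.Lib.Helper84.Points Groth.Agent.Lib.Helper84.Coinv
open Groth.Agent.Lib.Helper84.CoinvSub

section AugIdeal

variable {k : Type u} [Field k] {A : Type u} [CommRing A] [HopfAlgebra k A]
variable (B : Subalgebra k A) (hB : SGA3.IsHopfSubalgebra k A B)

include hB in
/-- `B⁺A` is a Hopf ideal. -/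
theorem isHopfIdeal_augIdealSpan : (SGA3.augIdealSpan k A B).IsHopfIdeal k := by
  refine HopfIdealSub.isHopfIdeal_of_represents (SGA3.augIdealSpan k A B)
    (fun R _ _ g => ∀ b ∈ B, g b = (1 : Pt k A R).ofConv b) ?_ ?_ ?_ ?_
  · intro R _ _ g
    constructor
    · intro h b hb
      exact eq_counit_of_kills B (toConv g) h b hb
    · intro h
      exact kills_of_eq_counit B (toConv g) h
  · intro b _
    rfl
  · intro R _ _ g h hg hh b hb
    change (toConv g * toConv h).ofConv b = _
    rw [mul_apply, lift_congr_of_mem_range B _ _ (1 : Pt k A R).ofConv hh _ (hB.1 b hb),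
      lift_congr_of_mem_range' B _ (1 : Pt k A R).ofConv _ hg _ (hB.1 b hb), ← mul_apply, mul_one]
  · intro R _ _ g hg b hb
    change g (HopfAlgebra.antipode k b) = _
    rw [hg _ (hB.2 b hb), one_apply, one_apply, HopfAlgebra.counit_antipode]

end AugIdeal

section MapIdeal

variable {k : Type u} [Field k] {A : Type u} [CommRing A] [HopfAlgebra k A]
variable (J I : Ideal A) [J.IsHopfIdeal k] [I.IsHopfIdeal k]
variable {R : Type u} [CommRing R] [Algebra k R]

theorem kills_map_iff (g : Pt k (A ⧸ J) R) :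
    Kills (I.map (Ideal.Quotient.mk J)) g ↔ Kills I (pullPt (qmap J) g) := by
  constructor
  · intro h a ha
    exact h _ (Ideal.mem_map_of_mem _ ha)
  · intro h
    have hle : I.map (Ideal.Quotient.mk J) ≤ RingHom.ker (g.ofConv : A ⧸ J →+* R) := by
      rw [Ideal.map_le_iff_le_comap]
      intro a ha
      rw [Ideal.mem_comap, RingHom.mem_ker]
      exact h a ha
    intro a ha
    exact hle ha

/-- the image of a Hopf ideal in a quotient Hopf algebra is a Hopf ideal. -/
theorem isHopfIdeal_map_mk : (I.map (Ideal.Quotient.mk J)).IsHopfIdeal k := by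
  refine HopfIdealSub.isHopfIdeal_of_represents (I.map (Ideal.Quotient.mk J))
    (fun R _ _ g => Kills I (pullPt (qmap J) (toConv g))) ?_ ?_ ?_ ?_
  · intro R _ _ g
    exact kills_map_iff J I (toConv g)
  · have : (toConv (Bialgebra.counitAlgHom k (A ⧸ J)) : Pt k (A ⧸ J) k) = 1 := by
      apply WithConv.ofConv_injective
      ext a
      simp [one_apply]
    rw [this, map_one]
    exact kills_one I
  · intro R _ _ g h hg hh
    rw [toConv_ofConv, map_mul]
    exact hg.mul I hh
  · intro R _ _ g hg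
    have : (toConv (g.comp (HopfAlgebra.antipodeAlgHom k (A ⧸ J))) : Pt k (A ⧸ J) R) =
        (toConv g)⁻¹ := rfl
    rw [this, map_inv]
    exact hg.inv I

/-- the image of a normal Hopf ideal in a quotient Hopf algebra is normal. -/
theorem isNormal_map_mk (hI : SGA3.IsNormalHopfIdeal k A I) :
    SGA3.IsNormalHopfIdeal k (A ⧸ J) (I.map (Ideal.Quotient.mk J)) := by
  intro R _ _ g h hh
  rw [HopfIdealSub.conv3_eq]
  have h1 : Kills (I.map (Ideal.Quotient.mk J)) (toConv h : Pt k (A ⧸ J) R) := hh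
  rw [kills_map_iff] at h1
  have h2 := Kills.conj I hI (pullPt (qmap J) (toConv g)) h1
  have h3 : Kills (I.map (Ideal.Quotient.mk J))
      ((toConv g : Pt k (A ⧸ J) R) * toConv h * (toConv g)⁻¹) := by
    rw [kills_map_iff, map_mul, map_mul, map_inv]
    exact h2
  exact h3

end MapIdeal

section Const

variable {k : Type u} [Field k] {A : Type u} [CommRing A] [HopfAlgebra k A]
variable (B : Subalgebra k A)

/-- the point `x ↦ x ⊗ 1` of `A ⊗_B A`. -/
noncomputable def gL : Pt k A (A ⊗[B] A) :=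
  toConv (Algebra.TensorProduct.includeLeft (R := B) (S := k))

/-- the point `x ↦ 1 ⊗ x` of `A ⊗_B A`. -/
noncomputable def gR : Pt k A (A ⊗[B] A) :=
  toConv ((Algebra.TensorProduct.includeRight : A →ₐ[B] A ⊗[B] A).restrictScalars k)

theorem gL_apply (x : A) : (gL (k := k) B).ofConv x = x ⊗ₜ[B] (1 : A) := rfl

theorem gR_apply (x : A) : (gR (k := k) B).ofConv x = (1 : A) ⊗ₜ[B] x := rfl

theorem gL_eq_gR (b : A) (hb : b ∈ B) : (gL (k := k) B).ofConv b = (gR (k := k) B).ofConv b := by
  rw [gL_apply, gR_apply]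
  have : (b : A) = (⟨b, hb⟩ : B) • (1 : A) := by
    rw [Subalgebra.smul_def, smul_eq_mul, mul_one]
  rw [this, TensorProduct.smul_tmul]



variable (hB : SGA3.IsHopfSubalgebra k A B)

include hB in
theorem kills_gL_mul_inv_gR :
    Kills (SGA3.augIdealSpan k A B) (gL (k := k) B * (gR (k := k) B)⁻¹) := by
  apply kills_of_eq_counit
  intro b hb
  rw [mul_apply, lift_congr_of_mem_range' B (gL B).ofConv (gR B).ofConv ((gR B)⁻¹).ofConv
    (gL_eq_gR B) _ (hB.1 b hb), ← mul_apply, mul_inv_cancel]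

/-- multiplication `A ⊗_B A → A` sends `(gL * gR⁻¹) a` to `ε a`. -/
theorem lmul'_gL_mul_inv_gR (a : A) :
    Algebra.TensorProduct.lmul' B (S := A) ((gL (k := k) B * (gR (k := k) B)⁻¹).ofConv a) =
      algebraMap k A (Coalgebra.counit (R := k) a) := by
  rw [mul_apply]
  have h : ∀ t : A ⊗[k] A, Algebra.TensorProduct.lmul' B (S := A)
      (Algebra.TensorProduct.lift (gL (k := k) B).ofConv ((gR (k := k) B)⁻¹).ofConv
        (fun x y => Commute.all ((gL (k := k) B).ofConv x) (((gR (k := k) B)⁻¹).ofConv y)) t) =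
      LinearMap.mul' k A ((HopfAlgebra.antipode k).lTensor A t) := by
    intro t
    induction t using TensorProduct.induction_on with
    | zero => simp only [map_zero]
    | tmul x y =>
      rw [Algebra.TensorProduct.lift_tmul, map_mul, gL_apply, inv_apply, gR_apply,
        Algebra.TensorProduct.lmul'_apply_tmul, Algebra.TensorProduct.lmul'_apply_tmul, mul_one,
        one_mul, LinearMap.lTensor_tmul, LinearMap.mul'_apply]
    | add t₁ t₂ h₁ h₂ => simp only [map_add, h₁, h₂]
  rw [h, HopfAlgebra.mul_antipode_lTensor_comul_apply]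

section Ev

variable {R : Type u} [CommRing R] [Algebra k R] (n : Pt k A R)
  (hn : Kills (SGA3.augIdealSpan k A B) n)

include hn in
theorem ev_compat : (n.ofConv : A →+* R).comp (algebraMap B A) =
    ((algebraMap k R).comp (Bialgebra.counitAlgHom k A : A →+* k)).comp (algebraMap B A) := by
  ext b
  exact eq_counit_of_kills B n hn b b.2

/-- the point `(n, 1)` of `G ×_{Spec B} G` as a ring map. -/
noncomputable def ev0 : A ⊗[B] A →+* R :=
  HopfFFDescent.liftRingHom (R₀ := B) (n.ofConv : A →+* R)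
    ((algebraMap k R).comp (Bialgebra.counitAlgHom k A : A →+* k)) (ev_compat B n hn)

theorem ev0_tmul (x y : A) :
    ev0 B n hn (x ⊗ₜ[B] y) = n.ofConv x * algebraMap k R (Coalgebra.counit (R := k) y) :=
  HopfFFDescent.liftRingHom_tmul _ _ _ x y

/-- the point `(n, 1)` of `G ×_{Spec B} G`, for `n` in the kernel of `G → Spec B`. -/
noncomputable def evPt : A ⊗[B] A →ₐ[k] R :=
  { ev0 B n hn with
    commutes' := fun c => by
      change ev0 B n hn ((algebraMap k A c) ⊗ₜ[B] (1 : A)) = _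
      rw [ev0_tmul, Bialgebra.counit_one, map_one, mul_one, AlgHom.commutes] }

theorem evPt_tmul (x y : A) :
    evPt B n hn (x ⊗ₜ[B] y) = n.ofConv x * algebraMap k R (Coalgebra.counit (R := k) y) :=
  ev0_tmul B n hn x y

theorem mapPt_evPt_gL : mapPt (evPt B n hn) (gL B) = n := by
  apply WithConv.ofConv_injective
  ext x
  rw [mapPt_apply, gL_apply, evPt_tmul, Bialgebra.counit_one, map_one, mul_one]

theorem mapPt_evPt_gR : mapPt (evPt B n hn) (gR B) = 1 := by
  apply WithConv.ofConv_injective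
  ext x
  rw [mapPt_apply, gR_apply, evPt_tmul, map_one, one_mul, one_apply]

theorem evPt_gL_mul_inv_gR (a : A) :
    evPt B n hn ((gL (k := k) B * (gR (k := k) B)⁻¹).ofConv a) = n.ofConv a := by
  have h1 : mapPt (evPt B n hn) (gL (k := k) B * (gR (k := k) B)⁻¹) = n := by
    rw [map_mul, map_inv, mapPt_evPt_gL, mapPt_evPt_gR, inv_one, mul_one]
  exact congrArg (fun p : Pt k A R => p.ofConv a) h1

end Ev

section Inv

variable (I : Ideal A) [I.IsHopfIdeal k] (hI : SGA3.IsNormalHopfIdeal k A I)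
  (hBI : ∀ x : A, x ∈ B ↔ IsCoinv (k := k) I x)

/-- the coaction `(id ⊗ π) Δ`. -/
noncomputable def rho : A →ₐ[k] A ⊗[k] (A ⧸ I) :=
  (Algebra.TensorProduct.map (AlgHom.id k A) (Ideal.Quotient.mkₐ k I)).comp
    (Bialgebra.comulAlgHom k A)

theorem rho_apply (x : A) : rho (k := k) I x =
    LinearMap.lTensor A (Ideal.Quotient.mkₐ k I).toLinearMap (Coalgebra.comul (R := k) x) := rfl

include hBI in
theorem rho_coe (b : B) : rho (k := k) I (b : A) = (b : A) ⊗ₜ[k] (1 : A ⧸ I) := by
  rw [rho_apply]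
  exact (hBI b).1 b.2

/-- `x ↦ (x ⊗_B 1) ⊗ 1`. -/
noncomputable def ptL : Pt k A ((A ⊗[B] A) ⊗[k] (A ⧸ I)) :=
  mapPt (Algebra.TensorProduct.includeLeft : (A ⊗[B] A) →ₐ[k] (A ⊗[B] A) ⊗[k] (A ⧸ I)) (gL B)

/-- `x ↦ (1 ⊗_B x) ⊗ 1`. -/
noncomputable def ptR : Pt k A ((A ⊗[B] A) ⊗[k] (A ⧸ I)) :=
  mapPt (Algebra.TensorProduct.includeLeft : (A ⊗[B] A) →ₐ[k] (A ⊗[B] A) ⊗[k] (A ⧸ I)) (gR B)

/-- `x ↦ 1 ⊗ π x`. -/
noncomputable def ptN : Pt k A ((A ⊗[B] A) ⊗[k] (A ⧸ I)) :=
  toConv ((Algebra.TensorProduct.includeRight :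
    A ⧸ I →ₐ[k] (A ⊗[B] A) ⊗[k] (A ⧸ I)).comp (Ideal.Quotient.mkₐ k I))

theorem ptL_apply (x : A) : (ptL (k := k) B I).ofConv x = (x ⊗ₜ[B] (1 : A)) ⊗ₜ[k] (1 : A ⧸ I) := rfl

theorem ptR_inv_apply (x : A) : ((ptR (k := k) B I)⁻¹).ofConv x =
    ((1 : A) ⊗ₜ[B] (HopfAlgebra.antipode k x)) ⊗ₜ[k] (1 : A ⧸ I) := rfl

theorem ptN_apply (x : A) : (ptN (k := k) B I).ofConv x =
    (1 : A ⊗[B] A) ⊗ₜ[k] (Ideal.Quotient.mk I x) := rfl

theorem kills_ptN : Kills I (ptN (k := k) B I) := by
  intro x hx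
  rw [ptN_apply, Ideal.Quotient.eq_zero_iff_mem.2 hx, TensorProduct.tmul_zero]

theorem ptL_mul_ptN_apply (x : A) : (ptL (k := k) B I * ptN (k := k) B I).ofConv x =
    LinearMap.rTensor (A ⧸ I) (FlatBC.inL B).toLinearMap (rho (k := k) I x) := by
  rw [mul_apply, rho_apply]
  generalize Coalgebra.comul (R := k) x = t
  induction t using TensorProduct.induction_on with
  | zero => rw [map_zero, map_zero, map_zero]
  | tmul x' x'' =>
    rw [Algebra.TensorProduct.lift_tmul, LinearMap.lTensor_tmul, LinearMap.rTensor_tmul, ptL_apply,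
      ptN_apply, Algebra.TensorProduct.tmul_mul_tmul, mul_one, one_mul]
    rfl
  | add t₁ t₂ h₁ h₂ => rw [map_add, map_add, map_add, h₁, h₂]

include hBI in
theorem Xi_phi_lift (t : A ⊗[k] A) :
    FlatBC.Xi B ((FlatBC.phi B (rho (k := k) I) (rho_coe B I hBI)).rTensor A
      (Algebra.TensorProduct.lift (gL (k := k) B).ofConv ((gR (k := k) B)⁻¹).ofConv
        (fun x y => Commute.all ((gL (k := k) B).ofConv x) (((gR (k := k) B)⁻¹).ofConv y)) t)) =
      Algebra.TensorProduct.lift (ptL (k := k) B I * ptN (k := k) B I).ofConv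
          ((ptR (k := k) B I)⁻¹).ofConv
          (fun x y => Commute.all ((ptL (k := k) B I * ptN (k := k) B I).ofConv x)
            (((ptR (k := k) B I)⁻¹).ofConv y)) t -
        Algebra.TensorProduct.lift (ptL (k := k) B I).ofConv ((ptR (k := k) B I)⁻¹).ofConv
          (fun x y => Commute.all ((ptL (k := k) B I).ofConv x)
            (((ptR (k := k) B I)⁻¹).ofConv y)) t := by
  induction t using TensorProduct.induction_on with
  | zero => simp only [map_zero, sub_self]
  | tmul x y =>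
    rw [Algebra.TensorProduct.lift_tmul, Algebra.TensorProduct.lift_tmul,
      Algebra.TensorProduct.lift_tmul]
    have e1 : (gL (k := k) B).ofConv x * ((gR (k := k) B)⁻¹).ofConv y =
        x ⊗ₜ[B] (HopfAlgebra.antipode k y) := by
      rw [gL_apply, inv_apply, gR_apply, Algebra.TensorProduct.tmul_mul_tmul, mul_one, one_mul]
    rw [e1, FlatBC.Xi_phi_tmul, map_sub, ptL_mul_ptN_apply, ptR_inv_apply]
    have e3 : (ptL (k := k) B I).ofConv x = LinearMap.rTensor (A ⧸ I) (FlatBC.inL B).toLinearMap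
        (x ⊗ₜ[k] (1 : A ⧸ I)) := rfl
    rw [e3]
    exact sub_mul (α := (A ⊗[B] A) ⊗[k] (A ⧸ I)) _ _ _
  | add t₁ t₂ h₁ h₂ =>
    simp only [map_add, h₁, h₂]
    abel

include hB hI hBI in
/-- **functions on `N' = V(B⁺A)` that are right `N`-invariant are constant** (`B = A^N`). -/
theorem sub_counit_mem_of_points' [Module.Flat B A] (a : A)
    (ha : ∀ (R : Type u) [CommRing R] [Algebra k R] (g n : Pt k A R),
      Kills (SGA3.augIdealSpan k A B) g → Kills I n → (g * n).ofConv a = g.ofConv a) :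
    a - algebraMap k A (Coalgebra.counit (R := k) a) ∈ SGA3.augIdealSpan k A B := by
  -- step 1: invariance of `F`
  have hP : Kills (SGA3.augIdealSpan k A B) (ptL (k := k) B I * (ptR (k := k) B I)⁻¹) := by
    have : ptL (k := k) B I * (ptR (k := k) B I)⁻¹ = mapPt (Algebra.TensorProduct.includeLeft :
        (A ⊗[B] A) →ₐ[k] (A ⊗[B] A) ⊗[k] (A ⧸ I)) (gL B * (gR B)⁻¹) := by
      rw [map_mul, map_inv]
      rfl
    rw [this]
    exact Kills.map (kills_gL_mul_inv_gR B hB) _
  have hm : Kills I (ptR (k := k) B I * ptN (k := k) B I * (ptR (k := k) B I)⁻¹) :=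
    Kills.conj I hI _ (kills_ptN B I)
  have e : ptL (k := k) B I * ptN (k := k) B I * (ptR (k := k) B I)⁻¹ =
      (ptL (k := k) B I * (ptR (k := k) B I)⁻¹) *
        (ptR (k := k) B I * ptN (k := k) B I * (ptR (k := k) B I)⁻¹) := by group
  have claim1 : (ptL (k := k) B I * ptN (k := k) B I * (ptR (k := k) B I)⁻¹).ofConv a =
      (ptL (k := k) B I * (ptR (k := k) B I)⁻¹).ofConv a := by
    rw [e]
    exact ha _ _ _ hP hm
  -- step 2: flat base change
  have hzero : (FlatBC.phi B (rho (k := k) I) (rho_coe B I hBI)).rTensor A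
      ((gL (k := k) B * (gR (k := k) B)⁻¹).ofConv a) = 0 := by
    apply FlatBC.Xi_injective B
    have k2 : (ptL (k := k) B I * ptN (k := k) B I * (ptR (k := k) B I)⁻¹).ofConv a =
        Algebra.TensorProduct.lift (ptL (k := k) B I * ptN (k := k) B I).ofConv
          ((ptR (k := k) B I)⁻¹).ofConv
          (fun x y => Commute.all ((ptL (k := k) B I * ptN (k := k) B I).ofConv x)
            (((ptR (k := k) B I)⁻¹).ofConv y)) (Coalgebra.comul (R := k) a) := mul_apply _ _ _
    have k3 : (ptL (k := k) B I * (ptR (k := k) B I)⁻¹).ofConv a =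
        Algebra.TensorProduct.lift (ptL (k := k) B I).ofConv ((ptR (k := k) B I)⁻¹).ofConv
          (fun x y => Commute.all ((ptL (k := k) B I).ofConv x)
            (((ptR (k := k) B I)⁻¹).ofConv y)) (Coalgebra.comul (R := k) a) := mul_apply _ _ _
    rw [LinearMap.map_zero, mul_apply, Xi_phi_lift B I hBI, ← k2, ← k3, claim1, sub_self]
  obtain ⟨r, hr⟩ := FlatBC.exists_of_rTensor_phi_eq_zero B (rho (k := k) I) (rho_coe B I hBI)
    (fun x hx => (hBI x).2 hx) _ hzero
  -- step 3: `r = ε a`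
  have hr2 : r = algebraMap k A (Coalgebra.counit (R := k) a) := by
    rw [← lmul'_gL_mul_inv_gR B a, hr, Algebra.TensorProduct.lmul'_apply_tmul, one_mul]
  -- step 4: evaluate at `(q, 1)`
  haveI : (SGA3.augIdealSpan k A B).IsHopfIdeal k := isHopfIdeal_augIdealSpan B hB
  let qp : Pt k A (A ⧸ SGA3.augIdealSpan k A B) :=
    toConv (Ideal.Quotient.mkₐ k (SGA3.augIdealSpan k A B))
  have hq : Kills (SGA3.augIdealSpan k A B) qp := fun x hx => Ideal.Quotient.eq_zero_iff_mem.2 hx
  have h1 := evPt_gL_mul_inv_gR B qp hq a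
  rw [hr, hr2, evPt_tmul, map_one, one_mul, Bialgebra.counit_algebraMap] at h1
  have hfin : qp.ofConv (a - algebraMap k A (Coalgebra.counit (R := k) a)) = 0 := by
    rw [map_sub, ← h1, AlgHom.commutes, sub_self]
  exact Ideal.Quotient.eq_zero_iff_mem.1 hfin

end Inv

end Const

section Triv

variable {k : Type u} [Field k] {A : Type u} [CommRing A] [HopfAlgebra k A]
variable (I : Ideal A) [I.IsHopfIdeal k] (hI : SGA3.IsNormalHopfIdeal k A I)
variable (J' : Ideal A) [J'.IsHopfIdeal k] (hJ' : J' = SGA3.augIdealSpan k A (coinv (k := k) I))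

include hI hJ' in
/-- with `N' = V(B⁺A)`, `B = A^N`: `O(N')^N = k`. -/
theorem coinv_map_trivial (h : A ⧸ J')
    (hh : h ∈ coinv (k := k) (I.map (Ideal.Quotient.mk J'))) :
    ∃ c : k, h = algebraMap k (A ⧸ J') c := by
  have hB : SGA3.IsHopfSubalgebra k A (coinv (k := k) I) := isHopfSubalgebra_coinv I hI
  haveI : Module.FaithfullyFlat (coinv (k := k) I) A :=
    HopfFFUnion.faithfullyFlat_hopfSub _ ((HopfFFUnion.isHopfSub_iff _).1 hB)
  have hJI : J' ≤ I := by
    rw [hJ']
    exact augIdealSpan_coinv_le I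
  obtain ⟨a, rfl⟩ := Ideal.Quotient.mk_surjective h
  refine ⟨Coalgebra.counit (R := k) a, ?_⟩
  rw [mem_coinv_iff_points] at hh
  have key := sub_counit_mem_of_points' (coinv (k := k) I) hB I hI (fun x => Iff.rfl) a ?_
  · rw [← hJ'] at key
    have h2 : Ideal.Quotient.mk J' (a - algebraMap k A (Coalgebra.counit (R := k) a)) = 0 :=
      Ideal.Quotient.eq_zero_iff_mem.2 key
    rw [map_sub, sub_eq_zero] at h2
    rw [h2]
    rfl
  · intro R _ _ g n hg hn
    rw [← hJ'] at hg
    obtain ⟨gb, rfl⟩ := (kills_iff J' g).1 hg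
    obtain ⟨nb, rfl⟩ := (kills_iff J' n).1 (hn.mono hJI)
    have hnb : Kills (I.map (Ideal.Quotient.mk J')) nb := (kills_map_iff J' I nb).2 hn
    have := hh R gb nb hnb
    rw [← map_mul]
    exact this

end Triv

end Groth.Agent.Lib.Helper84.QuotPrep
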