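import Groth.Prelude.Def_HopfRep
import Mathlib.RingTheory.Flat.Basic
import Mathlib.RingTheory.Noetherian.Basic
import Mathlib.RingTheory.Coalgebra.Basic
import Mathlib.LinearAlgebra.TensorProduct.RightExactness

/-!
# Serre's finitely generated subcomodules over a Noetherian base

For a coalgebra `A` flat over `R` and a submodule `N ⊆ A`, `core N = {x | Δ x ∈ N ⊗ A}` is the
largest subcomodule of the regular comodule contained in `N`.  Over a Noetherian base it is
finitely generated when `N` is, and every finite subset of `A` lies in such a `core N`.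
Also: a comodule structure obtained by restriction along an injective map (`comodOfInj`).
-/

set_option linter.unusedSectionVars false
set_option linter.unusedVariables false
set_option linter.style.longLine false

universe u v w

open TensorProduct

namespace Groth.Agent.Lib.Helper84.SerreSub

section Core

variable {R : Type u} [CommRing R] {A : Type v} [AddCommGroup A] [Module R A] [Coalgebra R A]

/-- The largest subcomodule of the regular comodule contained in `N`. -/
def core (N : Submodule R A) : Submodule R A :=
  Submodule.comap (Coalgebra.comul (R := R) (A := A)) (LinearMap.range (N.subtype.rTensor A))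

theorem mem_core {N : Submodule R A} {x : A} :
    x ∈ core N ↔ Coalgebra.comul (R := R) x ∈ LinearMap.range (N.subtype.rTensor A) := Iff.rfl

theorem rid_rTensor_subtype (N : Submodule R A) (w : N ⊗[R] R) :
    TensorProduct.rid R A ((N.subtype.rTensor R) w) = ((TensorProduct.rid R N w : N) : A) := by
  induction w using TensorProduct.induction_on with
  | zero => simp
  | tmul n r => simp
  | add x y hx hy => simp only [map_add, hx, hy, Submodule.coe_add]

theorem core_le (N : Submodule R A) : core N ≤ N := by
  intro x hx
  obtain ⟨z, hz⟩ := hx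
  have h1 : (Coalgebra.counit (R := R) (A := A)).lTensor A (Coalgebra.comul (R := R) x) = x ⊗ₜ[R] (1 : R) :=
    Coalgebra.lTensor_counit_comul x
  have h2 : ∀ z : N ⊗[R] A, (Coalgebra.counit (R := R) (A := A)).lTensor A ((N.subtype.rTensor A) z) =
      (N.subtype.rTensor R) ((Coalgebra.counit (R := R) (A := A)).lTensor N z) := by
    intro z
    induction z using TensorProduct.induction_on with
    | zero => simp
    | tmul n a => simp
    | add x y hx hy => simp only [map_add, hx, hy]
  rw [← hz, h2] at h1
  have h3 := congrArg (TensorProduct.rid R A) h1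
  rw [rid_rTensor_subtype] at h3
  simp only [TensorProduct.rid_tmul, one_smul] at h3
  rw [← h3]
  exact Submodule.coe_mem _

/-- `core N` is the kernel of `A → A ⊗ A → (A/N) ⊗ A`. -/
theorem core_eq_ker (N : Submodule R A) :
    core N = LinearMap.ker ((N.mkQ.rTensor A) ∘ₗ (Coalgebra.comul (R := R) (A := A))) := by
  ext x
  rw [mem_core, LinearMap.mem_ker, LinearMap.comp_apply, ← LinearMap.mem_ker, rTensor_mkQ]

theorem aux_vanish (N : Submodule R A) (w : N ⊗[R] (A ⊗[R] A)) :
    ((N.mkQ.rTensor A).rTensor A) ((TensorProduct.assoc R A A A).symm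
      ((N.subtype.rTensor (A ⊗[R] A)) w)) = 0 := by
  induction w using TensorProduct.induction_on with
  | zero => simp
  | tmul n t =>
    induction t using TensorProduct.induction_on with
    | zero => simp
    | tmul a b => simp [(Submodule.Quotient.mk_eq_zero N).mpr n.2]
    | add x y hx hy => simp only [TensorProduct.tmul_add, map_add, hx, hy, add_zero]
  | add x y hx hy => simp only [map_add, hx, hy, add_zero]

/-- Serre: for `A` flat, `core N` is a subcomodule of the regular comodule. -/
theorem comul_mem_core [Module.Flat R A] (N : Submodule R A) {x : A} (hx : x ∈ core N) :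
    Coalgebra.comul (R := R) x ∈ LinearMap.range ((core N).subtype.rTensor A) := by
  set ψ : A →ₗ[R] (A ⧸ N) ⊗[R] A := (N.mkQ.rTensor A) ∘ₗ (Coalgebra.comul (R := R) (A := A)) with hψ
  have hex : Function.Exact (core N).subtype ψ := by
    rw [LinearMap.exact_iff, Submodule.range_subtype, core_eq_ker]
  have hex2 := Module.Flat.rTensor_exact A hex
  refine (hex2 _).mp ?_
  obtain ⟨z, hz⟩ := hx
  have h1 : (ψ.rTensor A) (Coalgebra.comul (R := R) x) =
      ((N.mkQ.rTensor A).rTensor A) (((Coalgebra.comul (R := R) (A := A)).rTensor A)
        (Coalgebra.comul (R := R) x)) := by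
    rw [hψ, LinearMap.rTensor_comp, LinearMap.comp_apply]
  have h2 : ∀ z : N ⊗[R] A, (Coalgebra.comul (R := R) (A := A)).lTensor A ((N.subtype.rTensor A) z) =
      (N.subtype.rTensor (A ⊗[R] A)) ((Coalgebra.comul (R := R) (A := A)).lTensor N z) := by
    intro z
    induction z using TensorProduct.induction_on with
    | zero => simp
    | tmul n a => simp
    | add x y hx hy => simp only [map_add, hx, hy]
  rw [h1, ← Coalgebra.coassoc_symm_apply, ← hz, h2]
  exact aux_vanish N _

theorem fg_core [IsNoetherianRing R] {N : Submodule R A} (hN : N.FG) : (core N).FG := by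
  have : IsNoetherian R N := isNoetherian_of_fg_of_noetherian N hN
  have h1 : (Submodule.comap N.subtype (core N)).FG := IsNoetherian.noetherian _
  have h2 := Submodule.FG.map N.subtype h1
  rwa [Submodule.map_comap_subtype, inf_eq_right.mpr (core_le N)] at h2

/-- Every finite subset of `A` lies in `core N` for some finitely generated `N`. -/
theorem exists_fg_core (F : Finset A) :
    ∃ N : Submodule R A, N.FG ∧ (↑F : Set A) ⊆ core N := by
  classical
  induction F using Finset.induction_on with
  | empty => exact ⟨⊥, Submodule.fg_bot, by simp⟩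
  | insert a s _ ih =>
    obtain ⟨N, hN, hs⟩ := ih
    obtain ⟨N', hN', z, hz⟩ : ∃ N' : Submodule R A, N'.FG ∧
        ∃ z : N' ⊗[R] A, (N'.subtype.rTensor A) z = Coalgebra.comul (R := R) a := by
      have : ∀ t : A ⊗[R] A, ∃ N' : Submodule R A, N'.FG ∧
          ∃ z : N' ⊗[R] A, (N'.subtype.rTensor A) z = t := by
        intro t
        induction t using TensorProduct.induction_on with
        | zero => exact ⟨⊥, Submodule.fg_bot, 0, by simp⟩
        | tmul x y =>
          exact ⟨Submodule.span R {x}, Submodule.fg_span_singleton x,
            (⟨x, Submodule.mem_span_singleton_self x⟩ : Submodule.span R {x}) ⊗ₜ[R] y, by simp⟩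
        | add t₁ t₂ h₁ h₂ =>
          obtain ⟨N₁, hN₁, z₁, hz₁⟩ := h₁
          obtain ⟨N₂, hN₂, z₂, hz₂⟩ := h₂
          refine ⟨N₁ ⊔ N₂, hN₁.sup hN₂,
            ((Submodule.inclusion (le_sup_left : N₁ ≤ N₁ ⊔ N₂)).rTensor A) z₁ +
            ((Submodule.inclusion (le_sup_right : N₂ ≤ N₁ ⊔ N₂)).rTensor A) z₂, ?_⟩
          rw [map_add, ← hz₁, ← hz₂, ← LinearMap.comp_apply, ← LinearMap.comp_apply,
            ← LinearMap.rTensor_comp, ← LinearMap.rTensor_comp]
          rfl
      exact this _
    refine ⟨N ⊔ N', hN.sup hN', ?_⟩
    have hmono : ∀ {N₁ N₂ : Submodule R A}, N₁ ≤ N₂ → core N₁ ≤ core N₂ := by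
      intro N₁ N₂ h x hx
      obtain ⟨z, hz⟩ := hx
      refine ⟨((Submodule.inclusion h).rTensor A) z, ?_⟩
      rw [← hz, ← LinearMap.comp_apply, ← LinearMap.rTensor_comp]
      rfl
    intro x hx
    rw [Finset.coe_insert] at hx
    rcases hx with rfl | hx
    · exact hmono le_sup_right ⟨z, hz⟩
    · exact hmono le_sup_left (hs hx)

end Core

section OfInj

variable {R : Type u} [CommRing R] {A : Type v} [AddCommGroup A] [Module R A] [Coalgebra R A]
  {V : Type w} [AddCommGroup V] [Module R V] {W : Type w} [AddCommGroup W] [Module R W]
  [HopfRep.Comod R A W]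

/-- A comodule structure on `V` obtained by restricting one on `W` along an injective map `ι`
(with `ι ⊗ A` and `ι ⊗ (A ⊗ A)` injective, e.g. `A` flat). -/
@[reducible] noncomputable def comodOfInj (ι : V →ₗ[R] W) (ρ : V →ₗ[R] V ⊗[R] A)
    (h0 : Function.Injective ι)
    (h2 : Function.Injective (ι.rTensor (A ⊗[R] A)))
    (hρ : ι.rTensor A ∘ₗ ρ = HopfRep.Comod.coact (k := R) (A := A) ∘ₗ ι) :
    HopfRep.Comod R A V where
  coact := ρ
  coassoc := by
    have hρ' : ∀ v, (ι.rTensor A) (ρ v) = HopfRep.Comod.coact (k := R) (A := A) (ι v) :=
      fun v => LinearMap.congr_fun hρ v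
    apply LinearMap.ext
    intro v
    apply h2
    simp only [LinearMap.comp_apply, LinearEquiv.coe_coe]
    have e1 : ∀ t : (V ⊗[R] A) ⊗[R] A, (ι.rTensor (A ⊗[R] A)) ((TensorProduct.assoc R V A A) t) =
        (TensorProduct.assoc R W A A) (((ι.rTensor A).rTensor A) t) := by
      intro t
      induction t using TensorProduct.induction_on with
      | zero => simp
      | tmul y a =>
        induction y using TensorProduct.induction_on with
        | zero => simp
        | tmul v b => simp
        | add x y hx hy => simp only [TensorProduct.add_tmul, map_add, hx, hy]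
      | add x y hx hy => simp only [map_add, hx, hy]
    have e2 : ∀ t : V ⊗[R] A, ((ι.rTensor A).rTensor A) ((ρ.rTensor A) t) =
        ((HopfRep.Comod.coact (k := R) (A := A) (V := W)).rTensor A) ((ι.rTensor A) t) := by
      intro t
      induction t using TensorProduct.induction_on with
      | zero => simp
      | tmul v b => simp [hρ']
      | add x y hx hy => simp only [map_add, hx, hy]
    have e3 : ∀ t : V ⊗[R] A, (ι.rTensor (A ⊗[R] A))
        (((CoalgebraStruct.comul (R := R) (A := A)).lTensor V) t) =
        ((CoalgebraStruct.comul (R := R) (A := A)).lTensor W) ((ι.rTensor A) t) := by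
      intro t
      induction t using TensorProduct.induction_on with
      | zero => simp
      | tmul v b => simp
      | add x y hx hy => simp only [map_add, hx, hy]
    rw [e1, e2, e3, hρ']
    have := LinearMap.congr_fun (HopfRep.Comod.coassoc (k := R) (A := A) (V := W)) (ι v)
    simpa only [LinearMap.comp_apply, LinearEquiv.coe_coe] using this
  counit_comp := by
    have hρ' : ∀ v, (ι.rTensor A) (ρ v) = HopfRep.Comod.coact (k := R) (A := A) (ι v) :=
      fun v => LinearMap.congr_fun hρ v
    apply LinearMap.ext
    intro v
    have hinj : Function.Injective (ι.rTensor R) :=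
      Module.Flat.rTensor_preserves_injective_linearMap _ h0
    apply hinj
    simp only [LinearMap.comp_apply, LinearMap.flip_apply, TensorProduct.mk_apply,
      LinearMap.rTensor_tmul]
    have e3 : ∀ t : V ⊗[R] A, (ι.rTensor R)
        (((CoalgebraStruct.counit (R := R) (A := A)).lTensor V) t) =
        ((CoalgebraStruct.counit (R := R) (A := A)).lTensor W) ((ι.rTensor A) t) := by
      intro t
      induction t using TensorProduct.induction_on with
      | zero => simp
      | tmul v b => simp
      | add x y hx hy => simp only [map_add, hx, hy]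
    rw [e3, hρ']
    have := LinearMap.congr_fun (HopfRep.Comod.counit_comp (k := R) (A := A) (V := W)) (ι v)
    simpa only [LinearMap.comp_apply, LinearMap.flip_apply, TensorProduct.mk_apply] using this

end OfInj

section CoreComod

variable {R : Type u} [CommRing R] {A : Type v} [AddCommGroup A] [Module R A] [Coalgebra R A]
  [Module.Flat R A]

theorem rTensor_subtype_injective (N : Submodule R A) (Q : Type*) [AddCommGroup Q] [Module R Q]
    [Module.Flat R Q] : Function.Injective (N.subtype.rTensor Q) :=
  Module.Flat.rTensor_preserves_injective_linearMap _ N.injective_subtype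

/-- The coaction on `core N`. -/
noncomputable def coreCoact (N : Submodule R A) : core N →ₗ[R] (core N) ⊗[R] A :=
  (LinearEquiv.ofInjective ((core N).subtype.rTensor A)
      (rTensor_subtype_injective (core N) A)).symm.toLinearMap ∘ₗ
    LinearMap.codRestrict (LinearMap.range ((core N).subtype.rTensor A))
      ((Coalgebra.comul (R := R) (A := A)) ∘ₗ (core N).subtype)
      (fun x => comul_mem_core N x.2)

theorem rTensor_coreCoact (N : Submodule R A) (x : core N) :
    ((core N).subtype.rTensor A) (coreCoact N x) = Coalgebra.comul (R := R) (x : A) := by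
  unfold coreCoact
  simp only [LinearMap.comp_apply, LinearEquiv.coe_coe]
  set y := (LinearMap.codRestrict (LinearMap.range ((core N).subtype.rTensor A))
      ((Coalgebra.comul (R := R) (A := A)) ∘ₗ (core N).subtype)
      (fun x => comul_mem_core N x.2)) x with hy
  have := LinearEquiv.apply_symm_apply (LinearEquiv.ofInjective ((core N).subtype.rTensor A)
      (rTensor_subtype_injective (core N) A)) y
  have h2 := congrArg Subtype.val this
  rw [LinearEquiv.ofInjective_apply] at h2
  rw [h2, hy]
  rfl

/-- `core N` as a comodule (restriction of the regular comodule). -/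
@[reducible] noncomputable def coreComod (N : Submodule R A) : HopfRep.Comod R A (core N) :=
  comodOfInj (W := A) (core N).subtype (coreCoact N) (core N).injective_subtype
    (rTensor_subtype_injective (core N) (A ⊗[R] A))
    (by
      apply LinearMap.ext
      intro x
      exact rTensor_coreCoact N x)

end CoreComod

end Groth.Agent.Lib.Helper84.SerreSub
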