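import Groth.Agent.Lib.Helper84.LinRedH1
import Groth.Agent.H40.Integral
import Mathlib.RingTheory.HopfAlgebra.TensorProduct

/-!
Linear reductivity in terms of a normalised integral, and base change along a field extension
(helper84).
-/

set_option autoImplicit false
set_option linter.style.haveILetI false
universe u v w w'
open TensorProduct

namespace Groth.Agent.Lib.Helper84.LinRedInt

open Groth.Agent.H40

/-- A normalised integral on a bialgebra: a linear form `I` with `I 1 = 1` and
`(id ⊗ I) ∘ Δ = I(·) 1`. -/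
def HasIntegral (k : Type u) [Field k] (A : Type v) [CommRing A] [Bialgebra k A] : Prop :=
  ∃ I : A →ₗ[k] k, I 1 = 1 ∧
    ∀ a : A, slice I (Coalgebra.comul (R := k) a) = I a • (1 : A)

theorem isLinearlyReductive_iff_hasIntegral {k : Type u} [Field k] {A : Type v} [CommRing A]
    [HopfAlgebra k A] : HopfRep.IsLinearlyReductive k A ↔ HasIntegral k A := by
  constructor
  · intro hG
    exact exists_integral hG
  · rintro ⟨I, hI1, hI⟩
    apply Groth.Agent.Lib.Helper84.LinRedKL.isLinearlyReductive_of_cond
    apply Groth.Agent.Lib.Helper84.LinRedKL.cond_of_H1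
    intro V _ _ _ _
    exact cocycles_le_coboundaries_of_integral V I hI1 hI 0

section BaseChange
variable {k : Type u} [Field k] {K : Type v} [Field K] [Algebra k K]
  {A : Type w} [CommRing A] [HopfAlgebra k A]

/-- The base change of a linear form `I : A → k` to `K ⊗ A → K`. -/
noncomputable def bcForm (I : A →ₗ[k] k) : K ⊗[k] A →ₗ[K] K :=
  (TensorProduct.AlgebraTensorModule.rid k K K).toLinearMap ∘ₗ LinearMap.baseChange K I

@[simp] theorem bcForm_tmul (I : A →ₗ[k] k) (c : K) (a : A) :
    bcForm (K := K) I (c ⊗ₜ[k] a) = I a • c := by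
  simp [bcForm]

theorem slice_bcForm (I : A →ₗ[k] k) (c : K) (t : A ⊗[k] A) :
    slice (bcForm (K := K) I)
      (TensorProduct.AlgebraTensorModule.tensorTensorTensorComm k K k K K K A A
        (((1 : K) ⊗ₜ[K] c) ⊗ₜ[k] t)) = c ⊗ₜ[k] (slice I t) := by
  induction t using TensorProduct.induction_on with
  | zero => simp
  | tmul a₁ a₂ =>
    rw [TensorProduct.AlgebraTensorModule.tensorTensorTensorComm_tmul, slice_tmul, slice_tmul,
      bcForm_tmul, TensorProduct.smul_tmul', TensorProduct.tmul_smul, smul_assoc]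
    rw [TensorProduct.smul_tmul', smul_eq_mul, mul_one]
  | add x y hx hy => simp only [TensorProduct.tmul_add, map_add, hx, hy]

theorem hasIntegral_baseChange (h : HasIntegral k A) : HasIntegral K (K ⊗[k] A) := by
  obtain ⟨I, hI1, hI⟩ := h
  refine ⟨bcForm I, ?_, ?_⟩
  · rw [Algebra.TensorProduct.one_def, bcForm_tmul, hI1, one_smul]
  · intro x
    induction x using TensorProduct.induction_on with
    | zero => simp
    | tmul c a =>
      rw [TensorProduct.comul_tmul, CommSemiring.comul_apply, slice_bcForm, hI, bcForm_tmul,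
        Algebra.TensorProduct.one_def, TensorProduct.tmul_smul, TensorProduct.smul_tmul',
        TensorProduct.smul_tmul', smul_eq_mul, mul_one]
    | add x y hx hy => rw [map_add, map_add, hx, hy, map_add, add_smul]

/-- Restriction of a `K`-linear form on `K ⊗ A` to a `k`-linear form on `A` along a retraction
`r : K → k`. -/
noncomputable def resForm (r : K →ₗ[k] k) (I' : K ⊗[k] A →ₗ[K] K) : A →ₗ[k] k :=
  r ∘ₗ (I'.restrictScalars k) ∘ₗ (TensorProduct.mk k K A 1)

@[simp] theorem resForm_apply (r : K →ₗ[k] k) (I' : K ⊗[k] A →ₗ[K] K) (a : A) :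
    resForm r I' a = r (I' ((1 : K) ⊗ₜ[k] a)) := rfl

/-- `r ⊗ id : K ⊗ A → A`. -/
noncomputable def retr (r : K →ₗ[k] k) : K ⊗[k] A →ₗ[k] A :=
  (TensorProduct.lid k A).toLinearMap ∘ₗ r.rTensor A

@[simp] theorem retr_tmul (r : K →ₗ[k] k) (c : K) (a : A) :
    retr r (c ⊗ₜ[k] a) = r c • a := by
  simp [retr]

theorem retr_slice (r : K →ₗ[k] k) (I' : K ⊗[k] A →ₗ[K] K) (t : A ⊗[k] A) :
    retr r (slice I'
      (TensorProduct.AlgebraTensorModule.tensorTensorTensorComm k K k K K K A A
        (((1 : K) ⊗ₜ[K] (1 : K)) ⊗ₜ[k] t))) = slice (resForm r I') t := by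
  induction t using TensorProduct.induction_on with
  | zero => simp
  | tmul a₁ a₂ =>
    rw [TensorProduct.AlgebraTensorModule.tensorTensorTensorComm_tmul, slice_tmul, slice_tmul,
      resForm_apply, TensorProduct.smul_tmul', retr_tmul, smul_eq_mul, mul_one]
  | add x y hx hy => simp only [TensorProduct.tmul_add, map_add, hx, hy]

theorem hasIntegral_of_baseChange (h : HasIntegral K (K ⊗[k] A)) : HasIntegral k A := by
  obtain ⟨I', hI1, hI⟩ := h
  obtain ⟨r, hr⟩ := LinearMap.exists_leftInverse_of_injective (Algebra.linearMap k K)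
    (LinearMap.ker_eq_bot.mpr (algebraMap k K).injective)
  have hr1 : r 1 = 1 := by
    have := LinearMap.congr_fun hr 1
    simpa using this
  refine ⟨resForm r I', ?_, ?_⟩
  · rw [resForm_apply, ← Algebra.TensorProduct.one_def, hI1, hr1]
  · intro a
    have h1 := hI ((1 : K) ⊗ₜ[k] a)
    rw [TensorProduct.comul_tmul, CommSemiring.comul_apply] at h1
    have h2 := congrArg (retr r) h1
    rw [retr_slice, Algebra.TensorProduct.one_def, TensorProduct.smul_tmul', retr_tmul,
      smul_eq_mul, mul_one] at h2
    rw [h2, resForm_apply]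

theorem hasIntegral_baseChange_iff : HasIntegral k A ↔ HasIntegral K (K ⊗[k] A) :=
  ⟨hasIntegral_baseChange, hasIntegral_of_baseChange⟩

end BaseChange

end Groth.Agent.Lib.Helper84.LinRedInt
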