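import Mathlib

/-!
# The ascending filtration of a module defined by a set of operators (helper84)

`Z S 0 = 0`, `Z S (n+1) = {v | ∀ f ∈ S, f v ∈ Z S n}`.  For the augmentation ideal of the dual
algebra acting on a comodule this is the socle-type filtration whose first step is the space of
fixed vectors.
-/

set_option autoImplicit false
universe u v w

namespace Groth.Agent.Lib.Helper84.OpFilt

variable {k : Type u} [CommRing k] {V : Type v} [AddCommGroup V] [Module k V]
  {V' : Type w} [AddCommGroup V'] [Module k V']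

/-- the ascending filtration defined by the operators in `S`. -/
def Z (S : Set (Module.End k V)) : ℕ → Submodule k V
  | 0 => ⊥
  | n + 1 => ⨅ f ∈ S, (Z S n).comap f

variable (S : Set (Module.End k V)) (S' : Set (Module.End k V'))

@[simp] theorem Z_zero : Z S 0 = ⊥ := rfl

theorem mem_Z_succ {n : ℕ} {v : V} : v ∈ Z S (n + 1) ↔ ∀ f ∈ S, f v ∈ Z S n := by
  simp only [Z, Submodule.mem_iInf, Submodule.mem_comap]

theorem mem_Z_one {v : V} : v ∈ Z S 1 ↔ ∀ f ∈ S, f v = 0 := by
  rw [mem_Z_succ]
  simp only [Z_zero, Submodule.mem_bot]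

theorem Z_le_succ (n : ℕ) : Z S n ≤ Z S (n + 1) := by
  induction n with
  | zero => simp
  | succ n ih =>
    intro v hv
    rw [mem_Z_succ] at hv ⊢
    intro f hf
    exact ih (hv f hf)

theorem Z_mono : Monotone (Z S) := monotone_nat_of_le_succ (Z_le_succ S)

/-- the union of the filtration. -/
def Zinf : Submodule k V := ⨆ n, Z S n

theorem mem_Zinf {v : V} : v ∈ Zinf S ↔ ∃ n, v ∈ Z S n := by
  unfold Zinf
  rw [Submodule.mem_iSup_of_directed _ (Z_mono S).directed_le]

theorem Z_le_Zinf (n : ℕ) : Z S n ≤ Zinf S := le_iSup (Z S) n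

/-- if some step of the filtration is nonzero then so is the first. -/
theorem Z_one_ne_bot (h : ∃ n, Z S n ≠ ⊥) : Z S 1 ≠ ⊥ := by
  classical
  have h0 : Nat.find h ≠ 0 := by
    intro h0
    have := Nat.find_spec h
    rw [h0] at this
    exact this rfl
  obtain ⟨m, hm⟩ := Nat.exists_eq_succ_of_ne_zero h0
  have hmin : Z S m = ⊥ := by
    by_contra hne
    have := Nat.find_min' h hne
    omega
  have hspec := Nat.find_spec h
  rw [hm] at hspec
  obtain ⟨v, hv, hv0⟩ := Submodule.exists_mem_ne_zero_of_ne_bot hspec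
  intro hbot
  apply hv0
  have : v ∈ Z S 1 := by
    rw [mem_Z_one]
    intro f hf
    have := (mem_Z_succ S).1 hv f hf
    rw [hmin, Submodule.mem_bot] at this
    exact this
  rw [hbot, Submodule.mem_bot] at this
  exact this

theorem Z_one_ne_bot_of_mem {v : V} (hv : v ≠ 0) {n : ℕ} (hn : v ∈ Z S n) : Z S 1 ≠ ⊥ := by
  apply Z_one_ne_bot
  refine ⟨n, fun h => hv ?_⟩
  rw [h, Submodule.mem_bot] at hn
  exact hn

variable {S S'}

/-- push-forward of the filtration along a map intertwining the operators. -/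
theorem map_mem_Z (g : V →ₗ[k] V') (h : ∀ f' ∈ S', ∃ f ∈ S, f' ∘ₗ g = g ∘ₗ f) {n : ℕ} {v : V}
    (hv : v ∈ Z S n) : g v ∈ Z S' n := by
  induction n generalizing v with
  | zero =>
    rw [Z_zero, Submodule.mem_bot] at hv
    rw [hv, map_zero]
    exact Submodule.zero_mem _
  | succ n ih =>
    rw [mem_Z_succ] at hv ⊢
    intro f' hf'
    obtain ⟨f, hf, hfg⟩ := h f' hf'
    have : f' (g v) = g (f v) := LinearMap.congr_fun hfg v
    rw [this]
    exact ih (hv f hf)

/-- pull-back of the filtration along an injective map intertwining the operators. -/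
theorem mem_Z_of_map_mem (g : V →ₗ[k] V') (hg : Function.Injective g)
    (h : ∀ f ∈ S, ∃ f' ∈ S', g ∘ₗ f = f' ∘ₗ g) {n : ℕ} {v : V}
    (hv : g v ∈ Z S' n) : v ∈ Z S n := by
  induction n generalizing v with
  | zero =>
    rw [Z_zero, Submodule.mem_bot] at hv ⊢
    exact hg (by rw [hv, map_zero])
  | succ n ih =>
    rw [mem_Z_succ] at hv ⊢
    intro f hf
    obtain ⟨f', hf', hfg⟩ := h f hf
    apply ih
    have : g (f v) = f' (g v) := LinearMap.congr_fun hfg v
    rw [this]
    exact hv f' hf'

/-- lifting through a map whose kernel lies in the first step. -/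
theorem mem_Z_succ_of_map_mem (π : V →ₗ[k] V') (h : ∀ f ∈ S, ∃ f' ∈ S', π ∘ₗ f = f' ∘ₗ π)
    (hker : LinearMap.ker π ≤ Z S 1) {n : ℕ} {v : V} (hv : π v ∈ Z S' n) : v ∈ Z S (n + 1) := by
  induction n generalizing v with
  | zero =>
    rw [Z_zero, Submodule.mem_bot] at hv
    exact hker hv
  | succ n ih =>
    rw [mem_Z_succ] at hv ⊢
    intro f hf
    obtain ⟨f', hf', hfg⟩ := h f hf
    apply ih
    have : π (f v) = f' (π v) := LinearMap.congr_fun hfg v
    rw [this]
    exact hv f' hf'

end Groth.Agent.Lib.Helper84.OpFilt
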