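import Mathlib
import Groth.Prelude.Def_HopfRep
import Groth.Agent.H40.Comod
import Groth.Agent.Lib.Helper84.OpFilt

/-!
# Filtrations of comodules by sets of functionals (helper84)

For a set `L` of functionals on a coalgebra `C` and a `C`-comodule `V`, the operators
`(id ⊗ φ) ∘ ρ`, `φ ∈ L`, define the ascending filtration `F L c n` of `V`.  For the functionals
vanishing at `1` the first step is the space of fixed vectors; for those vanishing on the group-like
elements it is the sum of the eigenspaces.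
-/

set_option autoImplicit false
set_option linter.unusedSectionVars false
universe u v v' w w'

namespace Groth.Agent.Lib.Helper84.ComodFilt

open TensorProduct Groth.Agent.H40 Groth.Agent.Lib.Helper84.OpFilt

section Basic

variable {k : Type u} [Field k] {C : Type v} [AddCommGroup C] [Module k C] [Coalgebra k C]
  {V : Type w} [AddCommGroup V] [Module k V] {V' : Type w'} [AddCommGroup V'] [Module k V']

/-- the operator `(id ⊗ φ) ∘ ρ` for an explicit comodule structure. -/
noncomputable def cs (c : HopfRep.Comod k C V) (φ : C →ₗ[k] k) : V →ₗ[k] V :=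
  slice φ ∘ₗ c.coact

theorem cs_apply (c : HopfRep.Comod k C V) (φ : C →ₗ[k] k) (v : V) :
    cs c φ v = slice φ (c.coact v) := rfl

theorem cs_add (c : HopfRep.Comod k C V) (φ ψ : C →ₗ[k] k) : cs c (φ + ψ) = cs c φ + cs c ψ := by
  ext v
  simp [cs, slice, LinearMap.lTensor_add]

theorem cs_smul (c : HopfRep.Comod k C V) (a : k) (φ : C →ₗ[k] k) : cs c (a • φ) = a • cs c φ := by
  ext v
  simp [cs, slice, LinearMap.lTensor_smul]

theorem cs_sub (c : HopfRep.Comod k C V) (φ ψ : C →ₗ[k] k) : cs c (φ - ψ) = cs c φ - cs c ψ := by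
  ext v
  simp [cs, slice, LinearMap.lTensor_sub]

theorem cs_counit (c : HopfRep.Comod k C V) (v : V) :
    cs c (Coalgebra.counit (R := k) (A := C)) v = v :=
  @coactSlice_counit k _ C _ _ _ V _ _ c v

theorem coact_injective (c : HopfRep.Comod k C V) : Function.Injective c.coact := by
  intro v v' h
  rw [← cs_counit c v, ← cs_counit c v', cs_apply, cs_apply, h]

/-- the operators defined by a set of functionals. -/
def ops (L : Set (C →ₗ[k] k)) (c : HopfRep.Comod k C V) : Set (Module.End k V) :=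
  {f | ∃ φ ∈ L, f = cs c φ}

/-- the filtration of a comodule defined by a set of functionals. -/
def F (L : Set (C →ₗ[k] k)) (c : HopfRep.Comod k C V) (n : ℕ) : Submodule k V := Z (ops L c) n

variable (L : Set (C →ₗ[k] k)) (c : HopfRep.Comod k C V) (d : HopfRep.Comod k C V')

theorem mem_F_succ {n : ℕ} {v : V} : v ∈ F L c (n + 1) ↔ ∀ φ ∈ L, cs c φ v ∈ F L c n := by
  unfold F
  rw [mem_Z_succ]
  constructor
  · intro h φ hφ
    exact h _ ⟨φ, hφ, rfl⟩
  · rintro h _ ⟨φ, hφ, rfl⟩
    exact h φ hφ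

theorem mem_F_one {v : V} : v ∈ F L c 1 ↔ ∀ φ ∈ L, cs c φ v = 0 := by
  rw [mem_F_succ]
  unfold F
  simp only [Z_zero, Submodule.mem_bot]

theorem F_mono : Monotone (F L c) := Z_mono _

theorem F_one_ne_bot_of_mem {v : V} (hv : v ≠ 0) {n : ℕ} (hn : v ∈ F L c n) : F L c 1 ≠ ⊥ :=
  Z_one_ne_bot_of_mem _ hv hn

variable {L c d}

theorem cs_comp_hom (g : V →ₗ[k] V') (hg : ∀ v, d.coact (g v) = g.rTensor C (c.coact v))
    (φ : C →ₗ[k] k) : cs d φ ∘ₗ g = g ∘ₗ cs c φ := by
  ext v
  simp only [LinearMap.comp_apply, cs_apply]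
  rw [hg, slice_rTensor]

theorem map_mem_F (g : V →ₗ[k] V') (hg : ∀ v, d.coact (g v) = g.rTensor C (c.coact v))
    {n : ℕ} {v : V} (hv : v ∈ F L c n) : g v ∈ F L d n := by
  refine map_mem_Z g ?_ hv
  rintro _ ⟨φ, hφ, rfl⟩
  exact ⟨cs c φ, ⟨φ, hφ, rfl⟩, cs_comp_hom g hg φ⟩

theorem mem_F_of_map_mem (g : V →ₗ[k] V') (hg : ∀ v, d.coact (g v) = g.rTensor C (c.coact v))
    (hinj : Function.Injective g) {n : ℕ} {v : V} (hv : g v ∈ F L d n) : v ∈ F L c n := by
  refine mem_Z_of_map_mem g hinj ?_ hv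
  rintro _ ⟨φ, hφ, rfl⟩
  exact ⟨cs d φ, ⟨φ, hφ, rfl⟩, (cs_comp_hom g hg φ).symm⟩

theorem mem_F_succ_of_map_mem (g : V →ₗ[k] V')
    (hg : ∀ v, d.coact (g v) = g.rTensor C (c.coact v))
    (hker : LinearMap.ker g ≤ F L c 1) {n : ℕ} {v : V} (hv : g v ∈ F L d n) :
    v ∈ F L c (n + 1) := by
  refine mem_Z_succ_of_map_mem g ?_ hker hv
  rintro _ ⟨φ, hφ, rfl⟩
  exact ⟨cs d φ, ⟨φ, hφ, rfl⟩, (cs_comp_hom g hg φ).symm⟩

end Basic

section Regular

variable {k : Type u} [Field k] {C : Type v} [AddCommGroup C] [Module k C] [Coalgebra k C]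
  {D : Type v'} [AddCommGroup D] [Module k D] [Coalgebra k D]

variable (k C) in
/-- the regular comodule, as an explicit structure. -/
abbrev reg : HopfRep.Comod k C C := HopfRep.Comod.regular k C

theorem cs_reg_apply (φ : C →ₗ[k] k) (a : C) :
    cs (reg k C) φ a = slice φ (Coalgebra.comul (R := k) a) := rfl

/-- a coalgebra map intertwines the slice operators of the regular comodules. -/
theorem map_comp_cs_reg (f : C →ₗc[k] D) (φ : D →ₗ[k] k) :
    (f : C →ₗ[k] D) ∘ₗ cs (reg k C) (φ ∘ₗ (f : C →ₗ[k] D)) = cs (reg k D) φ ∘ₗ (f : C →ₗ[k] D) := by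
  ext a
  simp only [LinearMap.comp_apply, cs_reg_apply]
  have h1 : Coalgebra.comul (R := k) ((f : C →ₗ[k] D) a) =
      TensorProduct.map (f : C →ₗ[k] D) (f : C →ₗ[k] D) (Coalgebra.comul (R := k) a) :=
    (CoalgHomClass.map_comp_comul_apply f a).symm
  rw [h1]
  generalize Coalgebra.comul (R := k) a = t
  induction t using TensorProduct.induction_on with
  | zero => simp
  | tmul x y => simp
  | add x y hx hy => simp only [map_add, hx, hy]

theorem map_mem_F_reg (f : C →ₗc[k] D) (LC : Set (C →ₗ[k] k)) (LD : Set (D →ₗ[k] k))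
    (h : ∀ φ ∈ LD, φ ∘ₗ (f : C →ₗ[k] D) ∈ LC) {n : ℕ} {a : C} (ha : a ∈ F LC (reg k C) n) :
    f a ∈ F LD (reg k D) n := by
  refine map_mem_Z (f : C →ₗ[k] D) ?_ ha
  rintro _ ⟨φ, hφ, rfl⟩
  exact ⟨_, ⟨_, h φ hφ, rfl⟩, (map_comp_cs_reg f φ).symm⟩

theorem mem_F_reg_of_map_mem (f : C →ₗc[k] D) (hf : Function.Injective f)
    (LC : Set (C →ₗ[k] k)) (LD : Set (D →ₗ[k] k))
    (h : ∀ μ ∈ LC, ∃ φ ∈ LD, φ ∘ₗ (f : C →ₗ[k] D) = μ) {n : ℕ} {a : C}
    (ha : f a ∈ F LD (reg k D) n) : a ∈ F LC (reg k C) n := by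
  refine mem_Z_of_map_mem (f : C →ₗ[k] D) hf ?_ ha
  rintro _ ⟨μ, hμ, rfl⟩
  obtain ⟨φ, hφ, rfl⟩ := h μ hμ
  exact ⟨_, ⟨φ, hφ, rfl⟩, map_comp_cs_reg f φ⟩

end Regular

section Coact

variable {k : Type u} [Field k] {C : Type v} [AddCommGroup C] [Module k C] [Coalgebra k C]
  {V : Type w} [AddCommGroup V] [Module k V]

/-- the coaction intertwines `(id ⊗ φ) ρ` with `id ⊗ ((id ⊗ φ) Δ)`. -/
theorem coact_comp_cs (c : HopfRep.Comod k C V) (φ : C →ₗ[k] k) :
    c.coact ∘ₗ cs c φ = (cs (reg k C) φ).lTensor V ∘ₗ c.coact := by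
  ext v
  simp only [LinearMap.comp_apply, cs_apply]
  have nat : ∀ t : V ⊗[k] C, c.coact (slice φ t) = slice φ (LinearMap.rTensor C c.coact t) := by
    intro t
    rw [slice_rTensor]
  have hco' := LinearMap.congr_fun c.coassoc v
  simp only [LinearMap.comp_apply, LinearEquiv.coe_coe] at hco'
  have hco'' : LinearMap.rTensor C c.coact (c.coact v) =
      (TensorProduct.assoc k V C C).symm
        (LinearMap.lTensor V (Coalgebra.comul (R := k) (A := C)) (c.coact v)) := by
    rw [← hco', LinearEquiv.symm_apply_apply]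
  rw [nat, hco'']
  generalize c.coact v = t
  induction t using TensorProduct.induction_on with
  | zero => simp
  | tmul x a =>
    simp only [LinearMap.lTensor_tmul, cs_reg_apply]
    generalize Coalgebra.comul (R := k) a = s
    induction s using TensorProduct.induction_on with
    | zero => simp
    | tmul a1 a2 => simp [TensorProduct.smul_tmul']
    | add a b ha hb => simp only [TensorProduct.tmul_add, map_add, ha, hb]
  | add a b ha hb => simp only [map_add, ha, hb]

/-- if `ρ w ∈ V ⊗ M` with `M` inside the union of the filtration of the regular comodule, then `w`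
lies in the filtration of `V`. -/
theorem exists_mem_F_of_coact_mem (L : Set (C →ₗ[k] k)) (c : HopfRep.Comod k C V)
    (M : Submodule k C) (hM : ∀ a ∈ M, ∃ n, a ∈ F L (reg k C) n) (w : V)
    (hw : c.coact w ∈ LinearMap.range (M.subtype.lTensor V)) : ∃ n, w ∈ F L c n := by
  let S' : Set (Module.End k (V ⊗[k] C)) := {g | ∃ φ ∈ L, g = (cs (reg k C) φ).lTensor V}
  have step1 : ∀ (n : ℕ) (a : C), a ∈ F L (reg k C) n → ∀ x : V, x ⊗ₜ[k] a ∈ Z S' n := by
    intro n
    induction n with
    | zero =>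
      intro a ha x
      have : a = 0 := by
        have h := ha
        unfold F at h
        rw [Z_zero, Submodule.mem_bot] at h
        exact h
      rw [this, TensorProduct.tmul_zero]
      exact Submodule.zero_mem _
    | succ n ih =>
      intro a ha x
      rw [mem_Z_succ]
      rintro _ ⟨φ, hφ, rfl⟩
      rw [LinearMap.lTensor_tmul]
      exact ih _ ((mem_F_succ L (reg k C)).1 ha φ hφ) x
  have step2 : c.coact w ∈ Zinf S' := by
    obtain ⟨y, hy⟩ := hw
    rw [← hy]
    clear hy
    induction y using TensorProduct.induction_on with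
    | zero => rw [map_zero]; exact Submodule.zero_mem _
    | tmul x a =>
      obtain ⟨n, hn⟩ := hM a.1 a.2
      rw [LinearMap.lTensor_tmul]
      exact Z_le_Zinf S' n (step1 n _ hn x)
    | add y z hy hz =>
      rw [map_add]
      exact Submodule.add_mem _ hy hz
  obtain ⟨n, hn⟩ := (mem_Zinf S').1 step2
  refine ⟨n, mem_Z_of_map_mem c.coact (coact_injective c) ?_ hn⟩
  rintro _ ⟨φ, hφ, rfl⟩
  exact ⟨_, ⟨φ, hφ, rfl⟩, coact_comp_cs c φ⟩

theorem exists_mem_F_of_forall (L : Set (C →ₗ[k] k)) (c : HopfRep.Comod k C V)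
    (h : ∀ a : C, ∃ n, a ∈ F L (reg k C) n) (w : V) : ∃ n, w ∈ F L c n := by
  refine exists_mem_F_of_coact_mem L c ⊤ (fun a _ => h a) w ?_
  have hsurj : Function.Surjective ((⊤ : Submodule k C).subtype.lTensor V) :=
    LinearMap.lTensor_surjective V (fun a => ⟨⟨a, trivial⟩, rfl⟩)
  exact LinearMap.range_eq_top.2 hsurj ▸ Submodule.mem_top

/-- an element of `V ⊗ C` all of whose slices vanish is zero. -/
theorem eq_zero_of_forall_slice (t : V ⊗[k] C) (h : ∀ φ : C →ₗ[k] k, slice φ t = 0) : t = 0 := by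
  have h1 := mem_range_rTensor_subtype_of_forall_slice (⊥ : Submodule k V) t
    (fun φ => by rw [h φ]; exact Submodule.zero_mem _)
  obtain ⟨y, rfl⟩ := h1
  have : y = 0 := by
    induction y using TensorProduct.induction_on with
    | zero => rfl
    | tmul x a =>
      have : x = 0 := Subsingleton.elim _ _
      rw [this, TensorProduct.zero_tmul]
    | add y z hy hz =>
      have hy' := hy (fun φ => by
        have : y = 0 := by
          clear hy hz h
          induction y using TensorProduct.induction_on with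
          | zero => rfl
          | tmul x a =>
            have : x = 0 := Subsingleton.elim _ _
            rw [this, TensorProduct.zero_tmul]
          | add y z hy hz => rw [hy, hz, add_zero]
        rw [this]; simp)
      have hz' := hz (fun φ => by
        have : z = 0 := by
          clear hy hz h
          induction z using TensorProduct.induction_on with
          | zero => rfl
          | tmul x a =>
            have : x = 0 := Subsingleton.elim _ _
            rw [this, TensorProduct.zero_tmul]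
          | add y z hy hz => rw [hy, hz, add_zero]
        rw [this]; simp)
      rw [hy', hz', add_zero]
  rw [this, map_zero]

end Coact

end Groth.Agent.Lib.Helper84.ComodFilt
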