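import Mathlib
import Groth.Prelude.Def_HopfRep
import Groth.Prelude.Def_ComodSub
import Groth.Agent.H40.Unipotent
import Groth.Agent.Lib.Helper84.ComodFilt

/-!
# Unipotent Hopf algebras are the conilpotent ones (helper84)

`A` is unipotent iff the regular comodule is exhausted by the filtration defined by the functionals
vanishing at `1`.
-/

set_option autoImplicit false
set_option linter.unusedSectionVars false
set_option linter.style.haveILetI false
universe u v v' w w'

namespace Groth.Agent.Lib.Helper84.UnipFilt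

open TensorProduct Groth.Agent.H40 Groth.Agent.Lib.Helper84.OpFilt
open Groth.Agent.Lib.Helper84.ComodFilt

section Aug

variable (k : Type u) [Field k] (A : Type v) [CommRing A] [Bialgebra k A]

/-- the functionals vanishing at `1`: the augmentation ideal of the dual algebra. -/
def mA : Set (A →ₗ[k] k) := {φ | φ 1 = 0}

variable {k A}
variable {V : Type w} [AddCommGroup V] [Module k V]

theorem mem_F_one_mA_iff (c : HopfRep.Comod k A V) (v : V) :
    v ∈ F (mA k A) c 1 ↔ c.coact v = v ⊗ₜ[k] (1 : A) := by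
  rw [mem_F_one]
  constructor
  · intro h
    rw [← sub_eq_zero]
    apply eq_zero_of_forall_slice
    intro φ
    have hφ' : φ - φ 1 • (Coalgebra.counit (R := k) (A := A)) ∈ mA k A := by
      change (φ - φ 1 • (Coalgebra.counit (R := k) (A := A))) 1 = 0
      simp [Bialgebra.counit_one]
    have h1 := h _ hφ'
    rw [cs_sub, cs_smul, LinearMap.sub_apply, LinearMap.smul_apply, cs_counit, cs_apply] at h1
    rw [map_sub, slice_tmul]
    exact h1
  · intro h φ hφ
    rw [cs_apply, h, slice_tmul]
    have : φ 1 = 0 := hφ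
    rw [this, zero_smul]

theorem mem_fixedPts_iff (c : HopfRep.Comod k A V) (v : V) :
    v ∈ @HopfRep.fixedPts k A _ _ _ V _ _ c ↔ c.coact v = v ⊗ₜ[k] (1 : A) := Iff.rfl

/-- **criterion**: if the regular comodule is exhausted by the filtration, `A` is unipotent. -/
theorem isUnipotent_of_forall_mem (h : ∀ a : A, ∃ n, a ∈ F (mA k A) (reg k A) n) :
    HopfRep.IsUnipotent k A := by
  intro V _ _ c hfin hnt
  obtain ⟨v, hv⟩ := exists_ne (0 : V)
  obtain ⟨n, hn⟩ := exists_mem_F_of_forall (mA k A) c h v
  have h1 := F_one_ne_bot_of_mem (mA k A) c hv hn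
  obtain ⟨w, hw, hw0⟩ := Submodule.exists_mem_ne_zero_of_ne_bot h1
  intro hbot
  apply hw0
  have : w ∈ HopfRep.fixedPts k A V := (mem_F_one_mA_iff c w).1 hw
  rw [hbot, Submodule.mem_bot] at this
  exact this

/-- a unipotent flag lies in the filtration. -/
theorem le_F_of_flag (c : HopfRep.Comod k A V) (Fl : ℕ → Submodule k V) (h0 : Fl 0 = ⊥)
    (hgr : ∀ i, ∀ v ∈ Fl (i + 1), c.coact v - v ⊗ₜ[k] (1 : A) ∈
      LinearMap.range ((Fl i).subtype.rTensor A)) (i : ℕ) : Fl i ≤ F (mA k A) c i := by
  induction i with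
  | zero => rw [h0]; exact bot_le
  | succ i ih =>
    intro v hv
    rw [mem_F_succ]
    intro φ hφ
    apply ih
    have h1 := slice_mem_of_mem_range _ _ (hgr i v hv) φ
    rw [map_sub, slice_tmul] at h1
    have : φ 1 = 0 := hφ
    rw [this, zero_smul, sub_zero] at h1
    exact h1

/-- a unipotent Hopf algebra is exhausted by the filtration. -/
theorem forall_mem_of_isUnipotent (hU : HopfRep.IsUnipotent k A) (a : A) :
    ∃ n, a ∈ F (mA k A) (reg k A) n := by
  obtain ⟨W, hWfin, haW, hW⟩ := @exists_finite_subcomod_mem k _ A _ _ _ A _ _ (reg k A) a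
  obtain ⟨m, Fl, hmono, h0, htop, hsub, hgr⟩ :=
    @hasUnipFiltration_of_isUnipotent k A _ _ _ hU (Module.finrank k W) W _ _
      (ComodSub.Comod.restr (reg k A) W hW) hWfin rfl
  have h1 := le_F_of_flag (ComodSub.Comod.restr (reg k A) W hW) Fl h0 hgr m
  have h2 : (⟨a, haW⟩ : W) ∈ F (mA k A) (ComodSub.Comod.restr (reg k A) W hW) m := by
    apply h1
    rw [htop]
    trivial
  refine ⟨m, ?_⟩
  have := map_mem_F (L := mA k A) (c := ComodSub.Comod.restr (reg k A) W hW) (d := reg k A)
    W.subtype (fun v => (ComodSub.restr_coact_coe (reg k A) W hW v).symm) h2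
  exact this

theorem isUnipotent_iff_forall_mem :
    HopfRep.IsUnipotent k A ↔ ∀ a : A, ∃ n, a ∈ F (mA k A) (reg k A) n :=
  ⟨forall_mem_of_isUnipotent, isUnipotent_of_forall_mem⟩

end Aug

section Transfer

variable {k : Type u} [Field k] {A : Type v} [CommRing A] [Bialgebra k A]
  {B : Type v'} [CommRing B] [Bialgebra k B]

/-- quotients (closed subgroups) of unipotent are unipotent. -/
theorem isUnipotent_of_surjective (f : A →ₐc[k] B) (hf : Function.Surjective f)
    (hA : HopfRep.IsUnipotent k A) : HopfRep.IsUnipotent k B := by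
  apply isUnipotent_of_forall_mem
  intro b
  obtain ⟨a, rfl⟩ := hf b
  obtain ⟨n, hn⟩ := forall_mem_of_isUnipotent hA a
  refine ⟨n, ?_⟩
  have := map_mem_F_reg (f : A →ₗc[k] B) (mA k A) (mA k B) ?_ hn
  · exact this
  · intro φ hφ
    change φ (f 1) = 0
    rw [map_one]
    exact hφ

/-- Hopf subalgebras (quotient groups) of unipotent are unipotent. -/
theorem isUnipotent_of_injective (f : B →ₐc[k] A) (hf : Function.Injective f)
    (hA : HopfRep.IsUnipotent k A) : HopfRep.IsUnipotent k B := by
  apply isUnipotent_of_forall_mem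
  intro b
  obtain ⟨n, hn⟩ := forall_mem_of_isUnipotent hA (f b)
  refine ⟨n, ?_⟩
  refine mem_F_reg_of_map_mem (f : B →ₗc[k] A) hf (mA k B) (mA k A) ?_ hn
  intro μ hμ
  obtain ⟨p, hp⟩ := LinearMap.exists_leftInverse_of_injective ((f : B →ₗc[k] A) : B →ₗ[k] A)
    (LinearMap.ker_eq_bot.2 hf)
  refine ⟨μ ∘ₗ p, ?_, ?_⟩
  · change μ (p 1) = 0
    have h1 : p 1 = 1 := by
      have := LinearMap.congr_fun hp 1
      simp only [LinearMap.comp_apply, LinearMap.id_apply] at this
      rw [← this]
      congr 1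
      exact (map_one f).symm
    rw [h1]
    exact hμ
  · rw [LinearMap.comp_assoc, hp, LinearMap.comp_id]

end Transfer

end Groth.Agent.Lib.Helper84.UnipFilt
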