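import Mathlib

/-!
# Affine group schemes and Hopf algebras: functoriality of global sections (helper84)

Mathlib equips the global sections `Γ(G, ⊤)` of an affine group scheme `G` over `Spec R` with a
Hopf algebra structure.  Here we show that a homomorphism of affine group schemes induces a
*bialgebra* map on global sections.  To avoid instance clashes the coordinate ring is wrapped in the
type synonym `GA G`.
-/

set_option autoImplicit false
set_option linter.style.haveILetI false
set_option linter.unusedSectionVars false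
universe u v₁ v₂ u₁ u₂
open CategoryTheory MonoidalCategory CartesianMonoidalCategory MonObj GrpObj AlgebraicGeometry
  Opposite

namespace Groth.Agent.Lib.Helper84.AffGrpHopf

section General

open Functor

variable {C : Type u₁} [Category.{v₁} C] [MonoidalCategory C]
  {D : Type u₂} [Category.{v₂} D] [MonoidalCategory D] {F : C ⥤ D} [F.Monoidal]

/-- the preimage of a monoid morphism under a fully faithful monoidal functor is a monoid morphism
for the pulled-back structures. -/
theorem isMonHom_preimage' (hF : F.FullyFaithful) {X Y : C} [MonObj (F.obj X)] [MonObj (F.obj Y)]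
    (f : F.obj X ⟶ F.obj Y) [IsMonHom f] :
    letI := hF.monObj X
    letI := hF.monObj Y
    IsMonHom (hF.preimage f) := by
  letI := hF.monObj X
  letI := hF.monObj Y
  constructor
  · apply hF.map_injective
    simp
  · apply hF.map_injective
    simp [← OplaxMonoidal.δ_natural_assoc]

variable {M X : C} [MonObj M]

theorem isMonHom_ofIso_hom (e : M ≅ X) :
    letI := MonObj.ofIso e
    IsMonHom e.hom := by
  letI := MonObj.ofIso e
  constructor
  · rfl
  · change μ[M] ≫ e.hom = (e.hom ⊗ₘ e.hom) ≫ ((e.inv ⊗ₘ e.inv) ≫ μ[M] ≫ e.hom)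
    rw [← Category.assoc (e.hom ⊗ₘ e.hom), tensorHom_comp_tensorHom, e.hom_inv_id,
      MonoidalCategory.tensorHom_id, MonoidalCategory.id_whiskerRight, Category.id_comp]

end General

section Affine

variable {R : CommRingCat.{u}}

section Obj
variable (G : Over (Spec R)) [GrpObj G] [IsAffine G.left]

/-- the object of `(CommAlgCat R)ᵒᵖ`. -/
noncomputable abbrev gObj : (CommAlgCat R)ᵒᵖ := op (CommAlgCat.of R Γ(G.left, ⊤))

/-- the isomorphism `G ≅ Spec Γ(G)` over `Spec R`. -/
noncomputable abbrev gIso : G ≅ (algSpec R).obj (gObj G) := G.left.isoSpec.asOver (Spec R)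

/-- the transported group structure on `Spec Γ(G)`. -/
@[reducible] noncomputable def gGrp1 : GrpObj ((algSpec R).obj (gObj G)) := GrpObj.ofIso (gIso G)

/-- the cogroup structure on `Γ(G)`. -/
@[reducible] noncomputable def gGrp2 : GrpObj (gObj G) :=
  letI := gGrp1 G
  algSpec.fullyFaithful.grpObj _

/-- Mathlib's Hopf algebra structure on `Γ(G)`, made explicit. -/
@[reducible] noncomputable def hopfΓ : HopfAlgebra R Γ(G.left, ⊤) :=
  @instHopfAlgebraCarrierObjOppositeOpensCarrierCarrierCommRingCatPresheafOpOpensTopOfGrpObjOverSchemeSpecAsOverOfIsAffine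
    R G.left _ ‹GrpObj G› _

theorem comulAlgHom_eq : @Bialgebra.comulAlgHom R Γ(G.left, ⊤) _ _ (hopfΓ G).toBialgebra =
    (letI := gGrp2 G; μ[gObj G].unop.hom) := rfl

theorem counitAlgHom_eq : @Bialgebra.counitAlgHom R Γ(G.left, ⊤) _ _ (hopfΓ G).toBialgebra =
    (letI := gGrp2 G; η[gObj G].unop.hom) := rfl

end Obj

section Hom
variable {G G' : Over (Spec R)} [GrpObj G] [GrpObj G'] [IsAffine G.left] [IsAffine G'.left]
  (h : G ⟶ G') [IsMonHom h]

/-- the conjugated morphism `Spec Γ(G) ⟶ Spec Γ(G')`. -/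
noncomputable abbrev gMap : (algSpec R).obj (gObj G) ⟶ (algSpec R).obj (gObj G') :=
  (gIso G).inv ≫ h ≫ (gIso G').hom

theorem isMonHom_gMap :
    @IsMonHom _ _ _ _ _ (gGrp1 G).toMonObj (gGrp1 G').toMonObj (gMap h) := by
  letI := gGrp1 G
  letI := gGrp1 G'
  haveI : IsMonHom (gIso G).hom := isMonHom_ofIso_hom (gIso G)
  haveI : IsMonHom (gIso G').hom := isMonHom_ofIso_hom (gIso G')
  infer_instance

theorem isMonHom_pre :
    @IsMonHom _ _ _ (gObj G) (gObj G') (gGrp2 G).toMonObj (gGrp2 G').toMonObj
      (algSpec.fullyFaithful.preimage (gMap h)) := by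
  letI := gGrp1 G
  letI := gGrp1 G'
  haveI := isMonHom_gMap h
  exact isMonHom_preimage' algSpec.fullyFaithful (gMap h)

end Hom

section Syn

/-- the coordinate ring of an affine group scheme, as a type synonym carrying only the instances
declared here. -/
def GA (G : Over (Spec R)) : Type u := Γ(G.left, ⊤)

noncomputable instance instCommRingGA (G : Over (Spec R)) : CommRing (GA G) :=
  inferInstanceAs (CommRing Γ(G.left, ⊤))

noncomputable instance instHopfGA (G : Over (Spec R)) [GrpObj G] [IsAffine G.left] :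
    HopfAlgebra R (GA G) :=
  hopfΓ G

variable {G G' : Over (Spec R)} [GrpObj G] [GrpObj G'] [IsAffine G.left] [IsAffine G'.left]
  (h : G ⟶ G') [IsMonHom h]

/-- the induced algebra map on global sections. -/
noncomputable def gammaAlgHom : GA G' →ₐ[R] GA G :=
  (algSpec.fullyFaithful.preimage (gMap h)).unop.hom

/-- the induced bialgebra map on global sections. -/
noncomputable def gammaBialgHom : GA G' →ₐc[R] GA G :=
  letI := gGrp2 G
  letI := gGrp2 G'
  haveI := isMonHom_pre h
  BialgHom.ofAlgHom (gammaAlgHom h)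
    congr(($(IsMonHom.one_hom (f := algSpec.fullyFaithful.preimage (gMap h)))).unop.hom)
    congr(($((IsMonHom.mul_hom (f := algSpec.fullyFaithful.preimage (gMap h))).symm)).unop.hom)

end Syn


section Points

variable (G : Over (Spec R)) [GrpObj G] [IsAffine G.left]

/-- the section of `G` defined by a point of `Γ(G)` in `(CommAlgCat R)ᵒᵖ`. -/
noncomputable def ptOf' (p : 𝟙_ (CommAlgCat R)ᵒᵖ ⟶ gObj G) : 𝟙_ (Over (Spec R)) ⟶ G :=
  (preservesTerminalIso (algSpec R)).inv ≫ (algSpec R).map p ≫ (gIso G).inv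

theorem ptOf'_surjective (x : 𝟙_ (Over (Spec R)) ⟶ G) : ∃ p, ptOf' G p = x := by
  refine ⟨algSpec.fullyFaithful.preimage
    ((preservesTerminalIso (algSpec R)).hom ≫ x ≫ (gIso G).hom), ?_⟩
  unfold ptOf'
  rw [Functor.FullyFaithful.map_preimage]
  simp only [Category.assoc, Iso.inv_hom_id_assoc, Iso.hom_inv_id, Category.comp_id]

variable {G}
variable {G' : Over (Spec R)} [GrpObj G'] [IsAffine G'.left]

theorem ptOf'_comp (h : G ⟶ G') (p : 𝟙_ (CommAlgCat R)ᵒᵖ ⟶ gObj G) :
    ptOf' G p ≫ h = ptOf' G' (p ≫ algSpec.fullyFaithful.preimage (gMap h)) := by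
  unfold ptOf'
  rw [Functor.map_comp, Functor.FullyFaithful.map_preimage]
  simp only [Category.assoc, Iso.hom_inv_id, Category.comp_id]

/-- the algebra map of a point. -/
noncomputable def algOf (p : 𝟙_ (CommAlgCat R)ᵒᵖ ⟶ gObj G) : GA G →ₐ[R] R := p.unop.hom

/-- the point of an algebra map. -/
noncomputable def ofAlg (χ : GA G →ₐ[R] R) : 𝟙_ (CommAlgCat R)ᵒᵖ ⟶ gObj G :=
  (CommAlgCat.ofHom χ).op

theorem ofAlg_algOf (p : 𝟙_ (CommAlgCat R)ᵒᵖ ⟶ gObj G) : ofAlg (algOf p) = p := rfl

theorem algOf_ofAlg (χ : GA G →ₐ[R] R) : algOf (ofAlg χ) = χ := rfl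

theorem algOf_comp (h : G ⟶ G') [IsMonHom h] (p : 𝟙_ (CommAlgCat R)ᵒᵖ ⟶ gObj G) :
    algOf (p ≫ algSpec.fullyFaithful.preimage (gMap h)) = (algOf p).comp (gammaAlgHom h) := rfl

end Points

section Surj

variable {G G' : Over (Spec R)} [GrpObj G] [GrpObj G'] [IsAffine G.left] [IsAffine G'.left]
  (h : G ⟶ G') [IsMonHom h]

theorem gMap_left_eq : (gMap h).left =
    Spec.map (CommRingCat.ofHom ((gammaAlgHom h : GA G' →ₐ[R] GA G) : GA G' →+* GA G)) := by
  have h1 := algSpec.fullyFaithful.map_preimage (gMap h)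
  have h2 := congrArg (fun m => m.left) h1
  simp only [algSpec_map_left] at h2
  rw [← h2]
  rfl

/-- if `h` is surjective, an element of `Γ(G')` killed by `h^*` is nilpotent. -/
theorem isNilpotent_of_gammaAlgHom_eq_zero (hs : Surjective h.left) (a : GA G')
    (ha : gammaAlgHom h a = 0) : IsNilpotent a := by
  rw [nilpotent_iff_mem_prime]
  intro P hP
  have hsurj : Function.Surjective (gMap h).left.base := by
    have e1 : (gMap h).left = (gIso G).inv.left ≫ h.left ≫ (gIso G').hom.left := rfl
    rw [e1]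
    have s1 : Function.Surjective (gIso G).inv.left.base :=
      (G.left.isoSpec.inv).surjective
    have s3 : Function.Surjective (gIso G').hom.left.base :=
      (G'.left.isoSpec.hom).surjective
    have s2 : Function.Surjective h.left.base := hs.surj
    simp only [Scheme.Hom.comp_base, TopCat.hom_comp, ContinuousMap.coe_comp]
    exact s3.comp (s2.comp s1)
  obtain ⟨Q, hQ⟩ := hsurj (⟨P, hP⟩ : PrimeSpectrum Γ(G'.left, ⊤))
  rw [gMap_left_eq] at hQ
  have h3 : a ∈ (⟨P, hP⟩ : PrimeSpectrum Γ(G'.left, ⊤)).asIdeal := by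
    rw [← hQ]
    change (gammaAlgHom h a) ∈ Q.asIdeal
    rw [ha]
    exact Ideal.zero_mem _
  exact h3

end Surj

end Affine

end Groth.Agent.Lib.Helper84.AffGrpHopf
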