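import Mathlib
import Groth.Prelude.Def_HopfRep
import Groth.Prelude.Def_VecGrp
import Groth.Agent.Lib.Helper84.RPoints

/-!
# `G`-module structures and comodule structures correspond (helper84)

`G = Spec A` an affine group over `Spec R`, `E` an `R`-module.  A `G`-module structure on `E`
(`VecGrp.GMod`) and a right `A`-comodule structure on `E` correspond when
`g • (1 ⊗ x) = Σ g(x₁) ⊗ x₀` for all points `g`.
-/

set_option autoImplicit false

namespace Groth.Agent.Lib.Helper84.GModComod

open CategoryTheory MonObj GrpObj AlgebraicGeometry WithConv TensorProduct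
open Groth.Agent.Lib.Helper84.RPoints

universe u

/-! ### points and algebra maps -/

section Points

variable {R : Type u} [CommRing R] {A : Type u} [CommRing A] [HopfAlgebra R A]

/-- the point of `Spec A` given by an algebra map. -/
noncomputable def ptOf {B : Type u} [CommRing B] [Algebra R B] (f : A →ₐ[R] B) :
    VecGrp.pt R B ⟶ (Spec (CommRingCat.of A)).asOver (Spec (CommRingCat.of R)) :=
  Spec.mapMulEquiv (toConv f)

/-- the algebra map of a point. -/
noncomputable def algOf {B : Type u} [CommRing B] [Algebra R B]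
    (g : VecGrp.pt R B ⟶ (Spec (CommRingCat.of A)).asOver (Spec (CommRingCat.of R))) : A →ₐ[R] B :=
  (Spec.mapMulEquiv.symm g).ofConv

theorem algOf_ptOf {B : Type u} [CommRing B] [Algebra R B] (f : A →ₐ[R] B) :
    algOf (ptOf f) = f := by
  unfold algOf ptOf
  rw [MulEquiv.symm_apply_apply]

theorem ptOf_algOf {B : Type u} [CommRing B] [Algebra R B]
    (g : VecGrp.pt R B ⟶ (Spec (CommRingCat.of A)).asOver (Spec (CommRingCat.of R))) :
    ptOf (algOf g) = g := by
  unfold algOf ptOf
  rw [toConv_ofConv]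
  exact MulEquiv.apply_symm_apply _ g

theorem ptMap_comp_ptOf {B B' : Type u} [CommRing B] [Algebra R B] [CommRing B'] [Algebra R B']
    (φ : B →ₐ[R] B') (f : A →ₐ[R] B) :
    VecGrp.ptMap φ ≫ ptOf f = ptOf (φ.comp f) := by
  apply Over.OverMorphism.ext
  show Spec.map _ ≫ Spec.map _ = Spec.map _
  rw [← Spec.map_comp]
  rfl

theorem algOf_ptMap {B B' : Type u} [CommRing B] [Algebra R B] [CommRing B'] [Algebra R B']
    (φ : B →ₐ[R] B')
    (g : VecGrp.pt R B ⟶ (Spec (CommRingCat.of A)).asOver (Spec (CommRingCat.of R))) :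
    algOf (VecGrp.ptMap φ ≫ g) = φ.comp (algOf g) := by
  conv_lhs => rw [← ptOf_algOf g]
  rw [ptMap_comp_ptOf, algOf_ptOf]

theorem algOf_mul {B : Type u} [CommRing B] [Algebra R B]
    (g h : VecGrp.pt R B ⟶ (Spec (CommRingCat.of A)).asOver (Spec (CommRingCat.of R))) :
    algOf (g * h) = ofConv (toConv (algOf g) * toConv (algOf h)) := by
  have := map_mul (Spec.mapMulEquiv (R := R) (S := A) (T := B)).symm g h
  exact congrArg ofConv this

theorem algOf_one {B : Type u} [CommRing B] [Algebra R B] :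
    algOf (1 : VecGrp.pt R B ⟶ (Spec (CommRingCat.of A)).asOver (Spec (CommRingCat.of R)))
      = ofConv (1 : WithConv (A →ₐ[R] B)) := by
  have := map_one (Spec.mapMulEquiv (R := R) (S := A) (T := B)).symm
  exact congrArg ofConv this

end Points

/-! ### the action attached to an arbitrary linear map `δ : V → V ⊗ A` -/

section Gen

variable {k : Type u} [CommRing k] {A : Type u} [CommRing A] [Bialgebra k A]
variable {V : Type u} [AddCommGroup V] [Module k V] (δ : V →ₗ[k] V ⊗[k] A)
variable {R : Type u} [CommRing R] [Algebra k R]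

/-- `v ↦ Σ g(v₁) ⊗ v₀` for `δ v = Σ v₀ ⊗ v₁`. -/
noncomputable def tauD (g : A →ₐ[k] R) : V →ₗ[k] R ⊗[k] V :=
  (TensorProduct.comm k V R).toLinearMap ∘ₗ (g.toLinearMap.lTensor V) ∘ₗ δ

lemma tauD_apply (g : A →ₐ[k] R) (v : V) :
    tauD δ g v = TensorProduct.comm k V R (g.toLinearMap.lTensor V (δ v)) := rfl

noncomputable def actD (g : A →ₐ[k] R) : R ⊗[k] V →ₗ[R] R ⊗[k] V :=
  LinearMap.liftBaseChange R (tauD δ g)

@[simp] lemma actD_tmul (g : A →ₐ[k] R) (r : R) (v : V) :
    actD δ g (r ⊗ₜ[k] v) = r • tauD δ g v := rfl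

lemma actD_one_tmul (g : A →ₐ[k] R) (v : V) : actD δ g ((1 : R) ⊗ₜ[k] v) = tauD δ g v := by
  rw [actD_tmul, one_smul]

lemma actD_comm_tmul (g : A →ₐ[k] R) (v : V) (r : R) :
    actD δ g (TensorProduct.comm k V R (v ⊗ₜ[k] r)) = r • tauD δ g v := by
  rw [TensorProduct.comm_tmul, actD_tmul]

lemma psi_tmul' (g h : A →ₐ[k] R) (v : V) (a b : A) :
    psi g h (v ⊗ₜ[k] (a ⊗ₜ[k] b)) = (g a * h b) ⊗ₜ[k] v := by
  simp [psi]

lemma tauD_mul (g h : A →ₐ[k] R) (v : V) :
    tauD δ (ofConv (toConv g * toConv h)) v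
      = psi g h ((Coalgebra.comul (R := k) (A := A)).lTensor V (δ v)) := by
  rw [tauD_apply]
  generalize δ v = y
  induction y using TensorProduct.induction_on with
  | zero => simp
  | tmul v' a =>
    rw [LinearMap.lTensor_tmul, LinearMap.lTensor_tmul]
    simp only [psi, LinearMap.comp_apply, LinearMap.lTensor_tmul]
    rfl
  | add a b ha hb => rw [map_add, map_add, ha, hb, map_add, map_add]

lemma actD_tauD (g h : A →ₐ[k] R) (v : V) :
    actD δ g (tauD δ h v)
      = psi g h (TensorProduct.assoc k V A A (δ.rTensor A (δ v))) := by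
  rw [tauD_apply]
  generalize δ v = y
  induction y using TensorProduct.induction_on with
  | zero => simp
  | tmul v' a =>
    rw [LinearMap.lTensor_tmul, LinearMap.rTensor_tmul, actD_comm_tmul, tauD_apply]
    generalize δ v' = z
    induction z using TensorProduct.induction_on with
    | zero => simp
    | tmul v'' a' =>
      rw [LinearMap.lTensor_tmul, TensorProduct.comm_tmul, TensorProduct.assoc_tmul, psi_tmul',
        TensorProduct.smul_tmul', smul_eq_mul, mul_comm]
      rfl
    | add a b ha hb =>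
      rw [map_add, map_add, smul_add, ha, hb, TensorProduct.add_tmul, map_add, map_add]
  | add a b ha hb => rw [map_add, map_add, map_add, ha, hb, map_add, map_add, map_add]

variable {R' : Type u} [CommRing R'] [Algebra k R']

omit [Bialgebra k A] in
lemma Wmap_comm_lTensor [Algebra k A] (φ : R →ₐ[k] R') (g : A →ₐ[k] R) (y : V ⊗[k] A) :
    VecGrp.Wmap (M := V) φ (TensorProduct.comm k V R (g.toLinearMap.lTensor V y))
      = TensorProduct.comm k V R' ((φ.comp g).toLinearMap.lTensor V y) := by
  induction y using TensorProduct.induction_on with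
  | zero => simp
  | tmul v a => simp
  | add a b ha hb => simp only [map_add, ha, hb]

lemma Wmap_tauD (φ : R →ₐ[k] R') (g : A →ₐ[k] R) (v : V) :
    VecGrp.Wmap (M := V) φ (tauD δ g v) = tauD δ (φ.comp g) v := by
  rw [tauD_apply, tauD_apply, Wmap_comm_lTensor]

lemma Wmap_actD (φ : R →ₐ[k] R') (g : A →ₐ[k] R) (x : R ⊗[k] V) :
    VecGrp.Wmap (M := V) φ (actD δ g x) = actD δ (φ.comp g) (VecGrp.Wmap (M := V) φ x) := by
  induction x using TensorProduct.induction_on with
  | zero => simp
  | tmul r v =>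
    rw [actD_tmul, VecGrp.Wmap_smul, Wmap_tauD, VecGrp.Wmap_tmul, actD_tmul]
  | add a b ha hb => simp only [map_add, ha, hb]

end Gen

/-! ### from comodules to `G`-modules -/

section ToGMod

variable (R : Type u) [CommRing R] (A : Type u) [CommRing A] [HopfAlgebra R A]
variable (E : Type u) [AddCommGroup E] [Module R E]

omit [HopfAlgebra R A] in
lemma tauD_coact [Bialgebra R A] [HopfRep.Comod R A E] {B : Type u} [CommRing B] [Algebra R B]
    (g : A →ₐ[R] B) :
    tauD (HopfRep.Comod.coact (k := R) (A := A) (V := E)) g = tau g := rfl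

omit [HopfAlgebra R A] in
lemma actD_coact [Bialgebra R A] [HopfRep.Comod R A E] {B : Type u} [CommRing B] [Algebra R B]
    (g : A →ₐ[R] B) :
    actD (HopfRep.Comod.coact (k := R) (A := A) (V := E)) g = actR g := rfl

/-- the `G`-module of a comodule. -/
noncomputable def gmodOfComod [HopfRep.Comod R A E] :
    VecGrp.GMod ((Spec (CommRingCat.of A)).asOver (Spec (CommRingCat.of R))) E where
  ρ B _ _ :=
    { toFun := fun g => LinearEquiv.ofLinearMap (actR (A := A) (V := E) (algOf g))
        (actR (A := A) (V := E) ((algOf g).comp (HopfAlgebra.antipodeAlgHom R A)))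
        (actR_comp_inv _) (actR_inv_comp _)
      map_one' := by
        apply LinearEquiv.ext
        intro x
        show actR (A := A) (V := E) (algOf 1) x = x
        rw [algOf_one, actR_one]
        rfl
      map_mul' := fun g h => by
        apply LinearEquiv.ext
        intro x
        show actR (A := A) (V := E) (algOf (g * h)) x
          = actR (A := A) (V := E) (algOf g) (actR (A := A) (V := E) (algOf h) x)
        rw [algOf_mul, actR_mul]
        rfl }
  naturality φ g x := by
    show VecGrp.Wmap φ (actR (A := A) (V := E) (algOf g) x)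
      = actR (A := A) (V := E) (algOf (VecGrp.ptMap φ ≫ g)) (VecGrp.Wmap φ x)
    rw [algOf_ptMap, ← actD_coact, ← actD_coact, Wmap_actD]

lemma gmodOfComod_one_tmul [HopfRep.Comod R A E] (B : Type u) [CommRing B] [Algebra R B]
    (g : VecGrp.pt R B ⟶ (Spec (CommRingCat.of A)).asOver (Spec (CommRingCat.of R))) (x : E) :
    (gmodOfComod R A E).ρ B g ((1 : B) ⊗ₜ[R] x)
      = (TensorProduct.comm R E B) (LinearMap.lTensor E (Spec.mapMulEquiv.symm g).ofConv.toLinearMap
          (HopfRep.Comod.coact (k := R) (A := A) x)) := by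
  show actR (A := A) (V := E) (algOf g) ((1 : B) ⊗ₜ[R] x) = _
  rw [actR_one_tmul]
  rfl

variable {R A E}

/-- two `G`-module structures agreeing on the elements `1 ⊗ x` are equal. -/
theorem gmod_ext {G : Over (Spec (CommRingCat.of R))} [GrpObj G] (m m' : VecGrp.GMod G E)
    (h : ∀ (B : Type u) [CommRing B] [Algebra R B] (g : VecGrp.pt R B ⟶ G) (x : E),
      m.ρ B g ((1 : B) ⊗ₜ[R] x) = m'.ρ B g ((1 : B) ⊗ₜ[R] x)) : m = m' := by
  have h2 : ∀ (B : Type u) [CommRing B] [Algebra R B], m.ρ B = m'.ρ B := by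
    intro B _ _
    apply MonoidHom.ext
    intro g
    apply LinearEquiv.ext
    intro y
    induction y using TensorProduct.induction_on with
    | zero => simp
    | tmul b x =>
      have e : b ⊗ₜ[R] x = b • ((1 : B) ⊗ₜ[R] x) := by
        rw [TensorProduct.smul_tmul', smul_eq_mul, _root_.mul_one]
      rw [e, map_smul, map_smul, h B g x]
    | add a b ha hb => rw [map_add, map_add, ha, hb]
  cases m with
  | mk ρ1 n1 =>
    cases m' with
    | mk ρ2 n2 =>
      have : ρ1 = ρ2 := by
        funext B i1 i2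
        exact @h2 B i1 i2
      subst this
      rfl

end ToGMod

/-! ### from `G`-modules to comodules -/

section ToComod

variable {R : Type u} [CommRing R] {A : Type u} [CommRing A] [HopfAlgebra R A]
variable {E : Type u} [AddCommGroup E] [Module R E]
variable (m : VecGrp.GMod ((Spec (CommRingCat.of A)).asOver (Spec (CommRingCat.of R))) E)

/-- the universal point. -/
noncomputable def gU : VecGrp.pt R A ⟶ (Spec (CommRingCat.of A)).asOver (Spec (CommRingCat.of R)) :=
  ptOf (AlgHom.id R A)

/-- the coaction of a `G`-module. -/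
noncomputable def deltaOf : E →ₗ[R] E ⊗[R] A :=
  (TensorProduct.comm R E A).symm.toLinearMap ∘ₗ
    ((m.ρ A gU).toLinearMap.restrictScalars R) ∘ₗ (TensorProduct.mk R A E 1)

lemma comm_deltaOf (x : E) :
    TensorProduct.comm R E A (deltaOf m x) = m.ρ A gU ((1 : A) ⊗ₜ[R] x) := by
  simp [deltaOf]

/-- the defining formula, for all points. -/
theorem rho_one_tmul (B : Type u) [CommRing B] [Algebra R B]
    (g : VecGrp.pt R B ⟶ (Spec (CommRingCat.of A)).asOver (Spec (CommRingCat.of R))) (x : E) :
    m.ρ B g ((1 : B) ⊗ₜ[R] x) = tauD (deltaOf m) (algOf g) x := by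
  have hn := m.naturality (algOf g) gU ((1 : A) ⊗ₜ[R] x)
  have e1 : VecGrp.ptMap (algOf g) ≫ gU = g := by
    rw [gU, ptMap_comp_ptOf, AlgHom.comp_id, ptOf_algOf]
  rw [e1, VecGrp.Wmap_tmul, map_one] at hn
  rw [← hn, ← comm_deltaOf, tauD_apply]
  have := Wmap_comm_lTensor (V := E) (algOf g) (AlgHom.id R A) (deltaOf m x)
  rw [AlgHom.comp_id] at this
  rw [← this]
  congr 2
  show deltaOf m x = LinearMap.lTensor E LinearMap.id (deltaOf m x)
  rw [LinearMap.lTensor_id, LinearMap.id_apply]

theorem rho_eq_actD (B : Type u) [CommRing B] [Algebra R B]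
    (g : VecGrp.pt R B ⟶ (Spec (CommRingCat.of A)).asOver (Spec (CommRingCat.of R)))
    (y : B ⊗[R] E) :
    m.ρ B g y = actD (deltaOf m) (algOf g) y := by
  induction y using TensorProduct.induction_on with
  | zero => simp
  | tmul b x =>
    have e : b ⊗ₜ[R] x = b • ((1 : B) ⊗ₜ[R] x) := by
      rw [TensorProduct.smul_tmul', smul_eq_mul, _root_.mul_one]
    rw [e, map_smul, map_smul, rho_one_tmul, actD_one_tmul]
  | add a b ha hb => rw [map_add, map_add, ha, hb]

omit [HopfAlgebra R A] in
lemma psi_incl [Bialgebra R A] (y : E ⊗[R] (A ⊗[R] A)) :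
    psi (V := E) (Algebra.TensorProduct.includeLeft (R := R) (S := R) (A := A) (B := A))
      (Algebra.TensorProduct.includeRight (R := R) (A := A) (B := A)) y
      = TensorProduct.comm R E (A ⊗[R] A) y := by
  induction y using TensorProduct.induction_on with
  | zero => simp
  | tmul v t =>
    induction t using TensorProduct.induction_on with
    | zero => simp
    | tmul a b =>
      rw [psi_tmul', TensorProduct.comm_tmul]
      congr 1
      show (a ⊗ₜ[R] (1 : A)) * ((1 : A) ⊗ₜ[R] b) = a ⊗ₜ[R] b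
      rw [Algebra.TensorProduct.tmul_mul_tmul, _root_.mul_one, _root_.one_mul]
    | add a b ha hb => rw [TensorProduct.tmul_add, map_add, ha, hb, map_add]
  | add a b ha hb => rw [map_add, ha, hb, map_add]

theorem deltaOf_coassoc :
    (TensorProduct.assoc R E A A).toLinearMap ∘ₗ (deltaOf m).rTensor A ∘ₗ (deltaOf m) =
      (CoalgebraStruct.comul (R := R) (A := A)).lTensor E ∘ₗ (deltaOf m) := by
  ext x
  simp only [LinearMap.comp_apply, LinearEquiv.coe_coe]
  set g1 : VecGrp.pt R (A ⊗[R] A) ⟶ (Spec (CommRingCat.of A)).asOver (Spec (CommRingCat.of R)) :=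
    ptOf (Algebra.TensorProduct.includeLeft (R := R) (S := R) (A := A) (B := A)) with hg1
  set g2 : VecGrp.pt R (A ⊗[R] A) ⟶ (Spec (CommRingCat.of A)).asOver (Spec (CommRingCat.of R)) :=
    ptOf (Algebra.TensorProduct.includeRight (R := R) (A := A) (B := A)) with hg2
  have h1 : m.ρ (A ⊗[R] A) (g1 * g2) ((1 : A ⊗[R] A) ⊗ₜ[R] x)
      = m.ρ (A ⊗[R] A) g1 (m.ρ (A ⊗[R] A) g2 ((1 : A ⊗[R] A) ⊗ₜ[R] x)) := by
    rw [map_mul]
    rfl
  rw [rho_one_tmul, rho_one_tmul, rho_eq_actD, algOf_mul, hg1, hg2, algOf_ptOf, algOf_ptOf,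
    tauD_mul, actD_tauD, psi_incl, psi_incl] at h1
  exact ((TensorProduct.comm R E (A ⊗[R] A)).injective h1).symm

theorem deltaOf_counit :
    (CoalgebraStruct.counit (R := R) (A := A)).lTensor E ∘ₗ (deltaOf m) =
      (TensorProduct.mk R E R).flip 1 := by
  ext x
  simp only [LinearMap.comp_apply, LinearMap.flip_apply, TensorProduct.mk_apply]
  have h1 : m.ρ R 1 ((1 : R) ⊗ₜ[R] x) = (1 : R) ⊗ₜ[R] x := by
    rw [map_one]
    rfl
  rw [rho_one_tmul, algOf_one, tauD_apply] at h1
  have h2 : (ofConv (1 : WithConv (A →ₐ[R] R))).toLinearMap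
      = CoalgebraStruct.counit (R := R) (A := A) := by
    ext a
    simp
  rw [h2] at h1
  apply (TensorProduct.comm R E R).injective
  rw [h1, TensorProduct.comm_tmul]

end ToComod

/-! ### the correspondence -/

theorem gmod_comod_correspondence (R : Type u) [CommRing R] (A : Type u) [CommRing A]
    [HopfAlgebra R A] (E : Type u) [AddCommGroup E] [Module R E] :
    (∀ [HopfRep.Comod R A E],
      ∃! m : VecGrp.GMod ((Spec (CommRingCat.of A)).asOver (Spec (CommRingCat.of R))) E,
        (∀ (B : Type u) [CommRing B] [Algebra R B]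
          (g : VecGrp.pt R B ⟶ ((Spec (CommRingCat.of A)).asOver (Spec (CommRingCat.of R))))
          (x : E),
          m.ρ B g ((1 : B) ⊗ₜ[R] x) =
            (TensorProduct.comm R E B) (LinearMap.lTensor E
              (Spec.mapMulEquiv.symm g).ofConv.toLinearMap
              (HopfRep.Comod.coact (k := R) (A := A) x)))) ∧
    (∀ m : VecGrp.GMod ((Spec (CommRingCat.of A)).asOver (Spec (CommRingCat.of R))) E,
      ∃! δ : E →ₗ[R] E ⊗[R] A,
        ((TensorProduct.assoc R E A A).toLinearMap ∘ₗ δ.rTensor A ∘ₗ δ =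
            (CoalgebraStruct.comul (R := R) (A := A)).lTensor E ∘ₗ δ ∧
          (CoalgebraStruct.counit (R := R) (A := A)).lTensor E ∘ₗ δ =
            (TensorProduct.mk R E R).flip 1) ∧
        (∀ (B : Type u) [CommRing B] [Algebra R B]
          (g : VecGrp.pt R B ⟶ ((Spec (CommRingCat.of A)).asOver (Spec (CommRingCat.of R))))
          (x : E),
          m.ρ B g ((1 : B) ⊗ₜ[R] x) =
            (TensorProduct.comm R E B) (LinearMap.lTensor E
              (Spec.mapMulEquiv.symm g).ofConv.toLinearMap (δ x)))) := by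
  constructor
  · intro _
    refine ⟨gmodOfComod R A E, fun B _ _ g x => gmodOfComod_one_tmul R A E B g x, ?_⟩
    intro m' hm'
    apply gmod_ext
    intro B _ _ g x
    rw [hm' B g x, gmodOfComod_one_tmul]
  · intro m
    refine ⟨deltaOf m, ⟨⟨deltaOf_coassoc m, deltaOf_counit m⟩, ?_⟩, ?_⟩
    · intro B _ _ g x
      rw [rho_one_tmul]
      rfl
    · rintro δ' ⟨_, hδ'⟩
      ext x
      have h1 := hδ' A gU x
      have h2 : (Spec.mapMulEquiv.symm (gU (R := R) (A := A))).ofConv = AlgHom.id R A :=
        algOf_ptOf (AlgHom.id R A)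
      rw [h2] at h1
      have h3 : LinearMap.lTensor E (AlgHom.id R A).toLinearMap (δ' x) = δ' x := by
        show LinearMap.lTensor E LinearMap.id (δ' x) = δ' x
        rw [LinearMap.lTensor_id, LinearMap.id_apply]
      rw [h3, ← comm_deltaOf] at h1
      exact ((TensorProduct.comm R E A).injective h1).symm

end Groth.Agent.Lib.Helper84.GModComod
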