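import Mathlib
import Groth.Prelude.Def_FrameBundle
import Groth.Agent.Lib.Helper43.GaGm

/-!
# Points of `FrB.GLn n S` as invertible matrices of global functions (helper84)

* `glMat x` : the matrix of an `X`-point of `GL_{n,S}`; multiplicative, natural, injective;
  every matrix with invertible determinant arises.
-/

set_option autoImplicit false
universe u
open CategoryTheory MonoidalCategory CartesianMonoidalCategory MonObj GrpObj AlgebraicGeometry
open Limits TensorProduct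

namespace Groth.Agent.Lib.Helper84.GLnSch

open Groth.Agent.Lib.Helper43 CoordGrp

section Generic

variable {R : Type u} [CommRing R] {n : ℕ} {X : Over (Spec (CommRingCat.of R))}

theorem ptFn_mul_X (x y : X ⟶ specOver R (GLn n R)) (i j : Fin n) :
    ptFn (x * y).left (GLn.X i j : GLn n R) =
      ∑ l, ptFn x.left (GLn.X i l : GLn n R) * ptFn y.left (GLn.X l j : GLn n R) := by
  rw [mul_left_eq, ptFn_specMap]
  change ptFn _ (CoalgebraStruct.comul (R := R) (GLn.X i j : GLn n R)) = _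
  rw [GLn.comul_X, ← ptFnHom_apply, map_sum]
  refine Finset.sum_congr rfl fun l _ => ?_
  rw [ptFnHom_apply, ptFn_lift_tmul]

theorem exists_ringHom_of_mat {B : Type u} [CommRing B] (ψ : R →+* B)
    (M : Matrix (Fin n) (Fin n) B) (d : B) (hd : M.det * d = 1) :
    ∃ φ : GLn n R →+* B, ∀ i j, φ (GLn.X i j) = M i j := by
  letI := ψ.toAlgebra
  exact ⟨(GLn.pt n R M d hd : GLn n R →ₐ[R] B), fun i j => GLn.pt_X M d hd i j⟩

theorem ringHom_ext_X {B : Type u} [CommRing B] (f g : GLn n R →+* B)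
    (h0 : f.comp (algebraMap R (GLn n R)) = g.comp (algebraMap R (GLn n R)))
    (hX : ∀ i j, f (GLn.X i j) = g (GLn.X i j)) : f = g := by
  have hdet : f GLn.det = g GLn.det := by
    rw [GLn.det_eq, RingHom.map_det, RingHom.map_det]
    congr 1
    ext i j
    exact hX i j
  have hD : f GLn.Dinv = g GLn.Dinv := by
    have h1 : f GLn.det * f GLn.Dinv = 1 := by rw [← map_mul, GLn.det_mul_Dinv, map_one]
    have h2 : g GLn.det * g GLn.Dinv = 1 := by rw [← map_mul, GLn.det_mul_Dinv, map_one]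
    calc f GLn.Dinv = f GLn.Dinv * (g GLn.det * g GLn.Dinv) := by rw [h2, _root_.mul_one]
      _ = (f GLn.det * f GLn.Dinv) * g GLn.Dinv := by rw [← hdet]; ring
      _ = g GLn.Dinv := by rw [h1, _root_.one_mul]
  letI : Algebra R B := (f.comp (algebraMap R (GLn n R))).toAlgebra
  let f' : GLn n R →ₐ[R] B := ⟨f, fun r => rfl⟩
  let g' : GLn n R →ₐ[R] B := ⟨g, fun r => (RingHom.congr_fun h0 r).symm⟩
  have : f' = g' := GLn.algHom_ext hX hD
  exact congrArg (fun φ : GLn n R →ₐ[R] B => (φ : GLn n R →+* B)) this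

end Generic

variable {S : Scheme.{u}} {X : Over S} {n : ℕ}

/-- the matrix of a point of `GL_n`. -/
noncomputable def glMat (x : X ⟶ FrB.GLn n S) : Matrix (Fin n) (Fin n) Γ(X.left, ⊤) :=
  fun i j => ptFn (bcPt (toZ S) x).left (GLn.X i j : GLn n (ULift.{u} ℤ))

/-- the inverse determinant of a point of `GL_n`. -/
noncomputable def glDinv (x : X ⟶ FrB.GLn n S) : Γ(X.left, ⊤) :=
  ptFn (bcPt (toZ S) x).left (GLn.Dinv : GLn n (ULift.{u} ℤ))

theorem glMat_eq_mapMatrix (x : X ⟶ FrB.GLn n S) :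
    glMat x = (ptFnHom (bcPt (toZ S) x).left).mapMatrix (GLn.genMat n (ULift.{u} ℤ)) := rfl

theorem det_glMat_mul (x : X ⟶ FrB.GLn n S) : (glMat x).det * glDinv x = 1 := by
  have h1 : (glMat x).det = ptFnHom (bcPt (toZ S) x).left (GLn.det : GLn n (ULift.{u} ℤ)) := by
    rw [glMat_eq_mapMatrix, GLn.det_eq]
    exact (RingHom.map_det (ptFnHom (bcPt (toZ S) x).left) (GLn.genMat n (ULift.{u} ℤ))).symm
  have h2 : glDinv x = ptFnHom (bcPt (toZ S) x).left (GLn.Dinv : GLn n (ULift.{u} ℤ)) := rfl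
  rw [h1, h2, ← map_mul, GLn.det_mul_Dinv, map_one]

theorem isUnit_det_glMat (x : X ⟶ FrB.GLn n S) : IsUnit (glMat x).det :=
  IsUnit.of_mul_eq_one _ (det_glMat_mul x)

theorem glMat_mul (x y : X ⟶ FrB.GLn n S) : glMat (x * y) = glMat x * glMat y := by
  ext i j
  simp only [glMat, Matrix.mul_apply]
  rw [bcPt_mul]
  exact ptFn_mul_X _ _ i j

theorem glMat_comp {Y : Over S} (g : Y ⟶ X) (x : X ⟶ FrB.GLn n S) :
    glMat (g ≫ x) = (glMat x).map g.left.appTop := by
  ext i j
  simp only [glMat, Matrix.map_apply]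
  have h : (bcPt (toZ S) (g ≫ x)).left = g.left ≫ (bcPt (toZ S) x).left := by
    rw [bcPt_left, bcPt_left, Over.comp_left, Category.assoc]
  rw [h]
  exact ptFn_comp _ _ _

theorem glMat_one : glMat (1 : X ⟶ FrB.GLn n S) = 1 := by
  have h := glMat_mul (1 : X ⟶ FrB.GLn n S) 1
  rw [_root_.mul_one] at h
  have hu : IsUnit (glMat (1 : X ⟶ FrB.GLn n S)) :=
    (Matrix.isUnit_iff_isUnit_det _).2 (isUnit_det_glMat _)
  exact (hu.mul_eq_left.mp h.symm)

theorem glMat_injective :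
    Function.Injective (glMat : (X ⟶ FrB.GLn n S) → Matrix (Fin n) (Fin n) Γ(X.left, ⊤)) := by
  intro x y h
  apply bcPt_injective (toZ S)
  ext
  apply ext_of_ptFnHom
  apply ringHom_ext_X
  · exact ringHom_ulift_int_ext _ _
  · exact fun i j => congrFun (congrFun h i) j

theorem exists_of_mat (M : Matrix (Fin n) (Fin n) Γ(X.left, ⊤)) (hM : IsUnit M.det) :
    ∃ x : X ⟶ FrB.GLn n S, glMat x = M := by
  obtain ⟨d, hd⟩ := hM.exists_right_inv
  obtain ⟨φ, hφ⟩ := exists_ringHom_of_mat (R := ULift.{u} ℤ)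
    ((Int.castRingHom Γ(X.left, ⊤)).comp (ULift.ringEquiv : ULift.{u} ℤ ≃+* ℤ).toRingHom) M d hd
  let y : (Over.map (toZ S)).obj X ⟶ FrB.GLZ n :=
    Over.homMk (ptOfHom φ) (specULiftZIsTerminal.hom_ext _ _)
  obtain ⟨x, hx⟩ := bcPt_surjective (toZ S) y
  refine ⟨x, ?_⟩
  ext i j
  simp only [glMat]
  rw [hx]
  exact (ptFn_ptOfHom _ _).trans (hφ i j)

end Groth.Agent.Lib.Helper84.GLnSch
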