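import Mathlib
import Groth.Agent.H40.Comod
import Groth.Agent.Lib.Helper84.MatCoeff
import Groth.Agent.Lib.Helper93.Comod

/-!
# Characters from central one-parameter subgroups (helper84)

`A` a commutative Hopf algebra over a field, `π : A → L` a bialgebra map which is central, `t ∈ L`
in the image of `π` and "isotypic" (there is a linear form `lam` on `L` with
`∑ ℓ₁ lam(ℓ₂) = lam(ℓ) t`, `lam t = 1`).  Then some group-like `χ ∈ A` restricts to `t ^ n`,
`n ≥ 1`: the determinant of a finite-dimensional subcomodule of the weight-`t` part of `A`.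
-/

set_option autoImplicit false
set_option linter.unusedSectionVars false
universe u v w
open TensorProduct

namespace Groth.Agent.Lib.Helper84.CentralChar

open Groth.Agent.H40

section Det

variable {k : Type u} [CommRing k] {A : Type v} [CommRing A] [Bialgebra k A]

/-- the determinant of a matrix corepresentation is group-like. -/
theorem isGroupLikeElem_det {ι : Type*} [Fintype ι] [DecidableEq ι] (a : Matrix ι ι A)
    (hΔ : ∀ i j, CoalgebraStruct.comul (R := k) (a i j) = ∑ l, a i l ⊗ₜ[k] a l j)
    (hε : ∀ i j, CoalgebraStruct.counit (R := k) (a i j) = if i = j then 1 else 0) :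
    IsGroupLikeElem k a.det := by
  constructor
  · have h1 : Bialgebra.counitAlgHom k A a.det = ((Bialgebra.counitAlgHom k A).mapMatrix a).det :=
      AlgHom.map_det _ _
    have h2 : (Bialgebra.counitAlgHom k A).mapMatrix a = 1 := by
      ext i j
      simp only [AlgHom.mapMatrix_apply, Matrix.map_apply, Bialgebra.counitAlgHom_apply, hε,
        Matrix.one_apply]
    rw [h2, Matrix.det_one] at h1
    exact h1
  · have h1 : Bialgebra.comulAlgHom k A a.det = ((Bialgebra.comulAlgHom k A).mapMatrix a).det :=
      AlgHom.map_det _ _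
    have h2 : (Bialgebra.comulAlgHom k A).mapMatrix a =
        (Algebra.TensorProduct.includeLeft : A →ₐ[k] A ⊗[k] A).mapMatrix a *
        (Algebra.TensorProduct.includeRight : A →ₐ[k] A ⊗[k] A).mapMatrix a := by
      ext i j
      simp only [AlgHom.mapMatrix_apply, Matrix.map_apply, Bialgebra.comulAlgHom_apply, hΔ,
        Matrix.mul_apply, Algebra.TensorProduct.includeLeft_apply,
        Algebra.TensorProduct.includeRight_apply, Algebra.TensorProduct.tmul_mul_tmul, mul_one,
        one_mul]
    rw [h2, Matrix.det_mul, ← AlgHom.map_det, ← AlgHom.map_det] at h1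
    have h3 : CoalgebraStruct.comul (R := k) a.det = Bialgebra.comulAlgHom k A a.det := rfl
    rw [h3, h1]
    simp only [Algebra.TensorProduct.includeLeft_apply, Algebra.TensorProduct.includeRight_apply,
      Algebra.TensorProduct.tmul_mul_tmul, mul_one, one_mul]

end Det

section Main

variable {k : Type u} [Field k] {A : Type v} [CommRing A] [HopfAlgebra k A]
  {L : Type w} [CommRing L] [Bialgebra k L] (π : A →ₐc[k] L)

/-- right translation of the regular comodule by a linear form. -/
noncomputable abbrev Tr (φ : A →ₗ[k] k) : A →ₗ[k] A := coactSlice (C := A) (V := A) φ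

/-- `π` as a linear map. -/
noncomputable abbrev πl : A →ₗ[k] L := (π : A →ₐ[k] L).toLinearMap

theorem Tr_smul (c : k) (φ : A →ₗ[k] k) (x : A) : Tr (c • φ) x = c • Tr φ x := by
  simp [coactSlice, slice, LinearMap.lTensor_smul]

theorem Tr_Tr (ψ φ : A →ₗ[k] k) (x : A) : Tr ψ (Tr φ x) = Tr (convFun ψ φ) x :=
  slice_coact_coactSlice (C := A) (V := A) ψ φ x

theorem counit_Tr (φ : A →ₗ[k] k) (x : A) : Coalgebra.counit (R := k) (Tr φ x) = φ x := by
  have h := Coalgebra.rTensor_counit_comul (R := k) x
  have key : ∀ s : A ⊗[k] A, Coalgebra.counit (R := k) (slice φ s) =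
      φ (TensorProduct.lid k A ((Coalgebra.counit (R := k) (A := A)).rTensor A s)) := by
    intro s
    induction s using TensorProduct.induction_on with
    | zero => simp
    | tmul y z => simp [mul_comm]
    | add y z hy hz => simp only [map_add, hy, hz]
  show Coalgebra.counit (R := k) (slice φ (Coalgebra.comul (R := k) x)) = φ x
  rw [key, h]
  simp

/-- convolution of forms pulled back along a coalgebra map. -/
theorem convFun_comp (ψ φ : L →ₗ[k] k) :
    convFun (ψ ∘ₗ πl π) (φ ∘ₗ πl π) = convFun ψ φ ∘ₗ πl π := by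
  apply LinearMap.ext
  intro y
  have h : TensorProduct.map (πl π) (πl π) (Coalgebra.comul (R := k) y) =
      Coalgebra.comul (R := k) ((πl π) y) :=
    CoalgHomClass.map_comp_comul_apply π y
  simp only [convFun, LinearMap.comp_apply]
  rw [← h]
  generalize Coalgebra.comul (R := k) y = s
  induction s using TensorProduct.induction_on with
  | zero => simp
  | tmul y z => simp
  | add y z hy hz => simp only [map_add, hy, hz]

/-- centrality in terms of convolution of linear forms. -/
theorem convFun_comm_of_central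
    (hc : ∀ y : A, (πl π).rTensor A (Coalgebra.comul (R := k) y) =
      TensorProduct.comm k A L ((πl π).lTensor A (Coalgebra.comul (R := k) y)))
    (ψ : L →ₗ[k] k) (φ : A →ₗ[k] k) :
    convFun (ψ ∘ₗ πl π) φ = convFun φ (ψ ∘ₗ πl π) := by
  apply LinearMap.ext
  intro y
  simp only [convFun, LinearMap.comp_apply]
  have h1 : ∀ s : A ⊗[k] A, LinearMap.mul' k k (TensorProduct.map (ψ ∘ₗ πl π) φ s) =
      LinearMap.mul' k k (TensorProduct.map ψ φ ((πl π).rTensor A s)) := by
    intro s
    induction s using TensorProduct.induction_on with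
    | zero => simp
    | tmul y z => simp
    | add y z hy hz => simp only [map_add, hy, hz]
  have h2 : ∀ s : A ⊗[k] A, LinearMap.mul' k k (TensorProduct.map φ (ψ ∘ₗ πl π) s) =
      LinearMap.mul' k k (TensorProduct.map ψ φ
        (TensorProduct.comm k A L ((πl π).lTensor A s))) := by
    intro s
    induction s using TensorProduct.induction_on with
    | zero => simp
    | tmul y z => simp [mul_comm]
    | add y z hy hz => simp only [map_add, hy, hz]
  rw [h1, h2, hc]

/-- the weight space of `t` for the right `L`-coaction on `A`. -/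
noncomputable def wt (t : L) : Submodule k A where
  carrier := {x | ∀ ψ : L →ₗ[k] k, Tr (ψ ∘ₗ πl π) x = ψ t • x}
  add_mem' := by
    intro x y hx hy ψ
    rw [map_add, hx ψ, hy ψ, smul_add]
  zero_mem' := by
    intro ψ
    simp
  smul_mem' := by
    intro c x hx ψ
    rw [map_smul, hx ψ, smul_comm]

theorem mem_wt (t : L) (x : A) :
    x ∈ wt π t ↔ ∀ ψ : L →ₗ[k] k, Tr (ψ ∘ₗ πl π) x = ψ t • x := Iff.rfl

theorem isSubcomod_wt
    (hc : ∀ y : A, (πl π).rTensor A (Coalgebra.comul (R := k) y) =
      TensorProduct.comm k A L ((πl π).lTensor A (Coalgebra.comul (R := k) y)))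
    (t : L) : HopfRep.IsSubcomod (k := k) (A := A) (wt π t) := by
  rw [Groth.Agent.Lib.Helper93.Comod.isSubcomod_iff]
  intro φ x hx ψ
  show Tr (ψ ∘ₗ πl π) (Tr φ x) = ψ t • Tr φ x
  rw [Tr_Tr, convFun_comm_of_central π hc, ← Tr_Tr, hx ψ, map_smul]

/-- **a central isotypic element gives a character.** -/
theorem exists_groupLike_of_central
    (hc : ∀ y : A, (πl π).rTensor A (Coalgebra.comul (R := k) y) =
      TensorProduct.comm k A L ((πl π).lTensor A (Coalgebra.comul (R := k) y)))
    (t : L) (lam : L →ₗ[k] k) (hlam : ∀ ψ : L →ₗ[k] k, convFun ψ lam = ψ t • lam)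
    (hlt : lam t = 1) (a : A) (ha : π a = t) :
    ∃ (χ : A) (n : ℕ), IsGroupLikeElem k χ ∧ 1 ≤ n ∧ π χ = t ^ n := by
  classical
  set x := Tr (lam ∘ₗ πl π) a with hx
  have hxwt : x ∈ wt π t := by
    intro ψ
    rw [hx, Tr_Tr, convFun_comp, hlam ψ, LinearMap.smul_comp, Tr_smul]
  have hx0 : x ≠ 0 := by
    intro h0
    have h1 := counit_Tr (lam ∘ₗ πl π) a
    rw [← hx, h0, map_zero] at h1
    have h2 : (lam ∘ₗ πl π) a = 1 := by
      show lam (π a) = 1
      rw [ha, hlt]
    rw [h2] at h1
    exact zero_ne_one h1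
  obtain ⟨W₀, hW₀f, hxW₀, hW₀s⟩ := exists_finite_subcomod_mem (k := k) (C := A) (V := A) x
  set W := W₀ ⊓ wt π t with hW
  have hWs : HopfRep.IsSubcomod (k := k) (A := A) W :=
    Groth.Agent.Lib.Helper93.Comod.isSubcomod_inf _ _ hW₀s (isSubcomod_wt π hc t)
  haveI : FiniteDimensional k W₀ := hW₀f
  haveI : FiniteDimensional k W := Submodule.finiteDimensional_inf_left W₀ (wt π t)
  have hxW : x ∈ W := ⟨hxW₀, hxwt⟩
  let b := Module.finBasis k W
  set d := Module.finrank k W with hd
  have hd1 : 1 ≤ d := by
    rw [hd, Nat.one_le_iff_ne_zero]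
    intro h0
    have : (⟨x, hxW⟩ : W) = 0 := (Module.finrank_zero_iff.1 h0).elim _ _
    exact hx0 (congrArg Subtype.val this)
  obtain ⟨c, hcoact, hΔ, hε⟩ := Groth.Agent.Lib.Helper84.MatCoeff.exists_matCoeff (k := k) (C := A) (V := A)
    W hWs b
  refine ⟨(Matrix.of c).det, d, isGroupLikeElem_det (Matrix.of c) hΔ hε, hd1, ?_⟩
  -- `π (c j i) = δ t`
  have hli : LinearIndependent k (fun j => ((b j : W) : A)) :=
    b.linearIndependent.map' W.subtype (Submodule.ker_subtype W)
  have hπc : ∀ j i, π (c j i) = if j = i then t else 0 := by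
    intro j i
    rw [← sub_eq_zero, ← Module.forall_dual_apply_eq_zero_iff k]
    intro ψ
    have hbi : ((b i : W) : A) ∈ wt π t := (b i).2.2
    have h1 := hbi ψ
    have h2 : Tr (ψ ∘ₗ πl π) ((b i : W) : A) = ∑ j, ψ (π (c j i)) • ((b j : W) : A) := by
      show slice (ψ ∘ₗ πl π) (Coalgebra.comul (R := k) ((b i : W) : A)) = _
      have : Coalgebra.comul (R := k) ((b i : W) : A) = ∑ j, ((b j : W) : A) ⊗ₜ[k] c j i :=
        hcoact i
      rw [this, map_sum]
      refine Finset.sum_congr rfl fun j _ => ?_
      rw [slice_tmul]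
      rfl
    rw [h2] at h1
    have h3 : ∑ j, (ψ (π (c j i)) - if j = i then ψ t else 0) • ((b j : W) : A) = 0 := by
      simp only [sub_smul, Finset.sum_sub_distrib, h1]
      simp
    have h4 := Fintype.linearIndependent_iff.1 hli _ h3 j
    rw [map_sub]
    split_ifs with hji
    · rw [if_pos hji] at h4
      exact h4
    · rw [if_neg hji] at h4
      rw [map_zero]
      exact h4
  have h5 : π (Matrix.of c).det = (((π : A →ₐ[k] L)).mapMatrix (Matrix.of c)).det :=
    AlgHom.map_det (π : A →ₐ[k] L) _
  have h6 : ((π : A →ₐ[k] L)).mapMatrix (Matrix.of c) = t • (1 : Matrix (Fin d) (Fin d) L) := by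
    ext j i
    simp only [AlgHom.mapMatrix_apply, Matrix.map_apply, Matrix.of_apply, Matrix.smul_apply,
      Matrix.one_apply, smul_eq_mul]
    show π (c j i) = _
    rw [hπc]
    split_ifs <;> simp
  rw [h5, h6, Matrix.det_smul, Matrix.det_one, mul_one, Fintype.card_fin]

end Main

end Groth.Agent.Lib.Helper84.CentralChar
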