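import Mathlib
import Groth.Agent.Lib.Helper84.CentralChar
import Groth.Agent.Lib.Helper84.MuN.UPt
import Groth.Agent.Lib.Helper84.Obs.Setup

/-!
# Characters of an affine group restricting to a power on a central `𝔾_m` (helper84)
-/

set_option autoImplicit false
set_option linter.unusedSectionVars false
universe u
open CategoryTheory MonoidalCategory CartesianMonoidalCategory MonObj GrpObj AlgebraicGeometry Opposite
open CoactBr Limits TensorProduct

namespace Groth.Agent.Lib.Helper84.CentralChar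

open Groth.Agent.Lib.Helper43 Groth.Agent.Lib.Helper62.DSCartier Groth.Agent.Lib.Helper84.Obs
  Groth.Agent.Lib.Helper84.MuN Groth.Agent.H40

section GroupAlg

variable (k : Type u) [Field k]

/-- the coefficient of `T` in a Laurent polynomial. -/
noncomputable def lam1 : kM k ℤ →ₗ[k] k :=
  Finsupp.lapply (Multiplicative.ofAdd (1 : ℤ)) ∘ₗ (MonoidAlgebra.coeffLinearEquiv k).toLinearMap

/-- the coordinate `T`. -/
noncomputable abbrev tt : kM k ℤ := MonoidAlgebra.single (Multiplicative.ofAdd (1 : ℤ)) 1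

theorem convFun_lam1 (ψ : kM k ℤ →ₗ[k] k) : convFun ψ (lam1 k) = ψ (tt k) • lam1 k := by
  apply MonoidAlgebra.lhom_ext'
  intro g
  apply LinearMap.ext
  intro c
  simp only [LinearMap.comp_apply, convFun, MonoidAlgebra.lsingle_apply, LinearMap.smul_apply]
  rw [MonoidAlgebra.comul_single]
  simp [lam1]
  by_cases hg : g = Multiplicative.ofAdd 1
  · left; rw [hg]
  · right; rw [Finsupp.single_apply, if_neg hg]

theorem lam1_tt : lam1 k (tt k) = 1 := by
  simp [lam1, tt]

theorem tt_pow (n : ℕ) : tt k ^ n = MonoidAlgebra.single (Multiplicative.ofAdd (n : ℤ)) 1 := by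
  rw [tt, MonoidAlgebra.single_pow, one_pow, ← ofAdd_nsmul]
  simp

end GroupAlg

section Sch

variable {k : Type u} [Field k]
  (E : Over (Spec (CommRingCat.of k))) [GrpObj E] [IsAffine E.left]
  (i : Red.Gm (Spec (CommRingCat.of k)) ⟶ E) [IsMonHom i] [IsClosedImmersion i.left]

theorem exists_char_pow_of_central
    (hcent : ∀ (T : Over (Spec (CommRingCat.of k))) (t : T ⟶ Red.Gm (Spec (CommRingCat.of k)))
      (g : T ⟶ E), (t ≫ i) * g = g * (t ≫ i)) :
    ∃ (χ : E ⟶ Red.Gm (Spec (CommRingCat.of k))) (n : ℕ), IsMonHom χ ∧ 1 ≤ n ∧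
      ∀ (T : Over (Spec (CommRingCat.of k))) (t : T ⟶ Red.Gm (Spec (CommRingCat.of k))),
        (t ≫ i) ≫ χ = t ^ n := by
  obtain ⟨A, _, _, e, he⟩ := Groth.Agent.Lib.Helper84.AffGrpSch.exists_hopf_iso E
  have := he
  let eL : sp k (kM k ℤ) ≅ Red.Gm (Spec (CommRingCat.of k)) := asIso (uPt k ℤ)
  haveI heL : IsMonHom eL.hom := by
    change IsMonHom (uPt k ℤ); infer_instance
  let f0 : sp k (kM k ℤ) ⟶ sp k A := eL.hom ≫ i ≫ e.inv
  haveI : IsMonHom f0 := inferInstance
  obtain ⟨π, hπ⟩ := Groth.Agent.Lib.Helper84.AffGrpSch.exists_bialgHom_of_isMonHom f0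
  have hyπ : yOf e (π : A →ₐ[k] kM k ℤ) = eL.hom ≫ i := by
    unfold yOf
    rw [hπ]
    simp only [f0, Category.assoc, Iso.inv_hom_id, Category.comp_id]
  -- `π` is surjective
  have hπs : Function.Surjective π := by
    have h1 : IsClosedImmersion f0.left := by
      simp only [f0, Over.comp_left]
      haveI : IsIso eL.hom.left := inferInstanceAs (IsIso ((Over.forget _).map eL.hom))
      haveI : IsIso e.inv.left := inferInstanceAs (IsIso ((Over.forget _).map e.inv))
      infer_instance
    have h2 : f0.left = Spec.map (CommRingCat.ofHom (π : A →ₐ[k] kM k ℤ).toRingHom) := by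
      rw [← hπ]
      rfl
    rw [h2] at h1
    exact @surjective_of_isClosedImmersion_SpecMap' _ _
      (CommRingCat.ofHom (π : A →ₐ[k] kM k ℤ).toRingHom) h1
  -- centrality
  have hc : ∀ y : A, (πl π).rTensor A (Coalgebra.comul (R := k) y) =
      TensorProduct.comm k A (kM k ℤ) ((πl π).lTensor A (Coalgebra.comul (R := k) y)) := by
    let inclL : kM k ℤ →ₐ[k] kM k ℤ ⊗[k] A := Algebra.TensorProduct.includeLeft
    let inclR : A →ₐ[k] kM k ℤ ⊗[k] A := Algebra.TensorProduct.includeRight
    have h0 := hcent (sp k (kM k ℤ ⊗[k] A)) (pt inclL ≫ eL.hom) (yOf e inclR)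
    have h1 : (pt inclL ≫ eL.hom) ≫ i = yOf e (inclL.comp (π : A →ₐ[k] kM k ℤ)) := by
      rw [Category.assoc, ← hyπ, pt_yOf]
    rw [h1, yOf_mul', yOf_mul'] at h0
    have h2 := yOf_injective e h0
    intro y
    have h3 := AlgHom.congr_fun h2 y
    simp only [AlgHom.comp_apply, Bialgebra.comulAlgHom_apply] at h3
    have e1 : ∀ s : A ⊗[k] A, Algebra.TensorProduct.lift (inclL.comp (π : A →ₐ[k] kM k ℤ)) inclR
        (fun _ _ => Commute.all _ _) s = (πl π).rTensor A s := by
      intro s
      induction s using TensorProduct.induction_on with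
      | zero => simp
      | tmul y z => simp [inclL, inclR]
      | add y z hy hz => simp only [map_add, hy, hz]
    have e2 : ∀ s : A ⊗[k] A, Algebra.TensorProduct.lift inclR (inclL.comp (π : A →ₐ[k] kM k ℤ))
        (fun _ _ => Commute.all _ _) s =
        TensorProduct.comm k A (kM k ℤ) ((πl π).lTensor A s) := by
      intro s
      induction s using TensorProduct.induction_on with
      | zero => simp
      | tmul y z => simp [inclL, inclR]
      | add y z hy hz => simp only [map_add, hy, hz]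
    rw [← e1, ← e2]
    exact h3
  obtain ⟨a, ha⟩ := hπs (tt k)
  obtain ⟨χA, n, hχ, hn, hπχ⟩ := exists_groupLike_of_central π hc (tt k) (lam1 k)
    (convFun_lam1 k) (lam1_tt k) a ha
  obtain ⟨c, hcm, hcf⟩ := exists_char e χA hχ
  refine ⟨c, n, hcm, hn, ?_⟩
  -- the restriction of the character to `𝔾_m`
  have key : i.left.appTop (fnOf e χA) =
      (Red.gmFn (𝟙 (Red.Gm (Spec (CommRingCat.of k))))) ^ n := by
    haveI : IsIso eL.hom.left := inferInstanceAs (IsIso ((Over.forget _).map eL.hom))
    haveI : IsIso eL.hom.left.appTop :=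
      inferInstanceAs (IsIso (Scheme.Γ.map eL.hom.left.op))
    have hinj : Function.Injective eL.hom.left.appTop :=
      ((ConcreteCategory.isIso_iff_bijective _).1 inferInstance).1
    have hinj2 : Function.Injective (Scheme.ΓSpecIso (CommRingCat.of (kM k ℤ))).hom :=
      ((ConcreteCategory.isIso_iff_bijective _).1 inferInstance).1
    apply hinj
    apply hinj2
    have h1 : eL.hom.left.appTop (i.left.appTop (fnOf e χA)) =
        (yOf e (π : A →ₐ[k] kM k ℤ)).left.appTop (fnOf e χA) := by
      rw [hyπ, Over.comp_left, Scheme.Hom.comp_appTop]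
      rfl
    have h2 : eL.hom.left.appTop (Red.gmFn (𝟙 (Red.Gm (Spec (CommRingCat.of k))))) =
        gInv k ℤ (tt k) := by
      rw [← gmFn_comp, Category.comp_id]
      exact chr_uPt k ℤ (Multiplicative.ofAdd (1 : ℤ))
    have h3 : (Scheme.ΓSpecIso (CommRingCat.of (kM k ℤ))).hom (gInv k ℤ (tt k)) = tt k := by
      unfold gInv
      exact congrArg (fun m => m.hom (tt k))
        (Scheme.ΓSpecIso (CommRingCat.of (kM k ℤ))).inv_hom_id
    have h4 : (Scheme.ΓSpecIso (CommRingCat.of (kM k ℤ))).hom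
        (eL.hom.left.appTop ((Red.gmFn (𝟙 (Red.Gm (Spec (CommRingCat.of k))))) ^ n)) =
        tt k ^ n := by
      rw [map_pow, h2]
      have h5 : (Scheme.ΓSpecIso (CommRingCat.of (kM k ℤ))).hom (gInv k ℤ (tt k) ^ n) =
          ((Scheme.ΓSpecIso (CommRingCat.of (kM k ℤ))).hom (gInv k ℤ (tt k))) ^ n :=
        map_pow (Scheme.ΓSpecIso (CommRingCat.of (kM k ℤ))).hom.hom (gInv k ℤ (tt k)) n
      exact h5.trans (by rw [h3])
    rw [h1, ev_yOf, valOf_fnOf, h4]
    exact hπχ
  intro T t
  apply gmFn_injective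
  rw [gmFn_comp, gmFn_pow, hcf, Over.comp_left, Scheme.Hom.comp_appTop]
  show t.left.appTop (i.left.appTop (fnOf e χA)) = _
  rw [key, map_pow, ← gmFn_comp, Category.comp_id]

end Sch

end Groth.Agent.Lib.Helper84.CentralChar
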