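import Groth.Prelude.Def_HopfRep
import Mathlib.LinearAlgebra.TensorProduct.Basis
import Mathlib.RingTheory.HopfAlgebra.Basic
import Mathlib.LinearAlgebra.Matrix.Determinant.Basic
import Mathlib.Algebra.Module.Projective
import Mathlib.RingTheory.Finiteness.Cardinality

/-!
# Comodules that are retracts, and matrix corepresentations

* `retractComod`: if `E` is a comodule and `i : E → F`, `p : F → E` satisfy `p ∘ i = id`, then `F`
  carries the comodule structure "`E` plus a trivial complement".
* `exists_matCoeff`: a comodule structure on a finite free module with basis `b` gives a matrix `a`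
  with `ρ(b_i) = Σ_j b_j ⊗ a_ji`, `Δ(a_li) = Σ_j a_lj ⊗ a_ji`, `ε(a_li) = δ_li`.
* `det_unit`: over a commutative Hopf algebra such a matrix has invertible determinant.
-/

set_option linter.unusedSectionVars false
set_option linter.unusedVariables false
set_option linter.style.longLine false

universe u v w

open TensorProduct

namespace Groth.Agent.Lib.Helper84.ProjComod

section Retract

variable {R : Type u} [CommRing R] {A : Type v} [CommRing A] [Bialgebra R A]
  {E : Type w} [AddCommGroup E] [Module R E] [HopfRep.Comod R A E]
  {F : Type w} [AddCommGroup F] [Module R F]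

/-- The coaction on a module `F` of which the comodule `E` is a retract: the coaction of `E`
on the image, the trivial coaction on the complement. -/
noncomputable def retractCoact (i : E →ₗ[R] F) (p : F →ₗ[R] E) : F →ₗ[R] F ⊗[R] A :=
  (i.rTensor A) ∘ₗ (HopfRep.Comod.coact (k := R) (A := A) (V := E)) ∘ₗ p +
    ((TensorProduct.mk R F A).flip 1) ∘ₗ (LinearMap.id - i ∘ₗ p)

theorem retractCoact_apply (i : E →ₗ[R] F) (p : F →ₗ[R] E) (x : F) :
    retractCoact (A := A) i p x = (i.rTensor A) (HopfRep.Comod.coact (k := R) (A := A) (p x)) +
      (x - i (p x)) ⊗ₜ[R] (1 : A) := by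
  simp [retractCoact, TensorProduct.sub_tmul]

theorem retractCoact_i (i : E →ₗ[R] F) (p : F →ₗ[R] E) (hpi : p ∘ₗ i = LinearMap.id) (e : E) :
    retractCoact (A := A) i p (i e) = (i.rTensor A) (HopfRep.Comod.coact (k := R) (A := A) e) := by
  have h : p (i e) = e := LinearMap.congr_fun hpi e
  rw [retractCoact_apply, h]
  simp

theorem retractCoact_compl (i : E →ₗ[R] F) (p : F →ₗ[R] E) (hpi : p ∘ₗ i = LinearMap.id) (x : F) :
    retractCoact (A := A) i p (x - i (p x)) = (x - i (p x)) ⊗ₜ[R] (1 : A) := by
  have h : p (i (p x)) = p x := LinearMap.congr_fun hpi (p x)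
  rw [retractCoact_apply]
  simp [h]

/-- The retract comodule structure. -/
@[reducible] noncomputable def retractComod (i : E →ₗ[R] F) (p : F →ₗ[R] E)
    (hpi : p ∘ₗ i = LinearMap.id) : HopfRep.Comod R A F where
  coact := retractCoact (A := A) i p
  coassoc := by
    apply LinearMap.ext
    intro x
    simp only [LinearMap.comp_apply, LinearEquiv.coe_coe]
    have eA : ∀ z : E ⊗[R] A, (TensorProduct.assoc R F A A)
        (((retractCoact (A := A) i p).rTensor A) ((i.rTensor A) z)) =
        (i.rTensor (A ⊗[R] A)) ((TensorProduct.assoc R E A A)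
          (((HopfRep.Comod.coact (k := R) (A := A) (V := E)).rTensor A) z)) := by
      intro z
      induction z using TensorProduct.induction_on with
      | zero => simp
      | tmul e a =>
        simp only [LinearMap.rTensor_tmul, retractCoact_i i p hpi]
        generalize HopfRep.Comod.coact (k := R) (A := A) e = y
        induction y using TensorProduct.induction_on with
        | zero => simp
        | tmul e' b => simp
        | add x y hx hy => simp only [map_add, TensorProduct.add_tmul, hx, hy]
      | add x y hx hy => simp only [map_add, hx, hy]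
    have eB : ∀ z : E ⊗[R] A, ((CoalgebraStruct.comul (R := R) (A := A)).lTensor F) ((i.rTensor A) z) =
        (i.rTensor (A ⊗[R] A)) (((CoalgebraStruct.comul (R := R) (A := A)).lTensor E) z) := by
      intro z
      induction z using TensorProduct.induction_on with
      | zero => simp
      | tmul e a => simp
      | add x y hx hy => simp only [map_add, hx, hy]
    rw [retractCoact_apply i p x, map_add, map_add, map_add, eA, eB]
    have hE := LinearMap.congr_fun (HopfRep.Comod.coassoc (k := R) (A := A) (V := E)) (p x)
    simp only [LinearMap.comp_apply, LinearEquiv.coe_coe] at hE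
    rw [hE]
    congr 1
    rw [LinearMap.rTensor_tmul, retractCoact_compl i p hpi, LinearMap.lTensor_tmul,
      TensorProduct.assoc_tmul]
    rw [show CoalgebraStruct.comul (R := R) (1 : A) = (1 : A) ⊗ₜ[R] (1 : A) from Bialgebra.comul_one]
  counit_comp := by
    apply LinearMap.ext
    intro x
    simp only [LinearMap.comp_apply, LinearMap.flip_apply, TensorProduct.mk_apply]
    have eB : ∀ z : E ⊗[R] A, ((CoalgebraStruct.counit (R := R) (A := A)).lTensor F) ((i.rTensor A) z) =
        (i.rTensor R) (((CoalgebraStruct.counit (R := R) (A := A)).lTensor E) z) := by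
      intro z
      induction z using TensorProduct.induction_on with
      | zero => simp
      | tmul e a => simp
      | add x y hx hy => simp only [map_add, hx, hy]
    rw [retractCoact_apply i p x, map_add, eB]
    have hE := LinearMap.congr_fun (HopfRep.Comod.counit_comp (k := R) (A := A) (V := E)) (p x)
    simp only [LinearMap.comp_apply, LinearMap.flip_apply, TensorProduct.mk_apply] at hE
    rw [hE, LinearMap.rTensor_tmul, LinearMap.lTensor_tmul]
    rw [show CoalgebraStruct.counit (R := R) (1 : A) = (1 : R) from Bialgebra.counit_one]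
    rw [← TensorProduct.add_tmul]
    congr 1
    abel

end Retract

section MatCoeff

variable {R : Type u} [CommRing R] {C : Type v} [AddCommGroup C] [Module R C] [Coalgebra R C]
  {V : Type w} [AddCommGroup V] [Module R V] [HopfRep.Comod R C V]

/-- Uniqueness of coefficients with respect to a basis, inside `V ⊗ N`. -/
theorem eq_of_sum_basis_tmul_eq {ι : Type*} [Fintype ι] {N : Type*} [AddCommGroup N] [Module R N]
    (b : Module.Basis ι R V) (c d : ι → N)
    (h : ∑ j, (b j) ⊗ₜ[R] c j = ∑ j, (b j) ⊗ₜ[R] d j) : c = d := by
  classical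
  have h3 := congrArg (TensorProduct.equivFinsuppOfBasisLeft b) h
  funext i
  have h4 := DFunLike.congr_fun h3 i
  simpa [map_sum, TensorProduct.equivFinsuppOfBasisLeft_apply_tmul_apply, Finsupp.single_apply]
    using h4

/-- Matrix coefficients of a comodule structure on a finite free module with respect to a basis. -/
theorem exists_matCoeff {ι : Type*} [Fintype ι] [DecidableEq ι] (b : Module.Basis ι R V) :
    ∃ a : ι → ι → C,
      (∀ i, HopfRep.Comod.coact (k := R) (A := C) (b i) = ∑ j, (b j) ⊗ₜ[R] a j i) ∧
      (∀ l i, Coalgebra.comul (R := R) (a l i) = ∑ j, a l j ⊗ₜ[R] a j i) ∧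
      (∀ l i, Coalgebra.counit (R := R) (a l i) = if l = i then 1 else 0) := by
  classical
  have hex : ∀ i, ∃ c : ι → C, HopfRep.Comod.coact (k := R) (A := C) (b i) =
      ∑ j, (b j) ⊗ₜ[R] c j := by
    intro i
    obtain ⟨c, hc⟩ := TensorProduct.eq_repr_basis_left b
      (HopfRep.Comod.coact (k := R) (A := C) (b i))
    refine ⟨fun j => c j, ?_⟩
    rw [← hc, Finsupp.sum_fintype _ _ (by simp)]
  choose a ha using hex
  refine ⟨fun j i => a i j, ha, ?_, ?_⟩
  · intro l i
    have h1 := LinearMap.congr_fun (HopfRep.Comod.coassoc (k := R) (A := C) (V := V)) (b i)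
    simp only [LinearMap.comp_apply, LinearEquiv.coe_coe] at h1
    rw [ha i] at h1
    simp only [map_sum, LinearMap.rTensor_tmul, LinearMap.lTensor_tmul] at h1
    have h2 : ∀ j, (TensorProduct.assoc R V C C)
        ((HopfRep.Comod.coact (k := R) (A := C) (b j)) ⊗ₜ[R] a i j) =
        ∑ l, (b l) ⊗ₜ[R] (a j l ⊗ₜ[R] a i j) := by
      intro j
      rw [ha j, TensorProduct.sum_tmul, map_sum]
      simp
    simp only [h2] at h1
    rw [Finset.sum_comm] at h1
    simp only [← TensorProduct.tmul_sum] at h1
    have h3 := eq_of_sum_basis_tmul_eq b _ _ h1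
    exact (congrFun h3 l).symm
  · intro l i
    have h1 := LinearMap.congr_fun (HopfRep.Comod.counit_comp (k := R) (A := C) (V := V)) (b i)
    simp only [LinearMap.comp_apply, LinearMap.flip_apply, TensorProduct.mk_apply] at h1
    rw [ha i] at h1
    simp only [map_sum, LinearMap.lTensor_tmul] at h1
    have h2 : (b i) ⊗ₜ[R] (1 : R) =
        ∑ j, (b j) ⊗ₜ[R] (if j = i then (1 : R) else 0) := by
      rw [Finset.sum_eq_single i]
      · simp
      · intro j _ hj
        simp [hj]
      · intro hi
        exact absurd (Finset.mem_univ i) hi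
    rw [h2] at h1
    have h3 := eq_of_sum_basis_tmul_eq b _ _ h1
    exact congrFun h3 l

end MatCoeff

section Det

variable {R : Type u} [CommRing R] {A : Type v} [CommRing A] [HopfAlgebra R A]

/-- A matrix corepresentation over a commutative Hopf algebra is invertible, with inverse the
antipode applied entrywise; in particular its determinant is a unit. -/
theorem det_unit {n : ℕ} (a : Matrix (Fin n) (Fin n) A)
    (hΔ : ∀ i j, CoalgebraStruct.comul (R := R) (a i j) = ∑ l, a i l ⊗ₜ[R] a l j)
    (hε : ∀ i j, CoalgebraStruct.counit (R := R) (a i j) = if i = j then 1 else 0) :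
    (a.map (HopfAlgebra.antipode R (A := A))).det * a.det = 1 := by
  rw [← Matrix.det_mul]
  have : a.map (HopfAlgebra.antipode R (A := A)) * a = 1 := by
    ext i j
    rw [Matrix.mul_apply]
    have h := HopfAlgebra.mul_antipode_rTensor_comul_apply (R := R) (a i j)
    rw [hΔ i j, map_sum, map_sum] at h
    simp only [LinearMap.rTensor_tmul, LinearMap.mul'_apply] at h
    simp only [Matrix.map_apply]
    rw [h, hε i j, Matrix.one_apply]
    split_ifs <;> simp
  rw [this, Matrix.det_one]

end Det

end Groth.Agent.Lib.Helper84.ProjComod
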