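import Groth.Prelude.Def_HopfRep
import Mathlib.LinearAlgebra.Contraction
import Mathlib.RingTheory.Flat.EquationalCriterion
import Mathlib.RingTheory.Flat.Basic
import Mathlib.Algebra.Module.FinitePresentation

/-!
# Transposed coactions on duals (flat coalgebra, finitely presented module)

For `M` flat and `V` finitely presented, `dualTensorHom R V M : V^* ⊗ M → Hom(V, M)` is bijective
(`dth_injective` needs only `V` finite).  A coaction `ρ : V → V ⊗ C` therefore has a transpose
`transp ρ : V^* → V^* ⊗ C`, which is a coaction for the co-opposite comultiplication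
(`IsCoact.transp`).  Transposing twice gives a coaction of `C` on the double dual, whose
coefficients contain those of `ρ` (`pair2_eval_transp_transp`).
-/

set_option linter.unusedSectionVars false
set_option linter.unusedVariables false
set_option linter.style.longLine false

universe u v w

open TensorProduct

namespace Groth.Agent.Lib.Helper84.TranspComod

section DTH

variable {R : Type u} [CommRing R] {V : Type v} [AddCommGroup V] [Module R V]
  {V' : Type*} [AddCommGroup V'] [Module R V']
  {M : Type w} [AddCommGroup M] [Module R M] {M' : Type*} [AddCommGroup M'] [Module R M']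

theorem dth_natural (π : V' →ₗ[R] V) (z : Module.Dual R V ⊗[R] M) (x : V') :
    dualTensorHom R V' M (((Module.Dual.transpose (R := R) π).rTensor M) z) x =
      dualTensorHom R V M z (π x) := by
  induction z using TensorProduct.induction_on with
  | zero => simp
  | tmul f m => simp [Module.Dual.transpose_apply]
  | add a b ha hb => simp only [map_add, LinearMap.add_apply, ha, hb]

theorem dth_lTensor (g : M →ₗ[R] M') (z : Module.Dual R V ⊗[R] M) (x : V) :
    dualTensorHom R V M' ((g.lTensor _) z) x = g (dualTensorHom R V M z x) := by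
  induction z using TensorProduct.induction_on with
  | zero => simp
  | tmul f m => simp
  | add a b ha hb => simp only [map_add, LinearMap.add_apply, ha, hb]

theorem dth_injective [Module.Finite R V] [Module.Flat R M] :
    Function.Injective (dualTensorHom R V M) := by
  classical
  obtain ⟨n, π, hπ⟩ := Module.Finite.exists_fin' R V
  have hinj : Function.Injective (Module.Dual.transpose (R := R) π) := by
    intro a b hab
    ext x
    obtain ⟨y, rfl⟩ := hπ x
    exact LinearMap.congr_fun hab y
  have hinj2 : Function.Injective ((Module.Dual.transpose (R := R) π).rTensor M) :=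
    Module.Flat.rTensor_preserves_injective_linearMap _ hinj
  have hfree : Function.Injective (dualTensorHom R (Fin n → R) M) := by
    have := (dualTensorHomEquivOfBasis (N := M) (Pi.basisFun R (Fin n))).injective
    intro a b hab
    exact this hab
  rw [injective_iff_map_eq_zero]
  intro z hz
  apply (injective_iff_map_eq_zero _).mp hinj2
  apply (injective_iff_map_eq_zero _).mp hfree
  apply LinearMap.ext
  intro x
  rw [dth_natural, hz]
  simp

theorem dth_surjective [Module.FinitePresentation R V] [Module.Flat R M] :
    Function.Surjective (dualTensorHom R V M) := by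
  classical
  intro h
  obtain ⟨k, h₂, h₃, hh⟩ := Module.Flat.exists_factorization_of_finitePresentation h
  refine ⟨∑ i : Fin k, ((Finsupp.lapply i : (Fin k →₀ R) →ₗ[R] R) ∘ₗ h₂) ⊗ₜ[R]
    h₃ (Finsupp.single i 1), ?_⟩
  ext x
  rw [map_sum, LinearMap.sum_apply]
  simp only [dualTensorHom_apply, LinearMap.comp_apply, Finsupp.lapply_apply]
  rw [hh, LinearMap.comp_apply]
  conv_rhs => rw [← Finsupp.univ_sum_single (h₂ x)]
  rw [map_sum]
  refine Finset.sum_congr rfl fun i _ => ?_
  rw [← map_smul, Finsupp.smul_single, smul_eq_mul, mul_one]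

theorem dth_bijective [Module.FinitePresentation R V] [Module.Flat R M] :
    Function.Bijective (dualTensorHom R V M) :=
  ⟨dth_injective, dth_surjective⟩

end DTH

section Pair

variable {R : Type u} [CommRing R] {V : Type v} [AddCommGroup V] [Module R V]
  {M : Type w} [AddCommGroup M] [Module R M] {M' : Type*} [AddCommGroup M'] [Module R M']

/-- The pairing `V^* × (V ⊗ M) → M`. -/
noncomputable def pair2 (M : Type*) [AddCommGroup M] [Module R M] (f : Module.Dual R V) :
    V ⊗[R] M →ₗ[R] M :=
  (TensorProduct.lid R M).toLinearMap ∘ₗ f.rTensor M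

@[simp] theorem pair2_tmul (f : Module.Dual R V) (x : V) (m : M) :
    pair2 M f (x ⊗ₜ[R] m) = f x • m := by
  simp [pair2]

theorem pair2_add (f g : Module.Dual R V) (y : V ⊗[R] M) :
    pair2 M (f + g) y = pair2 M f y + pair2 M g y := by
  induction y using TensorProduct.induction_on with
  | zero => simp
  | tmul x m => simp [add_smul]
  | add a b ha hb => simp only [map_add, ha, hb]; abel

theorem pair2_smul (r : R) (f : Module.Dual R V) (y : V ⊗[R] M) :
    pair2 M (r • f) y = r • pair2 M f y := by
  induction y using TensorProduct.induction_on with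
  | zero => simp
  | tmul x m => simp [mul_smul]
  | add a b ha hb => simp only [map_add, ha, hb, smul_add]

theorem pair2_lTensor (g : M →ₗ[R] M') (f : Module.Dual R V) (y : V ⊗[R] M) :
    pair2 M' f ((g.lTensor V) y) = g (pair2 M f y) := by
  induction y using TensorProduct.induction_on with
  | zero => simp
  | tmul x m => simp
  | add a b ha hb => simp only [map_add, ha, hb]

/-- `pair2 (eval w) z = dualTensorHom z w` on the double dual. -/
theorem pair2_eval (w : V) (z : Module.Dual R V ⊗[R] M) :
    pair2 M (Module.Dual.eval R V w) z = dualTensorHom R V M z w := by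
  induction z using TensorProduct.induction_on with
  | zero => simp
  | tmul f m => simp
  | add a b ha hb => simp only [map_add, LinearMap.add_apply, ha, hb]

end Pair

section Transp

variable {R : Type u} [CommRing R] {V : Type v} [AddCommGroup V] [Module R V]
  {C : Type w} [AddCommGroup C] [Module R C]

/-- `w ↦ (v ↦ ⟨w, ρ v⟩)`. -/
noncomputable def Phi (ρ : V →ₗ[R] V ⊗[R] C) : Module.Dual R V →ₗ[R] (V →ₗ[R] C) where
  toFun f := pair2 C f ∘ₗ ρ
  map_add' f g := by
    apply LinearMap.ext
    intro x
    simp [pair2_add]
  map_smul' r f := by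
    apply LinearMap.ext
    intro x
    simp [pair2_smul]

@[simp] theorem Phi_apply (ρ : V →ₗ[R] V ⊗[R] C) (f : Module.Dual R V) (x : V) :
    Phi ρ f x = pair2 C f (ρ x) := rfl

/-- The transposed coaction `V^* → V^* ⊗ C`. -/
noncomputable def transp (hb : Function.Bijective (dualTensorHom R V C))
    (ρ : V →ₗ[R] V ⊗[R] C) : Module.Dual R V →ₗ[R] Module.Dual R V ⊗[R] C :=
  (LinearEquiv.ofBijective (dualTensorHom R V C) hb).symm.toLinearMap ∘ₗ Phi ρ

theorem dth_transp (hb : Function.Bijective (dualTensorHom R V C))
    (ρ : V →ₗ[R] V ⊗[R] C) (f : Module.Dual R V) :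
    dualTensorHom R V C (transp hb ρ f) = Phi ρ f := by
  unfold transp
  rw [LinearMap.comp_apply, LinearEquiv.coe_coe]
  exact (LinearEquiv.ofBijective (dualTensorHom R V C) hb).apply_symm_apply (Phi ρ f)

theorem dth_transp_apply (hb : Function.Bijective (dualTensorHom R V C))
    (ρ : V →ₗ[R] V ⊗[R] C) (f : Module.Dual R V) (x : V) :
    dualTensorHom R V C (transp hb ρ f) x = pair2 C f (ρ x) := by
  rw [dth_transp]
  rfl

/-- An unbundled right coaction with respect to linear maps `Δ`, `ε`. -/
structure IsCoact (Δ : C →ₗ[R] C ⊗[R] C) (ε : C →ₗ[R] R) (ρ : V →ₗ[R] V ⊗[R] C) : Prop where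
  coassoc : ∀ x, (TensorProduct.assoc R V C C) ((ρ.rTensor C) (ρ x)) = (Δ.lTensor V) (ρ x)
  counit : ∀ x, (ε.lTensor V) (ρ x) = x ⊗ₜ[R] (1 : R)

theorem aux_L0 (u : Module.Dual R V ⊗[R] C) (c : C) (x : V) :
    dualTensorHom R V (C ⊗[R] C) ((TensorProduct.assoc R (Module.Dual R V) C C) (u ⊗ₜ[R] c)) x =
      (dualTensorHom R V C u x) ⊗ₜ[R] c := by
  induction u using TensorProduct.induction_on with
  | zero => simp
  | tmul f c' => simp [TensorProduct.smul_tmul']
  | add a b ha hb =>
    simp only [TensorProduct.add_tmul, map_add, LinearMap.add_apply, ha, hb]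

theorem aux_R1 (f : Module.Dual R V) (c : C) (y : V ⊗[R] C) :
    (TensorProduct.comm R C C) (((dualTensorHom R V C (f ⊗ₜ[R] c)).rTensor C) y) =
      (pair2 C f y) ⊗ₜ[R] c := by
  induction y using TensorProduct.induction_on with
  | zero => simp
  | tmul x a => simp [TensorProduct.smul_tmul', TensorProduct.tmul_smul]
  | add a b ha hb => simp only [map_add, ha, hb, TensorProduct.add_tmul]

theorem aux_L1 (hb : Function.Bijective (dualTensorHom R V C)) (ρ : V →ₗ[R] V ⊗[R] C)
    (z : Module.Dual R V ⊗[R] C) (x : V) :
    dualTensorHom R V (C ⊗[R] C) ((TensorProduct.assoc R (Module.Dual R V) C C)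
        (((transp hb ρ).rTensor C) z)) x =
      (TensorProduct.comm R C C) (((dualTensorHom R V C z).rTensor C) (ρ x)) := by
  induction z using TensorProduct.induction_on with
  | zero => simp
  | tmul f c =>
    rw [LinearMap.rTensor_tmul, aux_L0, dth_transp_apply, aux_R1]
  | add a b ha hb' =>
    simp only [map_add, LinearMap.add_apply, ha, hb', LinearMap.rTensor_add]

theorem aux_L2 (f : Module.Dual R V) (t : (V ⊗[R] C) ⊗[R] C) :
    ((pair2 C f).rTensor C) t = pair2 (C ⊗[R] C) f ((TensorProduct.assoc R V C C) t) := by
  induction t using TensorProduct.induction_on with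
  | zero => simp
  | tmul y b =>
    induction y using TensorProduct.induction_on with
    | zero => simp
    | tmul x a => simp [TensorProduct.smul_tmul']
    | add a' b' ha hb => simp only [TensorProduct.add_tmul, map_add, ha, hb]
  | add a b ha hb => simp only [map_add, ha, hb]

/-- The transpose of a coaction is a coaction for the co-opposite comultiplication. -/
theorem IsCoact.transp {Δ : C →ₗ[R] C ⊗[R] C} {ε : C →ₗ[R] R} {ρ : V →ₗ[R] V ⊗[R] C}
    (h : IsCoact Δ ε ρ) (hb : Function.Bijective (dualTensorHom R V C))
    (hi2 : Function.Injective (dualTensorHom R V (C ⊗[R] C)))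
    (hi0 : Function.Injective (dualTensorHom R V R)) :
    IsCoact ((TensorProduct.comm R C C).toLinearMap ∘ₗ Δ) ε (TranspComod.transp hb ρ) := by
  constructor
  · intro f
    apply hi2
    apply LinearMap.ext
    intro x
    rw [aux_L1, dth_transp, dth_lTensor, dth_transp_apply]
    have e1 : ((Phi ρ f).rTensor C) (ρ x) = ((pair2 C f).rTensor C) ((ρ.rTensor C) (ρ x)) := by
      have : Phi ρ f = pair2 C f ∘ₗ ρ := rfl
      rw [this, LinearMap.rTensor_comp, LinearMap.comp_apply]
    rw [e1, aux_L2, h.coassoc, pair2_lTensor]
    rfl
  · intro f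
    apply hi0
    apply LinearMap.ext
    intro x
    rw [dth_lTensor, dth_transp_apply, ← pair2_lTensor, h.counit]
    simp

end Transp

section Double

variable {R : Type u} [CommRing R] {V : Type v} [AddCommGroup V] [Module R V]
  {C : Type w} [AddCommGroup C] [Module R C]

/-- The coefficients of the doubly transposed coaction contain those of `ρ`. -/
theorem pair2_eval_transp_transp (hb : Function.Bijective (dualTensorHom R V C))
    (hb' : Function.Bijective (dualTensorHom R (Module.Dual R V) C))
    (ρ : V →ₗ[R] V ⊗[R] C) (f : Module.Dual R V) (x : V) :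
    pair2 C (Module.Dual.eval R (Module.Dual R V) f)
        (transp hb' (transp hb ρ) (Module.Dual.eval R V x)) = pair2 C f (ρ x) := by
  rw [pair2_eval, dth_transp_apply, pair2_eval, dth_transp_apply]

theorem comm_comm_comp (Δ : C →ₗ[R] C ⊗[R] C) :
    (TensorProduct.comm R C C).toLinearMap ∘ₗ ((TensorProduct.comm R C C).toLinearMap ∘ₗ Δ) = Δ := by
  apply LinearMap.ext
  intro c
  simp

end Double

end Groth.Agent.Lib.Helper84.TranspComod
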