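import Groth.Agent.Lib.Helper84.ProjComod
import Groth.Agent.Lib.Helper84.TranspComod
import Mathlib.RingTheory.Noetherian.Basic

/-!
# Matrix corepresentations from finite projective comodules

* `IsCoact.of_comod`, `comodOfIsCoact`: bundled/unbundled coactions.
* `exists_matrix_of_projective`: a finite projective comodule `P` over a commutative Hopf algebra
  gives a matrix corepresentation whose entries span (over `R`) all coefficients
  `(λ ⊗ id)(ρ p)` of `P`.
* `finite_dual`: the dual of a finite module over a Noetherian ring is finite.
-/

set_option linter.unusedSectionVars false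
set_option linter.unusedVariables false
set_option linter.style.longLine false

universe u v w

open TensorProduct

namespace Groth.Agent.Lib.Helper84.CoeffMat

open Groth.Agent.Lib.Helper84.TranspComod

section Bundle

variable {R : Type u} [CommRing R] {C : Type v} [AddCommGroup C] [Module R C] [Coalgebra R C]
  {V : Type w} [AddCommGroup V] [Module R V]

theorem isCoact_of_comod [inst : HopfRep.Comod R C V] :
    IsCoact (CoalgebraStruct.comul (R := R) (A := C)) (CoalgebraStruct.counit (R := R) (A := C))
      (HopfRep.Comod.coact (k := R) (A := C) (V := V)) := by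
  constructor
  · intro x
    have := LinearMap.congr_fun (HopfRep.Comod.coassoc (k := R) (A := C) (V := V)) x
    simpa only [LinearMap.comp_apply, LinearEquiv.coe_coe] using this
  · intro x
    have := LinearMap.congr_fun (HopfRep.Comod.counit_comp (k := R) (A := C) (V := V)) x
    simpa only [LinearMap.comp_apply, LinearMap.flip_apply, TensorProduct.mk_apply] using this

/-- Bundle an unbundled coaction. -/
@[reducible] noncomputable def comodOfIsCoact (ρ : V →ₗ[R] V ⊗[R] C)
    (h : IsCoact (CoalgebraStruct.comul (R := R) (A := C))
      (CoalgebraStruct.counit (R := R) (A := C)) ρ) : HopfRep.Comod R C V where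
  coact := ρ
  coassoc := by
    apply LinearMap.ext
    intro x
    simpa only [LinearMap.comp_apply, LinearEquiv.coe_coe] using h.coassoc x
  counit_comp := by
    apply LinearMap.ext
    intro x
    simpa only [LinearMap.comp_apply, LinearMap.flip_apply, TensorProduct.mk_apply]
      using h.counit x

end Bundle

section Mat

variable {R : Type u} [CommRing R] {A : Type v} [CommRing A] [HopfAlgebra R A]
  {P : Type u} [AddCommGroup P] [Module R P] [HopfRep.Comod R A P]

/-- A finite projective comodule gives a matrix corepresentation whose entries span all the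
coefficients of the comodule. -/
theorem exists_matrix_of_projective [Module.Finite R P] [Module.Projective R P] :
    ∃ (d : ℕ) (a : Matrix (Fin d) (Fin d) A),
      (∀ i j, CoalgebraStruct.comul (R := R) (a i j) = ∑ l, a i l ⊗ₜ[R] a l j) ∧
      (∀ i j, CoalgebraStruct.counit (R := R) (a i j) = if i = j then 1 else 0) ∧
      (a.map (HopfAlgebra.antipode R (A := A))).det * a.det = 1 ∧
      ∀ (f : Module.Dual R P) (x : P),
        pair2 A f (HopfRep.Comod.coact (k := R) (A := A) x) ∈
          Submodule.span R (Set.range (fun q : Fin d × Fin d => a q.1 q.2)) := by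
  classical
  obtain ⟨d, p, hp⟩ := Module.Finite.exists_fin' R P
  obtain ⟨i, hi⟩ := Module.projective_lifting_property p LinearMap.id hp
  letI instF : HopfRep.Comod R A (Fin d → R) := ProjComod.retractComod i p hi
  obtain ⟨a, ha, hΔ, hε⟩ := ProjComod.exists_matCoeff (C := A) (Pi.basisFun R (Fin d))
  refine ⟨d, Matrix.of a, hΔ, hε, ProjComod.det_unit (R := R) (Matrix.of a) hΔ hε, ?_⟩
  intro f x
  set S := Submodule.span R (Set.range (fun q : Fin d × Fin d => (Matrix.of a) q.1 q.2)) with hS
  have haS : ∀ j l, a j l ∈ S := fun j l => Submodule.subset_span ⟨(j, l), rfl⟩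
  set T : (Fin d → R) →ₗ[R] A := pair2 A (f ∘ₗ p) ∘ₗ
    (HopfRep.Comod.coact (k := R) (A := A) (V := Fin d → R)) with hT
  have hTb : ∀ l, T (Pi.basisFun R (Fin d) l) ∈ S := by
    intro l
    rw [hT, LinearMap.comp_apply, ha l, map_sum]
    refine Submodule.sum_mem _ fun j _ => ?_
    rw [pair2_tmul]
    exact Submodule.smul_mem _ _ (haS j l)
  have hTx : ∀ y : Fin d → R, T y ∈ S := by
    intro y
    rw [← (Pi.basisFun R (Fin d)).sum_repr y, map_sum]
    refine Submodule.sum_mem _ fun l _ => ?_
    rw [map_smul]
    exact Submodule.smul_mem _ _ (hTb l)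
  have h1 : T (i x) = pair2 A f (HopfRep.Comod.coact (k := R) (A := A) x) := by
    rw [hT, LinearMap.comp_apply]
    have h2 : HopfRep.Comod.coact (k := R) (A := A) (V := Fin d → R) (i x) =
        (i.rTensor A) (HopfRep.Comod.coact (k := R) (A := A) x) :=
      ProjComod.retractCoact_i i p hi x
    rw [h2]
    generalize HopfRep.Comod.coact (k := R) (A := A) x = z
    induction z using TensorProduct.induction_on with
    | zero => simp
    | tmul e b =>
      have : p (i e) = e := LinearMap.congr_fun hi e
      simp [this]
    | add x y hx hy => simp only [map_add, hx, hy]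
  rw [← h1]
  exact hTx _

end Mat

section Dual

theorem finite_dual (R : Type u) [CommRing R] [IsNoetherianRing R] (W : Type v) [AddCommGroup W]
    [Module R W] [Module.Finite R W] : Module.Finite R (Module.Dual R W) := by
  obtain ⟨n, π, hπ⟩ := Module.Finite.exists_fin' R W
  have hinj : Function.Injective (LinearMap.lcomp R R π) := by
    intro a b hab
    ext x
    obtain ⟨y, rfl⟩ := hπ x
    exact LinearMap.congr_fun hab y
  exact Module.Finite.of_injective (LinearMap.lcomp R R π) hinj

end Dual

end Groth.Agent.Lib.Helper84.CoeffMat
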