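import Groth.Prelude.Def_HopfRep
import Mathlib.RingTheory.Flat.Basic
import Mathlib.RingTheory.Noetherian.Basic
import Mathlib.RingTheory.Coalgebra.Basic
import Mathlib.LinearAlgebra.TensorProduct.RightExactness
import Groth.Agent.Lib.Helper84.SerreSub

/-!
# Serre's finitely generated subcomodules of an arbitrary comodule (flat coalgebra)

Version of `SerreSub` for an arbitrary right comodule `M` over a flat coalgebra `C`:
`core N = {x | ρ x ∈ N ⊗ C}` is the largest subcomodule of `M` contained in `N`.
-/

set_option linter.unusedSectionVars false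
set_option linter.unusedVariables false
set_option linter.style.longLine false

universe u v w

open TensorProduct

namespace Groth.Agent.Lib.Helper84.SerreSubM

section Core

variable {R : Type u} [CommRing R] {C : Type v} [AddCommGroup C] [Module R C] [Coalgebra R C]
  {M : Type w} [AddCommGroup M] [Module R M] [HopfRep.Comod R C M]

/-- The largest subcomodule of `M` contained in `N`. -/
def core (N : Submodule R M) : Submodule R M :=
  Submodule.comap (HopfRep.Comod.coact (k := R) (A := C) (V := M))
    (LinearMap.range (N.subtype.rTensor C))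

theorem mem_core {N : Submodule R M} {x : M} :
    x ∈ core (C := C) N ↔ HopfRep.Comod.coact (k := R) (A := C) x ∈
      LinearMap.range (N.subtype.rTensor C) := Iff.rfl

theorem rid_rTensor_subtype (N : Submodule R M) (w : N ⊗[R] R) :
    TensorProduct.rid R M ((N.subtype.rTensor R) w) = ((TensorProduct.rid R N w : N) : M) := by
  induction w using TensorProduct.induction_on with
  | zero => simp
  | tmul n r => simp
  | add x y hx hy => simp only [map_add, hx, hy, Submodule.coe_add]

theorem core_le (N : Submodule R M) : core (C := C) N ≤ N := by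
  intro x hx
  obtain ⟨z, hz⟩ := hx
  have h1 : (Coalgebra.counit (R := R) (A := C)).lTensor M
      (HopfRep.Comod.coact (k := R) (A := C) x) = x ⊗ₜ[R] (1 : R) := by
    have := LinearMap.congr_fun (HopfRep.Comod.counit_comp (k := R) (A := C) (V := M)) x
    simpa only [LinearMap.comp_apply, LinearMap.flip_apply, TensorProduct.mk_apply] using this
  have h2 : ∀ z : N ⊗[R] C, (Coalgebra.counit (R := R) (A := C)).lTensor M ((N.subtype.rTensor C) z) =
      (N.subtype.rTensor R) ((Coalgebra.counit (R := R) (A := C)).lTensor N z) := by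
    intro z
    induction z using TensorProduct.induction_on with
    | zero => simp
    | tmul n a => simp
    | add x y hx hy => simp only [map_add, hx, hy]
  rw [← hz, h2] at h1
  have h3 := congrArg (TensorProduct.rid R M) h1
  rw [rid_rTensor_subtype] at h3
  simp only [TensorProduct.rid_tmul, one_smul] at h3
  rw [← h3]
  exact Submodule.coe_mem _

theorem core_eq_ker (N : Submodule R M) :
    core (C := C) N = LinearMap.ker ((N.mkQ.rTensor C) ∘ₗ
      (HopfRep.Comod.coact (k := R) (A := C) (V := M))) := by
  ext x
  rw [mem_core, LinearMap.mem_ker, LinearMap.comp_apply, ← LinearMap.mem_ker, rTensor_mkQ]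

theorem aux_vanish (N : Submodule R M) (w : N ⊗[R] (C ⊗[R] C)) :
    ((N.mkQ.rTensor C).rTensor C) ((TensorProduct.assoc R M C C).symm
      ((N.subtype.rTensor (C ⊗[R] C)) w)) = 0 := by
  induction w using TensorProduct.induction_on with
  | zero => simp
  | tmul n t =>
    induction t using TensorProduct.induction_on with
    | zero => simp
    | tmul a b => simp [(Submodule.Quotient.mk_eq_zero N).mpr n.2]
    | add x y hx hy => simp only [TensorProduct.tmul_add, map_add, hx, hy, add_zero]
  | add x y hx hy => simp only [map_add, hx, hy, add_zero]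

/-- Serre: for `C` flat, `core N` is a subcomodule. -/
theorem coact_mem_core [Module.Flat R C] (N : Submodule R M) {x : M} (hx : x ∈ core (C := C) N) :
    HopfRep.Comod.coact (k := R) (A := C) x ∈
      LinearMap.range ((core (C := C) N).subtype.rTensor C) := by
  set ψ : M →ₗ[R] (M ⧸ N) ⊗[R] C := (N.mkQ.rTensor C) ∘ₗ
    (HopfRep.Comod.coact (k := R) (A := C) (V := M)) with hψ
  have hex : Function.Exact (core (C := C) N).subtype ψ := by
    rw [LinearMap.exact_iff, Submodule.range_subtype, core_eq_ker]
  have hex2 := Module.Flat.rTensor_exact C hex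
  refine (hex2 _).mp ?_
  obtain ⟨z, hz⟩ := hx
  have h1 : (ψ.rTensor C) (HopfRep.Comod.coact (k := R) (A := C) x) =
      ((N.mkQ.rTensor C).rTensor C) (((HopfRep.Comod.coact (k := R) (A := C) (V := M)).rTensor C)
        (HopfRep.Comod.coact (k := R) (A := C) x)) := by
    rw [hψ, LinearMap.rTensor_comp, LinearMap.comp_apply]
  have h2 : ∀ z : N ⊗[R] C, (Coalgebra.comul (R := R) (A := C)).lTensor M ((N.subtype.rTensor C) z) =
      (N.subtype.rTensor (C ⊗[R] C)) ((Coalgebra.comul (R := R) (A := C)).lTensor N z) := by
    intro z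
    induction z using TensorProduct.induction_on with
    | zero => simp
    | tmul n a => simp
    | add x y hx hy => simp only [map_add, hx, hy]
  have h3 : ((HopfRep.Comod.coact (k := R) (A := C) (V := M)).rTensor C)
      (HopfRep.Comod.coact (k := R) (A := C) x) =
      (TensorProduct.assoc R M C C).symm ((Coalgebra.comul (R := R) (A := C)).lTensor M
        (HopfRep.Comod.coact (k := R) (A := C) x)) := by
    have := LinearMap.congr_fun (HopfRep.Comod.coassoc (k := R) (A := C) (V := M)) x
    simp only [LinearMap.comp_apply, LinearEquiv.coe_coe] at this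
    rw [← this, LinearEquiv.symm_apply_apply]
  rw [h1, h3, ← hz, h2]
  exact aux_vanish N _

theorem fg_core [IsNoetherianRing R] {N : Submodule R M} (hN : N.FG) : (core (C := C) N).FG := by
  have : IsNoetherian R N := isNoetherian_of_fg_of_noetherian N hN
  have h1 : (Submodule.comap N.subtype (core (C := C) N)).FG := IsNoetherian.noetherian _
  have h2 := Submodule.FG.map N.subtype h1
  rwa [Submodule.map_comap_subtype, inf_eq_right.mpr (core_le N)] at h2

theorem core_mono {N₁ N₂ : Submodule R M} (h : N₁ ≤ N₂) : core (C := C) N₁ ≤ core (C := C) N₂ := by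
  intro x hx
  obtain ⟨z, hz⟩ := hx
  refine ⟨((Submodule.inclusion h).rTensor C) z, ?_⟩
  rw [← hz, ← LinearMap.comp_apply, ← LinearMap.rTensor_comp]
  rfl

/-- Every finite subset of a subcomodule `E` lies in `core N` for some finitely generated
`N ≤ E`. -/
theorem exists_fg_core_le (E : Submodule R M)
    (hE : ∀ x ∈ E, HopfRep.Comod.coact (k := R) (A := C) x ∈ LinearMap.range (E.subtype.rTensor C))
    (X : Finset M) (hX : (↑X : Set M) ⊆ E) :
    ∃ N : Submodule R M, N ≤ E ∧ N.FG ∧ (↑X : Set M) ⊆ core (C := C) N := by
  classical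
  have key : ∀ t : E ⊗[R] C, ∃ N' : Submodule R M, N' ≤ E ∧ N'.FG ∧
      ∃ z : N' ⊗[R] C, (N'.subtype.rTensor C) z = (E.subtype.rTensor C) t := by
    intro t
    induction t using TensorProduct.induction_on with
    | zero => exact ⟨⊥, bot_le, Submodule.fg_bot, 0, by simp⟩
    | tmul x y =>
      refine ⟨Submodule.span R {(x : M)}, ?_, Submodule.fg_span_singleton _,
        (⟨(x : M), Submodule.mem_span_singleton_self _⟩ : Submodule.span R {(x : M)}) ⊗ₜ[R] y,
        by simp⟩
      rw [Submodule.span_le]
      intro y hy
      rw [Set.mem_singleton_iff.mp hy]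
      exact x.2
    | add t₁ t₂ h₁ h₂ =>
      obtain ⟨N₁, hN₁E, hN₁, z₁, hz₁⟩ := h₁
      obtain ⟨N₂, hN₂E, hN₂, z₂, hz₂⟩ := h₂
      refine ⟨N₁ ⊔ N₂, sup_le hN₁E hN₂E, hN₁.sup hN₂,
        ((Submodule.inclusion (le_sup_left : N₁ ≤ N₁ ⊔ N₂)).rTensor C) z₁ +
        ((Submodule.inclusion (le_sup_right : N₂ ≤ N₁ ⊔ N₂)).rTensor C) z₂, ?_⟩
      rw [map_add, map_add, ← hz₁, ← hz₂, ← LinearMap.comp_apply, ← LinearMap.comp_apply,
        ← LinearMap.rTensor_comp, ← LinearMap.rTensor_comp]
      rfl
  induction X using Finset.induction_on with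
  | empty => exact ⟨⊥, bot_le, Submodule.fg_bot, by simp⟩
  | insert a s _ ih =>
    have hs : (↑s : Set M) ⊆ E := fun x hx => hX (by simp [hx])
    have ha : a ∈ E := hX (by simp)
    obtain ⟨N, hNE, hN, hsN⟩ := ih hs
    obtain ⟨t, ht⟩ := hE a ha
    obtain ⟨N', hN'E, hN', z, hz⟩ := key t
    refine ⟨N ⊔ N', sup_le hNE hN'E, hN.sup hN', ?_⟩
    intro x hx
    rw [Finset.coe_insert] at hx
    rcases hx with rfl | hx
    · exact core_mono le_sup_right ⟨z, hz.trans ht⟩
    · exact core_mono le_sup_left (hsN hx)

end Core

section CoreComod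

variable {R : Type u} [CommRing R] {C : Type v} [AddCommGroup C] [Module R C] [Coalgebra R C]
  [Module.Flat R C] {M : Type w} [AddCommGroup M] [Module R M] [HopfRep.Comod R C M]

omit [Coalgebra R C] [Module.Flat R C] [HopfRep.Comod R C M] in
theorem rTensor_subtype_injective (N : Submodule R M) (Q : Type*) [AddCommGroup Q] [Module R Q]
    [Module.Flat R Q] : Function.Injective (N.subtype.rTensor Q) :=
  Module.Flat.rTensor_preserves_injective_linearMap _ N.injective_subtype

/-- The coaction on `core N`. -/
noncomputable def coreCoact (N : Submodule R M) : core (C := C) N →ₗ[R] (core (C := C) N) ⊗[R] C :=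
  (LinearEquiv.ofInjective ((core (C := C) N).subtype.rTensor C)
      (rTensor_subtype_injective (core (C := C) N) C)).symm.toLinearMap ∘ₗ
    LinearMap.codRestrict (LinearMap.range ((core (C := C) N).subtype.rTensor C))
      ((HopfRep.Comod.coact (k := R) (A := C) (V := M)) ∘ₗ (core (C := C) N).subtype)
      (fun x => coact_mem_core N x.2)

theorem rTensor_coreCoact (N : Submodule R M) (x : core (C := C) N) :
    ((core (C := C) N).subtype.rTensor C) (coreCoact N x) =
      HopfRep.Comod.coact (k := R) (A := C) (x : M) := by
  unfold coreCoact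
  simp only [LinearMap.comp_apply, LinearEquiv.coe_coe]
  set y := (LinearMap.codRestrict (LinearMap.range ((core (C := C) N).subtype.rTensor C))
      ((HopfRep.Comod.coact (k := R) (A := C) (V := M)) ∘ₗ (core (C := C) N).subtype)
      (fun x => coact_mem_core N x.2)) x with hy
  have := LinearEquiv.apply_symm_apply (LinearEquiv.ofInjective
      ((core (C := C) N).subtype.rTensor C)
      (rTensor_subtype_injective (core (C := C) N) C)) y
  have h2 := congrArg Subtype.val this
  rw [LinearEquiv.ofInjective_apply] at h2
  rw [h2, hy]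
  rfl

/-- `core N` as a comodule. -/
@[reducible] noncomputable def coreComod (N : Submodule R M) :
    HopfRep.Comod R C (core (C := C) N) :=
  SerreSub.comodOfInj (W := M) (core (C := C) N).subtype (coreCoact N)
    (core (C := C) N).injective_subtype
    (rTensor_subtype_injective (core (C := C) N) (C ⊗[R] C))
    (by
      apply LinearMap.ext
      intro x
      exact rTensor_coreCoact N x)

end CoreComod

end Groth.Agent.Lib.Helper84.SerreSubM
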