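import Groth.Prelude.Def_Hoch
import Groth.Agent.Lib.Helper84.SerreSubM

/-!
# Covering a comodule by a subcomodule of a cofree comodule

For a comodule `F` and a linear map `π : L → F`, inside the cofree comodule `L ⊗ C` (coaction
`id ⊗ Δ`, from `Hoch.Ind`) we consider `E = {x | (π ⊗ id) x = ρ_F (σ x)}` where
`σ (l ⊗ c) = ε(c) π(l)`.  It is a subcomodule (for `C` flat), `σ` restricted to it is a comodule
map, surjective onto `F` when `π` is.
-/

set_option linter.unusedSectionVars false
set_option linter.unusedVariables false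
set_option linter.style.longLine false

universe u v w w'

open TensorProduct

namespace Groth.Agent.Lib.Helper84.ComodCover

section Cofree

variable {R : Type u} [CommRing R] {C : Type v} [AddCommGroup C] [Module R C] [Coalgebra R C]
  (L : Type w') [AddCommGroup L] [Module R L]

/-- The cofree comodule `L ⊗ C` (from the Prelude's `Hoch.Ind`). -/
@[reducible] noncomputable def cofree : HopfRep.Comod R C (L ⊗[R] C) := Hoch.Ind.comod R C L

theorem cofree_coact_tmul (l : L) (c : C) :
    (cofree (R := R) (C := C) L).coact (l ⊗ₜ[R] c) =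
      (TensorProduct.assoc R L C C).symm (l ⊗ₜ[R] Coalgebra.comul (R := R) c) := rfl

end Cofree

section Cover

variable {R : Type u} [CommRing R] {C : Type v} [AddCommGroup C] [Module R C] [Coalgebra R C]
  {F : Type w} [AddCommGroup F] [Module R F] [HopfRep.Comod R C F]
  {L : Type w'} [AddCommGroup L] [Module R L] (π : L →ₗ[R] F)

/-- `σ (l ⊗ c) = ε(c) • π(l)`. -/
noncomputable def sig : L ⊗[R] C →ₗ[R] F :=
  (TensorProduct.rid R F).toLinearMap ∘ₗ (Coalgebra.counit (R := R) (A := C)).lTensor F ∘ₗ
    π.rTensor C

@[simp] theorem sig_tmul (l : L) (c : C) :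
    sig π (l ⊗ₜ[R] c) = Coalgebra.counit (R := R) c • π l := by
  simp [sig]

/-- `τ = π ⊗ id - ρ_F ∘ σ`. -/
noncomputable def tau : L ⊗[R] C →ₗ[R] F ⊗[R] C :=
  π.rTensor C - (HopfRep.Comod.coact (k := R) (A := C) (V := F)) ∘ₗ sig π

theorem tau_apply (x : L ⊗[R] C) :
    tau π x = (π.rTensor C) x - HopfRep.Comod.coact (k := R) (A := C) (sig π x) := by
  simp [tau]

/-- `(σ ⊗ id) ∘ ρ_Q = π ⊗ id`. -/
theorem sig_rTensor_coact (x : L ⊗[R] C) :
    ((sig π).rTensor C) ((cofree (R := R) (C := C) L).coact x) = (π.rTensor C) x := by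
  induction x using TensorProduct.induction_on with
  | zero => simp
  | tmul l c =>
    rw [cofree_coact_tmul]
    have h : ∀ t : C ⊗[R] C, ((sig π).rTensor C) ((TensorProduct.assoc R L C C).symm (l ⊗ₜ[R] t)) =
        (π l) ⊗ₜ[R] (TensorProduct.lid R C) (((Coalgebra.counit (R := R) (A := C)).rTensor C) t) := by
      intro t
      induction t using TensorProduct.induction_on with
      | zero => simp
      | tmul a b => simp [TensorProduct.smul_tmul]
      | add x y hx hy => simp only [TensorProduct.tmul_add, map_add, hx, hy]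
    rw [h, Coalgebra.rTensor_counit_comul]
    simp
  | add x y hx hy => simp only [map_add, hx, hy]

/-- `π ⊗ id` is a comodule map between cofree comodules. -/
theorem rTensor_rTensor_coact (x : L ⊗[R] C) :
    ((π.rTensor C).rTensor C) ((cofree (R := R) (C := C) L).coact x) =
      (TensorProduct.assoc R F C C).symm
        ((Coalgebra.comul (R := R) (A := C)).lTensor F ((π.rTensor C) x)) := by
  induction x using TensorProduct.induction_on with
  | zero => simp
  | tmul l c =>
    rw [cofree_coact_tmul]
    have h : ∀ t : C ⊗[R] C, ((π.rTensor C).rTensor C) ((TensorProduct.assoc R L C C).symm (l ⊗ₜ[R] t)) =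
        (TensorProduct.assoc R F C C).symm ((π l) ⊗ₜ[R] t) := by
      intro t
      induction t using TensorProduct.induction_on with
      | zero => simp
      | tmul a b => simp
      | add x y hx hy => simp only [TensorProduct.tmul_add, map_add, hx, hy]
    rw [h]
    simp
  | add x y hx hy => simp only [map_add, hx, hy]

/-- The subcomodule `E = ker τ` of the cofree comodule. -/
noncomputable def E : Submodule R (L ⊗[R] C) := LinearMap.ker (tau (C := C) π)

theorem mem_E {x : L ⊗[R] C} :
    x ∈ E π ↔ (π.rTensor C) x = HopfRep.Comod.coact (k := R) (A := C) (sig π x) := by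
  rw [E, LinearMap.mem_ker, tau_apply, sub_eq_zero]

/-- `E` is a subcomodule of the cofree comodule (for `C` flat). -/
theorem coact_mem_E [Module.Flat R C] {x : L ⊗[R] C} (hx : x ∈ E π) :
    (cofree (R := R) (C := C) L).coact x ∈ LinearMap.range ((E π).subtype.rTensor C) := by
  have hex : Function.Exact (E (C := C) π).subtype (tau (C := C) π) := by
    rw [LinearMap.exact_iff, Submodule.range_subtype, E]
  have hex2 := Module.Flat.rTensor_exact C hex
  refine (hex2 _).mp ?_
  have h1 : ((tau π).rTensor C) ((cofree (R := R) (C := C) L).coact x) =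
      ((π.rTensor C).rTensor C) ((cofree (R := R) (C := C) L).coact x) -
      ((HopfRep.Comod.coact (k := R) (A := C) (V := F)).rTensor C)
        (((sig π).rTensor C) ((cofree (R := R) (C := C) L).coact x)) := by
    rw [tau, LinearMap.rTensor_sub, LinearMap.sub_apply, LinearMap.rTensor_comp,
      LinearMap.comp_apply]
  rw [h1, sig_rTensor_coact, rTensor_rTensor_coact, (mem_E π).mp hx, sub_eq_zero]
  have := LinearMap.congr_fun (HopfRep.Comod.coassoc (k := R) (A := C) (V := F)) (sig π x)
  simp only [LinearMap.comp_apply, LinearEquiv.coe_coe] at this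
  rw [← this, LinearEquiv.symm_apply_apply]

/-- On `E`, `σ` commutes with the coactions. -/
theorem sig_comodHom {x : L ⊗[R] C} (hx : x ∈ E π) :
    ((sig π).rTensor C) ((cofree (R := R) (C := C) L).coact x) =
      HopfRep.Comod.coact (k := R) (A := C) (sig π x) := by
  rw [sig_rTensor_coact, (mem_E π).mp hx]

/-- `σ` maps `E` onto `F` when `π` is surjective. -/
theorem exists_mem_E_sig (hπ : Function.Surjective π) (f : F) :
    ∃ x ∈ E (C := C) π, sig (C := C) π x = f := by
  obtain ⟨x, hx⟩ := LinearMap.rTensor_surjective C hπ (HopfRep.Comod.coact (k := R) (A := C) f)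
  have hs : sig π x = f := by
    unfold sig
    rw [LinearMap.comp_apply, LinearMap.comp_apply, hx]
    have := LinearMap.congr_fun (HopfRep.Comod.counit_comp (k := R) (A := C) (V := F)) f
    simp only [LinearMap.comp_apply, LinearMap.flip_apply, TensorProduct.mk_apply] at this
    rw [this]
    simp
  refine ⟨x, ?_, hs⟩
  rw [mem_E, hs, hx]

end Cover

end Groth.Agent.Lib.Helper84.ComodCover
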