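import Groth.Prelude.Def_Conn
import Mathlib.LinearAlgebra.FreeModule.Finite.Basic
import Mathlib.LinearAlgebra.Dimension.Free

/-!
Helper lemmas on connections (`Groth.Prelude.Def_Conn`), by helper84.
-/

set_option autoImplicit false
universe v u
open TensorProduct

namespace Groth.Agent.Lib.Helper84

section
variable {A : Type v} {B Ω M M' : Type u} [CommRing A] [CommRing B] [Algebra A B]
  [AddCommGroup Ω] [Module B Ω] [Module A Ω] [IsScalarTower A B Ω]
  [AddCommGroup M] [Module B M] [Module A M] [IsScalarTower A B M]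
  [AddCommGroup M'] [Module B M'] [Module A M'] [IsScalarTower A B M']

/-- Naturality of contraction `rid ∘ (1 ⊗ θ)` with respect to a linear map in the module factor. -/
theorem rid_map_id_map (ψ : M →ₗ[B] M') (θ : Ω →ₗ[B] B) (z : M ⊗[B] Ω) :
    TensorProduct.rid B M' (TensorProduct.map LinearMap.id θ (TensorProduct.map ψ LinearMap.id z)) =
      ψ (TensorProduct.rid B M (TensorProduct.map LinearMap.id θ z)) := by
  induction z using TensorProduct.induction_on with
  | zero => simp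
  | tmul m ω => simp
  | add x y hx hy => simp only [map_add, hx, hy]

/-- Evaluating the contraction of an element of `Hom(M, M') ⊗ Ω` at `m`. -/
theorem rid_map_id_apply (θ : Ω →ₗ[B] B) (y : (M →ₗ[B] M') ⊗[B] Ω) (m : M) :
    (TensorProduct.rid B (M →ₗ[B] M') (TensorProduct.map LinearMap.id θ y)) m =
      TensorProduct.rid B M' (TensorProduct.map LinearMap.id θ
        (TensorProduct.map (LinearMap.applyₗ m) LinearMap.id y)) := by
  rw [rid_map_id_map]
  rfl

/-- The covariant derivative of the Hom-connection along `θ` is the commutator with the covariant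
derivatives: `(∇''_θ ψ)(m) = ∇'_θ(ψ m) − ψ(∇_θ m)`. -/
theorem along_hom_apply (nabla : M →ₗ[A] M ⊗[B] Ω) (nabla' : M' →ₗ[A] M' ⊗[B] Ω)
    (nabla'' : (M →ₗ[B] M') →ₗ[A] (M →ₗ[B] M') ⊗[B] Ω) (h : Conn.IsHomConn nabla nabla' nabla'')
    (θ : Ω →ₗ[B] B) (ψ : M →ₗ[B] M') (m : M) :
    (Conn.along nabla'' θ ψ) m = Conn.along nabla' θ (ψ m) - ψ (Conn.along nabla θ m) := by
  rw [Conn.along_apply, rid_map_id_apply, h ψ m, map_sub, map_sub, rid_map_id_map,
    ← Conn.along_apply, ← Conn.along_apply]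

/-- Leibniz rule of the Hom-connection for composition, contracted with `θ`. -/
theorem along_hom_comp {M'' : Type u} [AddCommGroup M''] [Module B M''] [Module A M'']
    [IsScalarTower A B M'']
    (n₁ : M →ₗ[A] M ⊗[B] Ω) (n₂ : M' →ₗ[A] M' ⊗[B] Ω) (n₃ : M'' →ₗ[A] M'' ⊗[B] Ω)
    (n₁₂ : (M →ₗ[B] M') →ₗ[A] (M →ₗ[B] M') ⊗[B] Ω) (h₁₂ : Conn.IsHomConn n₁ n₂ n₁₂)
    (n₂₃ : (M' →ₗ[B] M'') →ₗ[A] (M' →ₗ[B] M'') ⊗[B] Ω) (h₂₃ : Conn.IsHomConn n₂ n₃ n₂₃)
    (n₁₃ : (M →ₗ[B] M'') →ₗ[A] (M →ₗ[B] M'') ⊗[B] Ω) (h₁₃ : Conn.IsHomConn n₁ n₃ n₁₃)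
    (θ : Ω →ₗ[B] B) (ψ : M' →ₗ[B] M'') (χ : M →ₗ[B] M') :
    Conn.along n₁₃ θ (ψ ∘ₗ χ) = Conn.along n₂₃ θ ψ ∘ₗ χ + ψ ∘ₗ Conn.along n₁₂ θ χ := by
  ext m
  simp only [LinearMap.add_apply, LinearMap.comp_apply]
  rw [along_hom_apply n₁ n₃ n₁₃ h₁₃, along_hom_apply n₂ n₃ n₂₃ h₂₃, along_hom_apply n₁ n₂ n₁₂ h₁₂]
  simp only [LinearMap.comp_apply, map_sub]
  abel

end

end Groth.Agent.Lib.Helper84

namespace Groth.Agent.Lib.Helper84

section Sep
variable {B Ω E G : Type u} [CommRing B]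
  [AddCommGroup Ω] [Module B Ω] [AddCommGroup E] [Module B E] [AddCommGroup G] [Module B G]

/-- Decomposition of an element of `H ⊗ Ω` along a finite basis of `Ω`. -/
theorem eq_sum_map_coord {H : Type u} [AddCommGroup H] [Module B H]
    {κ : Type*} [Fintype κ] (b : Module.Basis κ B Ω) (y : H ⊗[B] Ω) :
    y = ∑ k, TensorProduct.map (LinearMap.id : H →ₗ[B] H)
      (LinearMap.toSpanSingleton B Ω (b k))
        (TensorProduct.map (LinearMap.id : H →ₗ[B] H) (b.coord k) y) := by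
  induction y using TensorProduct.induction_on with
  | zero => simp
  | tmul h ω =>
    simp only [TensorProduct.map_tmul, LinearMap.id_apply, LinearMap.toSpanSingleton_apply,
      Module.Basis.coord_apply]
    rw [← TensorProduct.tmul_sum, b.sum_repr]
  | add x y hx hy =>
    simp only [map_add, Finset.sum_add_distrib]
    rw [← hx, ← hy]

/-- If `Ω` is finite free, an element of `Hom(E, G) ⊗ Ω` all of whose evaluations vanish is zero. -/
theorem hom_tensor_eq_zero_of_apply [Module.Finite B Ω] [Module.Free B Ω]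
    (y : (E →ₗ[B] G) ⊗[B] Ω)
    (h : ∀ e : E, TensorProduct.map (LinearMap.applyₗ e) (LinearMap.id : Ω →ₗ[B] Ω) y = 0) :
    y = 0 := by
  classical
  let b := Module.Free.chooseBasis B Ω
  rw [eq_sum_map_coord b y]
  refine Finset.sum_eq_zero fun k _ => ?_
  have hk : TensorProduct.map (LinearMap.id : (E →ₗ[B] G) →ₗ[B] (E →ₗ[B] G)) (b.coord k) y = 0 := by
    apply (TensorProduct.rid B (E →ₗ[B] G)).injective
    rw [map_zero]
    ext e
    rw [rid_map_id_apply, h e]
    simp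
  rw [hk, map_zero]

/-- Two elements of `Hom(E, G) ⊗ Ω` with the same evaluations are equal (`Ω` finite free). -/
theorem hom_tensor_ext [Module.Finite B Ω] [Module.Free B Ω]
    (y y' : (E →ₗ[B] G) ⊗[B] Ω)
    (h : ∀ e : E, TensorProduct.map (LinearMap.applyₗ e) (LinearMap.id : Ω →ₗ[B] Ω) y =
      TensorProduct.map (LinearMap.applyₗ e) (LinearMap.id : Ω →ₗ[B] Ω) y') :
    y = y' := by
  rw [← sub_eq_zero]
  apply hom_tensor_eq_zero_of_apply
  intro e
  rw [map_sub, h e, sub_self]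

end Sep

end Groth.Agent.Lib.Helper84
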