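import Groth.Agent.Lib.Helper84.Conn
import Mathlib.LinearAlgebra.Trace

/-!
The trace is horizontal for the induced connection on endomorphisms (helper84).
-/

set_option autoImplicit false
universe v u
open TensorProduct

namespace Groth.Agent.Lib.Helper84

section
variable {B M N P Q : Type u} [CommRing B]
  [AddCommGroup M] [Module B M] [AddCommGroup N] [Module B N]
  [AddCommGroup P] [Module B P] [AddCommGroup Q] [Module B Q]

theorem tmap_sum_left {κ : Type*} (s : Finset κ) (f : κ → (M →ₗ[B] N)) (g : P →ₗ[B] Q) :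
    TensorProduct.map (∑ i ∈ s, f i) g = ∑ i ∈ s, TensorProduct.map (f i) g := by
  classical
  induction s using Finset.induction_on with
  | empty => simp
  | insert a s ha ih => rw [Finset.sum_insert ha, Finset.sum_insert ha, TensorProduct.map_add_left, ih]

end

section Trace
variable {A : Type v} {B Ω M : Type u} [CommRing A] [CommRing B] [Algebra A B]
  [AddCommGroup Ω] [Module B Ω] [Module A Ω] [IsScalarTower A B Ω]
  [AddCommGroup M] [Module B M] [Module A M] [IsScalarTower A B M]

/-- `(tr ⊗ 1) y = Σ_j (b_j^* ⊗ 1)((ev_{b_j} ⊗ 1) y)`. -/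
theorem map_trace_eq_sum {κ : Type*} [Fintype κ] [DecidableEq κ] (b : Module.Basis κ B M)
    (y : (M →ₗ[B] M) ⊗[B] Ω) :
    TensorProduct.map (LinearMap.trace B M) (LinearMap.id : Ω →ₗ[B] Ω) y =
      ∑ j, TensorProduct.map (b.coord j) (LinearMap.id : Ω →ₗ[B] Ω)
        (TensorProduct.map (LinearMap.applyₗ (b j)) (LinearMap.id : Ω →ₗ[B] Ω) y) := by
  induction y using TensorProduct.induction_on with
  | zero => simp
  | tmul φ ω =>
    simp only [TensorProduct.map_tmul, LinearMap.id_apply, LinearMap.applyₗ_apply_apply]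
    rw [← TensorProduct.sum_tmul, LinearMap.trace_eq_matrix_trace B b φ, Matrix.trace]
    simp [LinearMap.toMatrix_apply]
  | add x y hx hy => simp only [map_add, hx, hy, Finset.sum_add_distrib]

/-- The trace is horizontal: `(tr ⊗ 1)(∇_E φ) = 1 ⊗ δ(tr φ)`. -/
theorem trace_horizontal [Module.Finite B M] [Module.Free B M]
    (δ : Derivation A B Ω) (nabla : M →ₗ[A] M ⊗[B] Ω) (hc : Conn.IsConn δ nabla)
    (nablaE : (M →ₗ[B] M) →ₗ[A] (M →ₗ[B] M) ⊗[B] Ω) (hE : Conn.IsHomConn nabla nabla nablaE)
    (φ : M →ₗ[B] M) :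
    TensorProduct.map (LinearMap.trace B M) (LinearMap.id : Ω →ₗ[B] Ω) (nablaE φ) =
      Conn.triv δ (LinearMap.trace B M φ) := by
  classical
  let b := Module.Free.chooseBasis B M
  -- matrix of φ
  set a : Module.Free.ChooseBasisIndex B M → Module.Free.ChooseBasisIndex B M → B :=
    fun i j => b.repr (φ (b j)) i with ha
  -- c j m = (b_j^* ⊗ 1)(∇ m)
  set c : Module.Free.ChooseBasisIndex B M → M → B ⊗[B] Ω :=
    fun j m => TensorProduct.map (b.coord j) (LinearMap.id : Ω →ₗ[B] Ω) (nabla m) with hcdef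
  have hφb : ∀ j, φ (b j) = ∑ i, a i j • b i := fun j => (b.sum_repr (φ (b j))).symm
  have h1 : ∀ j, TensorProduct.map (b.coord j) (LinearMap.id : Ω →ₗ[B] Ω) (nabla (φ (b j))) =
      ∑ i, a i j • c j (b i) + (1 : B) ⊗ₜ[B] δ (a j j) := by
    intro j
    rw [hφb j, map_sum, map_sum]
    have hc' : ∀ (x : B) (m : M), nabla (x • m) = x • nabla m + m ⊗ₜ[B] δ x := hc
    simp only [hc', map_add, map_smul, TensorProduct.map_tmul, LinearMap.id_apply,
      Module.Basis.coord_apply, Module.Basis.repr_self, Finset.sum_add_distrib]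
    congr 1
    rw [Finset.sum_eq_single j]
    · simp
    · intro i _ hij
      simp [hij]
    · simp
  have h2 : ∀ j, b.coord j ∘ₗ φ = ∑ i, a j i • b.coord i := by
    intro j
    apply b.ext
    intro k
    simp only [LinearMap.comp_apply, Module.Basis.coord_apply, LinearMap.sum_apply,
      LinearMap.smul_apply, Module.Basis.repr_self, smul_eq_mul, ha]
    rw [Finset.sum_eq_single k]
    · simp
    · intro i _ hik
      simp [Ne.symm hik]
    · simp
  have h3 : ∀ j, TensorProduct.map (b.coord j) (LinearMap.id : Ω →ₗ[B] Ω)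
      (TensorProduct.map φ LinearMap.id (nabla (b j))) = ∑ i, a j i • c i (b j) := by
    intro j
    rw [← LinearMap.comp_apply, ← TensorProduct.map_comp, LinearMap.id_comp, h2 j, tmap_sum_left,
      LinearMap.sum_apply]
    refine Finset.sum_congr rfl fun i _ => ?_
    rw [TensorProduct.map_smul_left, LinearMap.smul_apply]
  rw [map_trace_eq_sum b]
  simp only [hE φ, map_sub, h1, h3]
  rw [Finset.sum_sub_distrib, Finset.sum_add_distrib, Finset.sum_comm (f := fun j i => a j i • c i (b j))]
  rw [add_sub_right_comm, sub_self, zero_add, Conn.triv_apply, LinearMap.trace_eq_matrix_trace B b φ,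
    Matrix.trace, map_sum, TensorProduct.tmul_sum]
  simp [LinearMap.toMatrix_apply, ha]

end Trace

end Groth.Agent.Lib.Helper84
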