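import Mathlib
import Groth.Agent.Lib.Helper84.MatCoeff
import Groth.Agent.H40.Comod

/-!
# A Hopf algebra all of whose matrix corepresentations are trivial is the base field (helper84)
-/

set_option autoImplicit false
universe u
open TensorProduct

namespace Groth.Agent.Lib.Helper84.CorepTriv

variable {k : Type u} [Field k] {A : Type u} [CommRing A] [HopfAlgebra k A]

theorem algebraMap_surjective_of_forall_corep_trivial
    (h : ∀ (n : ℕ) (c : Matrix (Fin n) (Fin n) A),
      (∀ i j, CoalgebraStruct.comul (R := k) (c i j) = ∑ l, c i l ⊗ₜ[k] c l j) →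
      (∀ i j, CoalgebraStruct.counit (R := k) (c i j) = if i = j then 1 else 0) → c = 1) :
    Function.Surjective (algebraMap k A) := by
  classical
  intro f
  obtain ⟨W, hWfin, hfW, hW⟩ := Groth.Agent.H40.exists_finite_subcomod_mem (k := k) (C := A) (V := A) f
  let b := Module.finBasis k W
  obtain ⟨c, hΔ, hε, hb⟩ := Groth.Agent.Lib.Helper84.MatCoeff.exists_matCoeff_regular (k := k) W hW b
  have hc := h _ (Matrix.of c) (fun i j => hΔ i j) (fun i j => hε i j)
  have hc' : ∀ i j, c i j = if i = j then 1 else 0 := by
    intro i j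
    have := congrFun (congrFun hc i) j
    simpa [Matrix.one_apply] using this
  have hb' : ∀ i, ((b i : W) : A) = algebraMap k A (Coalgebra.counit (R := k) ((b i : W) : A)) := by
    intro i
    rw [hb i]
    simp only [hc']
    rw [Finset.sum_eq_single i]
    · simp [Algebra.algebraMap_eq_smul_one]
    · intro j _ hji
      simp [hji]
    · intro hi
      exact absurd (Finset.mem_univ i) hi
  set r := b.repr ⟨f, hfW⟩ with hr
  have hf : ∑ i, r i • b i = ⟨f, hfW⟩ := b.sum_repr ⟨f, hfW⟩
  have hf' : ∑ i, r i • ((b i : W) : A) = f := by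
    have h1 := congrArg (W.subtype) hf
    rw [map_sum] at h1
    simpa using h1
  refine ⟨∑ i, r i * Coalgebra.counit (R := k) ((b i : W) : A), ?_⟩
  rw [← hf', map_sum]
  refine Finset.sum_congr rfl fun i _ => ?_
  conv_rhs => rw [hb' i]
  rw [map_mul, Algebra.smul_def]

end Groth.Agent.Lib.Helper84.CorepTriv
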