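import Mathlib
import Groth.Agent.Lib.Helper93.DepthHom
import Groth.Agent.Lib.Helper73.MCM
import Groth.Agent.Lib.Helper73.RegularNormal

/-!
# Duals of finite modules over regular rings of dimension ≤ 2 are projective
-/

set_option linter.unusedSectionVars false
set_option linter.unusedVariables false
set_option linter.style.longLine false

universe u

namespace Groth.Agent.Lib.Helper84.DualFree

open IsLocalRing

/-- Over a regular local ring of dimension `≤ 2`, the dual of a finite module is free. -/
theorem free_dual_of_dim_le_two (R : Type u) [CommRing R] [IsRegularLocalRing R]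
    (hdim : ringKrullDim R ≤ 2) (N : Type u) [AddCommGroup N] [Module R N] [Module.Finite R N] :
    Module.Free R (N →ₗ[R] R) := by
  apply Groth.Agent.Lib.Helper73.MCM.free_of_le_depth
  have hd := Groth.Agent.Lib.Helper73.RegularNormal.depth_self_of_isRegularLocalRing R
  have hs : ((maximalIdeal R).spanFinrank : WithBot ℕ∞) = ringKrullDim R :=
    IsRegularLocalRing.spanFinrank_maximalIdeal
  have hdR : LocCoh.depth R R = ((maximalIdeal R).spanFinrank : ℕ∞) := by
    apply WithBot.coe_injective
    rw [hd, ← hs]; rfl
  have hle : (maximalIdeal R).spanFinrank ≤ 2 := by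
    rw [← hs] at hdim
    have : (((maximalIdeal R).spanFinrank : ℕ∞) : WithBot ℕ∞) ≤ ((2 : ℕ∞) : WithBot ℕ∞) := hdim
    have := WithBot.coe_le_coe.mp this
    exact_mod_cast this
  generalize (maximalIdeal R).spanFinrank = d at *
  have hdR' : LocCoh.idealDepth (maximalIdeal R) R = (d : ℕ∞) := hdR
  change (d : ℕ∞) ≤ LocCoh.idealDepth (maximalIdeal R) (N →ₗ[R] R)
  interval_cases d
  · exact bot_le
  · exact Groth.Agent.Lib.Helper93.Depth.one_le_idealDepth_linearMap _ N R (by rw [hdR']; rfl)
  · exact Groth.Agent.Lib.Helper93.Depth.two_le_idealDepth_linearMap _ N R (by rw [hdR']; rfl)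

/-- Over a regular ring of dimension `≤ 2`, the dual of a finite module is projective. -/
theorem projective_dual_of_dim_le_two (R : Type u) [CommRing R] [IsRegularRing R]
    (hdim : ringKrullDim R ≤ 2) (W : Type u) [AddCommGroup W] [Module R W] [Module.Finite R W] :
    Module.Projective R (Module.Dual R W) := by
  haveI : Module.FinitePresentation R W := Module.finitePresentation_of_finite R W
  haveI : Module.Finite R (Module.Dual R W) := by
    obtain ⟨n, π, hπ⟩ := Module.Finite.exists_fin' R W
    have hinj : Function.Injective (LinearMap.lcomp R R π) := by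
      intro a b hab
      ext x
      obtain ⟨y, rfl⟩ := hπ x
      exact LinearMap.congr_fun hab y
    exact Module.Finite.of_injective (LinearMap.lcomp R R π) hinj
  haveI : Module.FinitePresentation R (Module.Dual R W) :=
    Module.finitePresentation_of_finite R _
  refine Module.projective_of_localization_maximal'
    (Rₚ := fun P _ => Localization.AtPrime P)
    (Mₚ := fun P _ => (LocalizedModule P.primeCompl W →ₗ[Localization.AtPrime P]
      Localization.AtPrime P))
    (f := fun P _ => IsLocalizedModule.mapExtendScalars P.primeCompl
      (LocalizedModule.mkLinearMap P.primeCompl W)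
      (Algebra.linearMap R (Localization.AtPrime P)) (Localization.AtPrime P)) ?_
  intro P hP
  haveI : IsRegularLocalRing (Localization.AtPrime P) :=
    IsRegularRing.isRegularLocalRing_localization P
  have hdimP : ringKrullDim (Localization.AtPrime P) ≤ 2 := by
    rw [IsLocalization.AtPrime.ringKrullDim_eq_height P]
    exact le_trans Ideal.height_le_ringKrullDim_of_isPrime hdim
  haveI := free_dual_of_dim_le_two (Localization.AtPrime P) hdimP
    (LocalizedModule P.primeCompl W)
  infer_instance

end Groth.Agent.Lib.Helper84.DualFree
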