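import Groth.Agent.Lib.Helper59.OrbitClosure
import Groth.Agent.S19602
import Mathlib.RingTheory.HopfAlgebra.Convolution
import Mathlib.RingTheory.Spectrum.Prime.Topology

/-!
Rational points of the affine quotient by a linearly reductive group; the group of rational points
acting on rational points (helper84).
-/

set_option autoImplicit false
universe u v w
open TensorProduct

namespace Groth.Agent.Lib.Helper84.GITPoints

open Groth.Agent.Lib.Helper93.Comod Groth.Agent.Lib.Helper59.LinRed

section Inv
variable {k : Type u} [Field k] {A : Type v} [CommRing A] [Bialgebra k A]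
variable {R : Type v} [CommRing R] [Algebra k R] [HopfRep.Comod k A R] [GLin.IsCoactAlg k A R]

/-- For a linearly reductive group, an ideal of the ring of invariants is contracted from its
extension. -/
theorem comap_map_invariants (hG : HopfRep.IsLinearlyReductive k A)
    (I : Ideal (GLin.invariants k A R)) :
    Ideal.comap (GLin.invariants k A R).val.toRingHom
        (Ideal.map (GLin.invariants k A R).val.toRingHom I) = I := by
  classical
  have hmul : ∀ f g : R, HopfRep.Comod.coact (k := k) (A := A) (f * g) =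
      HopfRep.Comod.coact (k := k) (A := A) f * HopfRep.Comod.coact (k := k) (A := A) g :=
    GLin.IsCoactAlg.coact_mul
  obtain ⟨E, hE⟩ := exists_isReynolds (V := R) hG
  apply le_antisymm
  · intro f hf
    have hf' : (f : R) ∈ Ideal.map (GLin.invariants k A R).val.toRingHom I := hf
    have key : ∀ x ∈ Ideal.map (GLin.invariants k A R).val.toRingHom I,
        ∀ r : R, ∃ i ∈ I, E (r * x) = (i : R) := by
      intro x hx
      unfold Ideal.map Ideal.span at hx
      induction hx using Submodule.span_induction with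
      | mem x hx =>
        obtain ⟨i₀, hi₀, rfl⟩ := hx
        intro r
        have hfix : ((GLin.invariants k A R).val.toRingHom i₀ : R) ∈ HopfRep.fixedPts k A R := i₀.2
        refine ⟨⟨E r, hE.apply_mem r⟩ * i₀, I.mul_mem_left _ hi₀, ?_⟩
        rw [hE.map_mul_of_mem hG hmul r hfix]
        rfl
      | zero =>
        intro r
        exact ⟨0, I.zero_mem, by simp⟩
      | add x y _ _ hx hy =>
        intro r
        obtain ⟨i, hi, hEi⟩ := hx r
        obtain ⟨j, hj, hEj⟩ := hy r
        refine ⟨i + j, I.add_mem hi hj, ?_⟩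
        rw [mul_add, map_add, hEi, hEj]
        rfl
      | smul s x _ hx =>
        intro r
        obtain ⟨i, hi, hEi⟩ := hx (r * s)
        refine ⟨i, hi, ?_⟩
        rw [smul_eq_mul, ← mul_assoc, hEi]
    obtain ⟨i, hi, hEi⟩ := key _ hf' 1
    rw [one_mul, hE.apply_of_mem (show (f : R) ∈ HopfRep.fixedPts k A R from f.2)] at hEi
    have : f = i := Subtype.ext hEi
    rw [this]
    exact hi
  · exact Ideal.le_comap_map

/-- Two algebra maps to the base field, one of whose kernels contains the other's, are equal. -/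
theorem algHom_eq_of_ker_le {S : Type w} [CommRing S] [Algebra k S] (y z : S →ₐ[k] k)
    (h : RingHom.ker y ≤ RingHom.ker z) : z = y := by
  apply AlgHom.ext
  intro s
  have hmem : s - algebraMap k S (y s) ∈ RingHom.ker y := by
    rw [RingHom.mem_ker, map_sub, AlgHom.commutes, sub_eq_zero]
    rfl
  have := h hmem
  rw [RingHom.mem_ker, map_sub, AlgHom.commutes, sub_eq_zero] at this
  rw [this]
  rfl

/-- Surjectivity of the affine quotient on rational points. -/
theorem exists_point_over [IsAlgClosed k] [Algebra.FiniteType k R]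
    (hG : HopfRep.IsLinearlyReductive k A) (y : GLin.invariants k A R →ₐ[k] k) :
    ∃ x : R →ₐ[k] k, x.comp (GLin.invariants k A R).val = y := by
  have hne : Ideal.map (GLin.invariants k A R).val.toRingHom (RingHom.ker y) ≠ ⊤ := by
    intro htop
    have h1 := comap_map_invariants hG (RingHom.ker y)
    rw [htop, Ideal.comap_top] at h1
    have : (1 : GLin.invariants k A R) ∈ RingHom.ker y := by rw [← h1]; trivial
    rw [RingHom.mem_ker, map_one] at this
    exact one_ne_zero this
  obtain ⟨x, hx⟩ := Groth.Agent.Lib.Helper59.exists_algHom_of_ne_top k R _ hne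
  refine ⟨x, algHom_eq_of_ker_le y _ ?_⟩
  intro s hs
  rw [RingHom.mem_ker]
  exact hx _ (Ideal.mem_map_of_mem _ hs)

end Inv

section Pts
variable {k : Type u} [Field k] {A : Type v} [CommRing A] [HopfAlgebra k A]
variable {R : Type v} [CommRing R] [Algebra k R] [HopfRep.Comod k A R] [GLin.IsCoactAlg k A R]

theorem actPt_apply (g : A →ₐ[k] k) (x : R →ₐ[k] k) (f : R) :
    GLin.actPt k g x f = x (dualAct A R g.toLinearMap f) :=
  apply_orbitAlg (GLin.IsCoactAlg.coact_mul) (GLin.IsCoactAlg.coact_one (k := k)) x
    g.toLinearMap f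

theorem actPt_actPt (g h : A →ₐ[k] k) (x : R →ₐ[k] k) :
    GLin.actPt k h (GLin.actPt k g x) =
      GLin.actPt k (WithConv.toConv g * WithConv.toConv h).ofConv x := by
  apply AlgHom.ext
  intro f
  rw [actPt_apply, actPt_apply, actPt_apply, dualAct_dualAct]
  rfl

theorem actPt_one (x : R →ₐ[k] k) :
    GLin.actPt k (1 : WithConv (A →ₐ[k] k)).ofConv x = x := by
  apply AlgHom.ext
  intro f
  rw [actPt_apply]
  have : (1 : WithConv (A →ₐ[k] k)).ofConv.toLinearMap = Coalgebra.counit (R := k) (A := A) := by
    apply LinearMap.ext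
    intro a
    rfl
  rw [this, dualAct_counit]

/-- If `g · x = g' · x'` then `x'` is a translate of `x`. -/
theorem exists_actPt_of_actPt_eq (g g' : A →ₐ[k] k) (x x' : R →ₐ[k] k)
    (h : GLin.actPt k g x = GLin.actPt k g' x') : ∃ g'' : A →ₐ[k] k, x' = GLin.actPt k g'' x := by
  refine ⟨(WithConv.toConv g * (WithConv.toConv g')⁻¹).ofConv, ?_⟩
  have h1 : x' = GLin.actPt k ((WithConv.toConv g')⁻¹).ofConv (GLin.actPt k g' x') := by
    rw [actPt_actPt]
    have : WithConv.toConv g' * WithConv.toConv ((WithConv.toConv g')⁻¹).ofConv = 1 := by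
      rw [WithConv.toConv_ofConv, mul_inv_cancel]
    rw [this, actPt_one]
  rw [h1, ← h, actPt_actPt]

/-- A rational point in the closure of a closed orbit lies in the orbit. -/
theorem exists_actPt_of_isClosedOrbit [IsAlgClosed k] [Algebra.FiniteType k A]
    (x z : R →ₐ[k] k) (hx : GLin.IsClosedOrbit k A x) (hz : GLin.InOrbitClosure k A x z) :
    ∃ g : A →ₐ[k] k, z = GLin.actPt k g x := by
  let pz : PrimeSpectrum R := ⟨RingHom.ker z, RingHom.ker_isPrime _⟩
  have hmem : pz ∈ closure (Set.range (PrimeSpectrum.comap (GLin.orbitHom k A x).toRingHom)) := by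
    rw [PrimeSpectrum.closure_range_comap, PrimeSpectrum.mem_zeroLocus]
    exact hz
  rw [hx.closure_eq] at hmem
  obtain ⟨q, hq⟩ := hmem
  obtain ⟨n, hn, hqn⟩ := Ideal.exists_le_maximal q.asIdeal q.2.ne_top
  obtain ⟨g, hg⟩ := Groth.Agent.Lib.Helper59.exists_algHom_ker_eq_of_isMaximal k A n
  refine ⟨g, (algHom_eq_of_ker_le z _ ?_).symm⟩
  intro r hr
  have h1 : r ∈ (PrimeSpectrum.comap (GLin.orbitHom k A x).toRingHom q).asIdeal := by
    rw [hq]; exact hr
  have h2 : GLin.orbitHom k A x r ∈ q.asIdeal := h1
  have h3 : GLin.orbitHom k A x r ∈ RingHom.ker g := by rw [hg]; exact hqn h2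
  rw [RingHom.mem_ker]
  exact RingHom.mem_ker.mp h3

end Pts

end Groth.Agent.Lib.Helper84.GITPoints
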