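import Mathlib
import Groth.Agent.Lib.Helper84.Obs.Char
import Groth.Agent.Lib.Helper84.GLnSch
import Groth.Agent.Lib.Helper84.CentralChar
import Groth.Agent.Lib.Helper84.MuN.UPt

/-!
# Homomorphisms to `GL_n` from matrix corepresentations (helper84)

* `mul_appTop_of_comul` : a function on an affine group `H ≅ sp k C` with `Δ b = ∑ pᵢ ⊗ qᵢ`
  satisfies `b(xy) = ∑ pᵢ(x) qᵢ(y)` on `H × H`.
* `exists_hom_GLn_of_corep` : a matrix corepresentation `c` of `C` gives a homomorphism
  `H ⟶ GL_n` with matrix `c`.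
-/

set_option autoImplicit false
set_option linter.unusedSectionVars false
universe u
open CategoryTheory MonoidalCategory CartesianMonoidalCategory MonObj GrpObj AlgebraicGeometry Opposite
open CoactBr Limits TensorProduct

namespace Groth.Agent.Lib.Helper84.GLnRep

open Groth.Agent.Lib.Helper43 Groth.Agent.Lib.Helper84.Obs Groth.Agent.Lib.Helper84.GLnSch

section

variable {k : Type u} [CommRing k]
variable {H : Over (Spec (CommRingCat.of k))} [GrpObj H]
variable {C : Type u} [CommRing C] [HopfAlgebra k C] (eH : sp k C ≅ H) [IsMonHom eH.hom]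

/-- `b(xy) = ∑ pᵢ(x) qᵢ(y)` on `H × H` when `Δ b = ∑ pᵢ ⊗ qᵢ`. -/
theorem mul_appTop_of_comul (b : C) {J : Type*} (s : Finset J) (p q : J → C)
    (hb : CoalgebraStruct.comul (R := k) b = ∑ i ∈ s, p i ⊗ₜ[k] q i) :
    (fst H H * snd H H).left.appTop (fnOf eH b)
      = ∑ i ∈ s, (fst H H).left.appTop (fnOf eH (p i)) * (snd H H).left.appTop (fnOf eH (q i)) := by
  let a := yOf eH (Algebra.TensorProduct.includeLeft : C →ₐ[k] C ⊗[k] C)
  let t := yOf eH (Algebra.TensorProduct.includeRight : C →ₐ[k] C ⊗[k] C)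
  have : IsIso (lift a t) := isIso_lift_yOf eH
  have hinj : Function.Injective ((lift a t).left.appTop) := by
    have : IsIso (lift a t).left := inferInstanceAs (IsIso ((Over.forget _).map (lift a t)))
    have : IsIso (lift a t).left.appTop :=
      inferInstanceAs (IsIso (Scheme.Γ.map (lift a t).left.op))
    exact ((ConcreteCategory.isIso_iff_bijective _).1 inferInstance).1
  have hinj2 : Function.Injective (Scheme.ΓSpecIso (CommRingCat.of (C ⊗[k] C))).hom :=
    ((ConcreteCategory.isIso_iff_bijective _).1 inferInstance).1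
  apply hinj
  have e1 : (lift a t).left.appTop ((fst H H * snd H H).left.appTop (fnOf eH b))
      = (a * t).left.appTop (fnOf eH b) := by
    have : a * t = lift a t ≫ (fst H H * snd H H) := by
      rw [MonObj.comp_mul, lift_fst, lift_snd]
    rw [this, Over.comp_left, Scheme.Hom.comp_appTop]
    rfl
  have e2 : ∀ c : C, (lift a t).left.appTop ((fst H H).left.appTop (fnOf eH c))
      = a.left.appTop (fnOf eH c) := by
    intro c
    have : a = lift a t ≫ fst H H := by simp
    conv_rhs => rw [this]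
    rw [Over.comp_left, Scheme.Hom.comp_appTop]
    rfl
  have e3 : ∀ c : C, (lift a t).left.appTop ((snd H H).left.appTop (fnOf eH c))
      = t.left.appTop (fnOf eH c) := by
    intro c
    have : t = lift a t ≫ snd H H := by simp
    conv_rhs => rw [this]
    rw [Over.comp_left, Scheme.Hom.comp_appTop]
    rfl
  rw [e1, map_sum]
  simp only [map_mul, e2, e3]
  have h2 : (Algebra.TensorProduct.lift (Algebra.TensorProduct.includeLeft : C →ₐ[k] C ⊗[k] C)
    (Algebra.TensorProduct.includeRight : C →ₐ[k] C ⊗[k] C) fun _ _ => .all _ _) = AlgHom.id k _ := by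
    ext <;> simp
  have key : (Scheme.ΓSpecIso (CommRingCat.of (C ⊗[k] C))).hom ((a * t).left.appTop (fnOf eH b))
      = ∑ x ∈ s, (Scheme.ΓSpecIso (CommRingCat.of (C ⊗[k] C))).hom (a.left.appTop (fnOf eH (p x)))
        * (Scheme.ΓSpecIso (CommRingCat.of (C ⊗[k] C))).hom (t.left.appTop (fnOf eH (q x))) := by
    rw [show a * t = yOf eH _ from yOf_mul' eH _ _, ev_yOf, valOf_fnOf, h2]
    have h3 : ∀ x, (Scheme.ΓSpecIso (CommRingCat.of (C ⊗[k] C))).hom
        (a.left.appTop (fnOf eH (p x))) = p x ⊗ₜ[k] 1 := by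
      intro x
      rw [ev_yOf, valOf_fnOf]
      rfl
    have h4 : ∀ x, (Scheme.ΓSpecIso (CommRingCat.of (C ⊗[k] C))).hom
        (t.left.appTop (fnOf eH (q x))) = 1 ⊗ₜ[k] q x := by
      intro x
      rw [ev_yOf, valOf_fnOf]
      rfl
    simp only [h3, h4]
    show CoalgebraStruct.comul (R := k) b = _
    rw [hb]
    simp
  have key2 : (Scheme.ΓSpecIso (CommRingCat.of (C ⊗[k] C))).hom
      (∑ x ∈ s, a.left.appTop (fnOf eH (p x)) * t.left.appTop (fnOf eH (q x)))
      = ∑ x ∈ s, (Scheme.ΓSpecIso (CommRingCat.of (C ⊗[k] C))).hom (a.left.appTop (fnOf eH (p x)))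
        * (Scheme.ΓSpecIso (CommRingCat.of (C ⊗[k] C))).hom (t.left.appTop (fnOf eH (q x))) :=
    (map_sum (Scheme.ΓSpecIso (CommRingCat.of (C ⊗[k] C))).hom.hom _ s).trans
      (Finset.sum_congr rfl fun x _ =>
        map_mul (Scheme.ΓSpecIso (CommRingCat.of (C ⊗[k] C))).hom.hom _ _)
  exact hinj2 (key.trans key2.symm)

/-- **the representation attached to a matrix corepresentation.** -/
theorem exists_hom_GLn_of_corep {n : ℕ} (c : Matrix (Fin n) (Fin n) C)
    (hΔ : ∀ i j, CoalgebraStruct.comul (R := k) (c i j) = ∑ l, c i l ⊗ₜ[k] c l j)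
    (hε : ∀ i j, CoalgebraStruct.counit (R := k) (c i j) = if i = j then 1 else 0) :
    ∃ ρ : H ⟶ FrB.GLn n (Spec (CommRingCat.of k)), IsMonHom ρ ∧
      glMat ρ = c.map (fnOf eH) := by
  have hdet : IsUnit (c.map (fnOf eH)).det := by
    have h1 : (c.map (fnOf eH)).det = fnOfHom eH c.det := by
      rw [RingHom.map_det]
      rfl
    rw [h1]
    exact (Groth.Agent.Lib.Helper84.CentralChar.isGroupLikeElem_det (k := k) c hΔ hε).isUnit.map
      (fnOfHom eH)
  obtain ⟨ρ, hρ⟩ := exists_of_mat (S := Spec (CommRingCat.of k)) (X := H) _ hdet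
  refine ⟨ρ, ?_, hρ⟩
  apply Groth.Agent.Lib.Helper84.MuN.isMonHom_of_mul
  apply glMat_injective
  rw [glMat_comp, glMat_mul, glMat_comp, glMat_comp, hρ]
  ext i j
  simp only [Matrix.map_apply, Matrix.mul_apply]
  exact mul_appTop_of_comul eH (c i j) Finset.univ (fun l => c i l) (fun l => c l j) (hΔ i j)

end

end Groth.Agent.Lib.Helper84.GLnRep
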