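import Groth.Agent.Lib.Helper84.LG
import Mathlib.RingTheory.Spectrum.Prime.Topology

/-!
LG-rings: points of quasi-compact open subsets of affine space (helper84).
-/

set_option autoImplicit false
universe u v
open TensorProduct

namespace Groth.Agent.Lib.Helper84.LG

open LGRing MvPolynomial

/-- Over an LG-ring, a quasi-compact open subset of affine space having points over all residue
fields at maximal ideals has a point over the ring (ring-theoretic form). -/
theorem exists_point_affineSpace {R : Type u} [CommRing R] (hR : IsLGRing R) (n : ℕ)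
    (U : Set (PrimeSpectrum (MvPolynomial (Fin n) R))) (hU : IsCompact U) (hUo : IsOpen U)
    (h : ∀ (m : Ideal R) [m.IsMaximal], ∃ x : Fin n → R ⧸ m, ∀ q : PrimeSpectrum (R ⧸ m),
      PrimeSpectrum.comap (MvPolynomial.eval₂Hom (Ideal.Quotient.mk m) x) q ∈ U) :
    ∃ x : Fin n → R, ∀ q : PrimeSpectrum R, PrimeSpectrum.comap (MvPolynomial.eval x) q ∈ U := by
  classical
  obtain ⟨t, rfl⟩ := PrimeSpectrum.isCompact_isOpen_iff.mp ⟨hU, hUo⟩
  let e := t.equivFin
  let F : MvPolynomial (Fin n ⊕ Fin t.card) R :=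
    ∑ j : Fin t.card, X (Sum.inr j) * rename Sum.inl ((e.symm j : t) : MvPolynomial (Fin n) R)
  have hF : ∀ (S : Type u) [CommRing S] [Algebra R S] (s : Fin n ⊕ Fin t.card → S),
      aeval s F = ∑ j : Fin t.card, s (Sum.inr j) *
        aeval (s ∘ Sum.inl) ((e.symm j : t) : MvPolynomial (Fin n) R) := by
    intro S _ _ s
    simp [F, aeval_rename]
  have key := representsUnit_of_finite hR F ?_
  · obtain ⟨s, hs⟩ := key
    refine ⟨s ∘ Sum.inl, fun q => ?_⟩
    rw [hF] at hs
    rw [Set.mem_compl_iff, PrimeSpectrum.mem_zeroLocus]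
    intro hsub
    have hmem : (∑ j : Fin t.card, s (Sum.inr j) *
        aeval (s ∘ Sum.inl) ((e.symm j : t) : MvPolynomial (Fin n) R)) ∈ q.asIdeal := by
      refine Ideal.sum_mem _ fun j _ => Ideal.mul_mem_left _ _ ?_
      have := hsub (e.symm j).2
      simpa [aeval_eq_eval] using this
    exact q.2.ne_top (Ideal.eq_top_of_isUnit_mem _ hmem hs)
  · intro m hm
    obtain ⟨x, hx⟩ := h m
    letI := Ideal.Quotient.field m
    have := hx ⟨⊥, Ideal.isPrime_bot⟩
    rw [Set.mem_compl_iff, PrimeSpectrum.mem_zeroLocus, Set.not_subset] at this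
    obtain ⟨g, hgt, hg⟩ := this
    refine ⟨Sum.elim x (fun j => if j = e ⟨g, hgt⟩ then 1 else 0), ?_⟩
    rw [hF]
    simp only [Sum.elim_inr, ite_mul, one_mul, zero_mul, Finset.sum_ite_eq', Finset.mem_univ,
      if_true, Sum.elim_comp_inl, Equiv.symm_apply_apply]
    rw [isUnit_iff_ne_zero]
    intro h0
    apply hg
    simp only [PrimeSpectrum.comap_asIdeal, SetLike.mem_coe, Ideal.mem_comap, Ideal.mem_bot]
    rw [← h0]
    rfl

end Groth.Agent.Lib.Helper84.LG
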