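import Groth.Agent.Lib.Helper84.LGPoint
import Mathlib.LinearAlgebra.SymmetricAlgebra.Basic
import Mathlib.LinearAlgebra.Dual.Lemmas

/-!
LG-rings: points of quasi-compact open subsets of vector bundles (helper84).
-/

set_option autoImplicit false
universe u v
open TensorProduct

namespace Groth.Agent.Lib.Helper84.LG

open LGRing MvPolynomial

/-- Over an LG-ring, a quasi-compact open subset of `Spec Sym(N)` (`N` finite projective) having
points over all residue fields at maximal ideals has a point over the ring. -/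
theorem exists_point_symmetricAlgebra {R : Type u} [CommRing R] (hR : IsLGRing R)
    (N : Type v) [AddCommGroup N] [Module R N] [Module.Finite R N] [Module.Projective R N]
    (U : Set (PrimeSpectrum (SymmetricAlgebra R N))) (hU : IsCompact U) (hUo : IsOpen U)
    (h : ∀ (m : Ideal R) [m.IsMaximal], ∃ φ : N →ₗ[R] (R ⧸ m), ∀ q : PrimeSpectrum (R ⧸ m),
      PrimeSpectrum.comap (SymmetricAlgebra.lift φ).toRingHom q ∈ U) :
    ∃ φ : N →ₗ[R] R, ∀ q : PrimeSpectrum R,
      PrimeSpectrum.comap (SymmetricAlgebra.lift φ).toRingHom q ∈ U := by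
  classical
  obtain ⟨n, π, ι, -, -, hπι⟩ := Module.Finite.exists_comp_eq_id_of_projective R N
  have hπι' : ∀ ν, π (ι ν) = ν := fun ν => LinearMap.congr_fun hπι ν
  let Xl : (Fin n → R) →ₗ[R] MvPolynomial (Fin n) R :=
    ∑ i : Fin n, (LinearMap.proj i : (Fin n → R) →ₗ[R] R).smulRight (X i : MvPolynomial (Fin n) R)
  have hXl : ∀ v, Xl v = ∑ i, v i • (X i : MvPolynomial (Fin n) R) := by
    intro v
    simp [Xl, LinearMap.sum_apply, LinearMap.smulRight_apply]
  let a : SymmetricAlgebra R N →ₐ[R] MvPolynomial (Fin n) R := SymmetricAlgebra.lift (Xl ∘ₗ ι)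
  have hsum : ∀ ν, ν = ∑ i, (ι ν) i • π (fun j => if i = j then 1 else 0) := by
    intro ν
    conv_lhs => rw [← hπι' ν, LinearMap.pi_apply_eq_sum_univ π (ι ν)]
  obtain ⟨t, rfl⟩ := PrimeSpectrum.isCompact_isOpen_iff.mp ⟨hU, hUo⟩
  let U' : Set (PrimeSpectrum (MvPolynomial (Fin n) R)) :=
    (PrimeSpectrum.zeroLocus ((t.image a : Finset _) : Set (MvPolynomial (Fin n) R)))ᶜ
  have hU' : ∀ P, P ∈ U' ↔ PrimeSpectrum.comap a.toRingHom P ∈
      (PrimeSpectrum.zeroLocus (t : Set (SymmetricAlgebra R N)))ᶜ := by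
    intro P
    simp only [U', Finset.coe_image, Set.mem_compl_iff]
    rw [← Set.mem_preimage, PrimeSpectrum.preimage_comap_zeroLocus]
    rfl
  have hcU' := PrimeSpectrum.isCompact_isOpen_iff.mpr ⟨t.image a, (rfl : _ = U')⟩
  have key := exists_point_affineSpace hR n U' hcU'.1 hcU'.2 ?_
  · obtain ⟨x, hx⟩ := key
    let φ : N →ₗ[R] R := (∑ i : Fin n, x i • (LinearMap.proj i : (Fin n → R) →ₗ[R] R)) ∘ₗ ι
    have hφ : SymmetricAlgebra.lift φ = (aeval x : MvPolynomial (Fin n) R →ₐ[R] R).comp a := by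
      apply SymmetricAlgebra.algHom_ext
      ext ν
      simp [a, φ, hXl, mul_comm]
    refine ⟨φ, fun q => ?_⟩
    have h1 := (hU' _).mp (hx q)
    have h2 : PrimeSpectrum.comap (SymmetricAlgebra.lift φ).toRingHom q =
        PrimeSpectrum.comap a.toRingHom (PrimeSpectrum.comap (MvPolynomial.eval x) q) := by
      ext z
      simp only [PrimeSpectrum.comap_asIdeal, Ideal.mem_comap]
      rw [hφ]
      simp [aeval_eq_eval]
    rw [h2]
    exact h1
  · intro m hm
    obtain ⟨φ, hφ⟩ := h m
    let x : Fin n → R ⧸ m := fun i => φ (π (fun j => if i = j then 1 else 0))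
    have hφx : SymmetricAlgebra.lift φ =
        (aeval x : MvPolynomial (Fin n) R →ₐ[R] R ⧸ m).comp a := by
      apply SymmetricAlgebra.algHom_ext
      ext ν
      have e1 : φ ν = ∑ i, (ι ν) i • x i := by
        conv_lhs => rw [hsum ν, map_sum]
        simp only [map_smul, x]
      simp [a, hXl, e1]
    refine ⟨x, fun q => ?_⟩
    rw [hU']
    have h1 := hφ q
    have h2 : PrimeSpectrum.comap (SymmetricAlgebra.lift φ).toRingHom q =
        PrimeSpectrum.comap a.toRingHom
          (PrimeSpectrum.comap (MvPolynomial.eval₂Hom (Ideal.Quotient.mk m) x) q) := by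
      ext z
      simp only [PrimeSpectrum.comap_asIdeal, Ideal.mem_comap]
      rw [hφx]
      rfl
    rw [← h2]
    exact h1

end Groth.Agent.Lib.Helper84.LG
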