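import Groth.Agent.Lib.Helper84.LGSym
import Mathlib.Algebra.MvPolynomial.Funext
import Mathlib.RingTheory.Polynomial.Basic

/-!
LG-rings: symmetric algebra of a finite projective module is a retract of a polynomial ring;
points over infinite residue fields (helper84).
-/

set_option autoImplicit false
universe u v
open TensorProduct

namespace Groth.Agent.Lib.Helper84.LG

open LGRing MvPolynomial

/-- The symmetric algebra of a finite projective module is a retract of a polynomial ring. -/
theorem exists_retract_mvPolynomial {R : Type u} [CommRing R]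
    (N : Type v) [AddCommGroup N] [Module R N] [Module.Finite R N] [Module.Projective R N] :
    ∃ (n : ℕ) (a : SymmetricAlgebra R N →ₐ[R] MvPolynomial (Fin n) R)
      (b : MvPolynomial (Fin n) R →ₐ[R] SymmetricAlgebra R N), b.comp a = AlgHom.id R _ := by
  classical
  obtain ⟨n, π, ι, -, -, hπι⟩ := Module.Finite.exists_comp_eq_id_of_projective R N
  have hπι' : ∀ ν, π (ι ν) = ν := fun ν => LinearMap.congr_fun hπι ν
  let Xl : (Fin n → R) →ₗ[R] MvPolynomial (Fin n) R :=
    ∑ i : Fin n, (LinearMap.proj i : (Fin n → R) →ₗ[R] R).smulRight (X i : MvPolynomial (Fin n) R)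
  have hXl : ∀ v, Xl v = ∑ i, v i • (X i : MvPolynomial (Fin n) R) := by
    intro v
    simp [Xl, LinearMap.sum_apply, LinearMap.smulRight_apply]
  have hsum : ∀ ν, ν = ∑ i, (ι ν) i • π (fun j => if i = j then 1 else 0) := by
    intro ν
    conv_lhs => rw [← hπι' ν, LinearMap.pi_apply_eq_sum_univ π (ι ν)]
  refine ⟨n, SymmetricAlgebra.lift (Xl ∘ₗ ι),
    aeval (fun i => SymmetricAlgebra.ι R N (π (fun j => if i = j then 1 else 0))), ?_⟩
  apply SymmetricAlgebra.algHom_ext
  ext ν
  have e1 : SymmetricAlgebra.ι R N ν =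
      ∑ i, (ι ν) i • SymmetricAlgebra.ι R N (π (fun j => if i = j then 1 else 0)) := by
    conv_lhs => rw [hsum ν, map_sum]
    simp only [map_smul]
  simp [hXl, ← e1]

/-- Over an infinite residue field, an element of `Sym(N)` not in `m Sym(N)` is nonzero at
some point. -/
theorem exists_lift_ne_zero_of_notMem {R : Type u} [CommRing R]
    (N : Type v) [AddCommGroup N] [Module R N] [Module.Finite R N] [Module.Projective R N]
    (m : Ideal R) [m.IsMaximal] [Infinite (R ⧸ m)] (g : SymmetricAlgebra R N)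
    (hg : g ∉ Ideal.map (algebraMap R (SymmetricAlgebra R N)) m) :
    ∃ φ : N →ₗ[R] R ⧸ m, SymmetricAlgebra.lift φ g ≠ 0 := by
  obtain ⟨n, a, b, hba⟩ := exists_retract_mvPolynomial (R := R) N
  have hba' : ∀ z, b (a z) = z := fun z => AlgHom.congr_fun hba z
  have h1 : a g ∉ Ideal.map (C : R →+* MvPolynomial (Fin n) R) m := by
    intro hmem
    apply hg
    have h2 : b (a g) ∈ Ideal.map b.toRingHom (Ideal.map (C : R →+* MvPolynomial (Fin n) R) m) :=
      Ideal.mem_map_of_mem _ hmem
    rw [Ideal.map_map, hba'] at h2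
    have h3 : b.toRingHom.comp (C : R →+* MvPolynomial (Fin n) R) =
        algebraMap R (SymmetricAlgebra R N) := by
      ext r
      simp
    rwa [h3] at h2
  have h2 : MvPolynomial.map (Ideal.Quotient.mk m) (a g) ≠ 0 := by
    intro h0
    apply h1
    have : a g ∈ RingHom.ker (MvPolynomial.map (Ideal.Quotient.mk m) :
        MvPolynomial (Fin n) R →+* MvPolynomial (Fin n) (R ⧸ m)) := h0
    rwa [MvPolynomial.ker_map, Ideal.mk_ker] at this
  letI := Ideal.Quotient.field m
  obtain ⟨x, hx⟩ : ∃ x : Fin n → R ⧸ m,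
      MvPolynomial.eval x (MvPolynomial.map (Ideal.Quotient.mk m) (a g)) ≠ 0 := by
    by_contra hcon
    push Not at hcon
    apply h2
    apply MvPolynomial.funext
    intro x
    rw [hcon x, map_zero]
  let χ : SymmetricAlgebra R N →ₐ[R] R ⧸ m :=
    (aeval x : MvPolynomial (Fin n) R →ₐ[R] R ⧸ m).comp a
  refine ⟨χ.toLinearMap ∘ₗ SymmetricAlgebra.ι R N, ?_⟩
  have hχ : SymmetricAlgebra.lift (χ.toLinearMap ∘ₗ SymmetricAlgebra.ι R N) = χ := by
    apply SymmetricAlgebra.algHom_ext
    rw [SymmetricAlgebra.lift_comp_ι]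
    rfl
  rw [hχ]
  rw [MvPolynomial.eval_map] at hx
  exact hx

end Groth.Agent.Lib.Helper84.LG
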