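import Groth.Agent.Lib.Helper59.OrbitClosure
import Mathlib.RingTheory.MvPolynomial.Homogeneous

/-!
For a linear coaction on a polynomial ring, the homogeneous polynomials of a given degree form a
subcomodule (helper84).
-/

set_option autoImplicit false
set_option linter.unusedSectionVars false
universe u v w
open TensorProduct

namespace Groth.Agent.Lib.Helper84.LinGrading

section
variable {k : Type u} [Field k] {A : Type v} [CommRing A] [Bialgebra k A]
  {ι : Type w} [Fintype ι] [HopfRep.Comod k A (MvPolynomial ι k)]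
  [GLin.IsCoactAlg k A (MvPolynomial ι k)]

local notation "P" => MvPolynomial ι k

/-- The image of `H_d ⊗ A` in `P ⊗ A`. -/
noncomputable def T (k : Type u) [Field k] (A : Type v) [CommRing A] [Bialgebra k A]
    (ι : Type w) (d : ℕ) : Submodule k (MvPolynomial ι k ⊗[k] A) :=
  LinearMap.range ((MvPolynomial.homogeneousSubmodule ι k d).subtype.rTensor A)

theorem tmul_mem_T {d : ℕ} {f : P} (hf : f.IsHomogeneous d) (a : A) : f ⊗ₜ[k] a ∈ T k A ι d :=
  ⟨(⟨f, hf⟩ : MvPolynomial.homogeneousSubmodule ι k d) ⊗ₜ[k] a, by simp⟩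

theorem mul_mem_T {d e : ℕ} {x y : P ⊗[k] A} (hx : x ∈ T k A ι d) (hy : y ∈ T k A ι e) :
    x * y ∈ T k A ι (d + e) := by
  obtain ⟨x', rfl⟩ := hx
  obtain ⟨y', rfl⟩ := hy
  induction x' using TensorProduct.induction_on with
  | zero => simp
  | tmul f a =>
    induction y' using TensorProduct.induction_on with
    | zero => simp
    | tmul g b =>
      rw [LinearMap.rTensor_tmul, LinearMap.rTensor_tmul, Algebra.TensorProduct.tmul_mul_tmul]
      exact tmul_mem_T (f.2.mul g.2) _
    | add y z hy hz =>
      rw [map_add, mul_add]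
      exact Submodule.add_mem _ hy hz
  | add x z hx hz =>
    rw [map_add, add_mul]
    exact Submodule.add_mem _ hx hz

theorem coact_mem_T_of_isHomogeneous (hlin : GLin.IsLinear k A ι) {d : ℕ} {F : P}
    (hF : F.IsHomogeneous d) :
    HopfRep.Comod.coact (k := k) (A := A) F ∈ T k A ι d := by
  classical
  have hmono : ∀ (s : ι →₀ ℕ) (a : k), ∃ d, (MvPolynomial.monomial s a).IsHomogeneous d ∧
      HopfRep.Comod.coact (k := k) (A := A) (MvPolynomial.monomial s a : P) ∈ T k A ι d := by
    refine MvPolynomial.induction_on_monomial (motive := fun p : P => ∃ d, p.IsHomogeneous d ∧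
      HopfRep.Comod.coact (k := k) (A := A) p ∈ T k A ι d) ?_ ?_
    · intro a
      refine ⟨0, MvPolynomial.isHomogeneous_C _ a, ?_⟩
      have : HopfRep.Comod.coact (k := k) (A := A) (MvPolynomial.C a : P) =
          (MvPolynomial.C a : P) ⊗ₜ[k] (1 : A) := by
        have h := (GLin.coactAlgHom k A P).commutes a
        rw [GLin.coactAlgHom_apply] at h
        rw [MvPolynomial.algebraMap_eq] at h
        rw [h, Algebra.TensorProduct.algebraMap_apply, MvPolynomial.algebraMap_eq]
      rw [this]
      exact tmul_mem_T (MvPolynomial.isHomogeneous_C _ a) _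
    · rintro p n ⟨d, hp, hpT⟩
      refine ⟨d + 1, hp.mul (MvPolynomial.isHomogeneous_X _ n), ?_⟩
      rw [GLin.IsCoactAlg.coact_mul]
      apply mul_mem_T hpT
      obtain ⟨m, hm⟩ := hlin n
      rw [hm]
      exact Submodule.sum_mem _ (fun j _ => tmul_mem_T (MvPolynomial.isHomogeneous_X _ j) _)
  rw [← MvPolynomial.support_sum_monomial_coeff F, map_sum]
  apply Submodule.sum_mem
  intro s hs
  obtain ⟨d', hd', hT⟩ := hmono s (MvPolynomial.coeff s F)
  have hne : (MvPolynomial.monomial s (MvPolynomial.coeff s F) : P) ≠ 0 := by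
    rw [Ne, MvPolynomial.monomial_eq_zero]
    exact MvPolynomial.mem_support_iff.mp hs
  have hd : (MvPolynomial.monomial s (MvPolynomial.coeff s F) : P).IsHomogeneous d :=
    MvPolynomial.isHomogeneous_monomial _ (by
      rw [Finsupp.degree_eq_weight_one]
      exact hF (MvPolynomial.mem_support_iff.mp hs))
  rw [hd.inj_right hd' hne]
  exact hT

/-- For a linear coaction, the homogeneous polynomials of degree `d` form a subcomodule. -/
theorem isSubcomod_homogeneousSubmodule (hlin : GLin.IsLinear k A ι) (d : ℕ) :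
    HopfRep.IsSubcomod (k := k) (A := A) (MvPolynomial.homogeneousSubmodule ι k d) :=
  fun _ hw => coact_mem_T_of_isHomogeneous hlin hw

end

end Groth.Agent.Lib.Helper84.LinGrading
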