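import Groth.Agent.Lib.Helper84.LinRedInt

/-!
Semisimplicity of all comodules (in any universe) from a normalised integral (helper84).
-/

set_option autoImplicit false
set_option linter.style.haveILetI false
universe u v w w'
open TensorProduct

namespace Groth.Agent.Lib.Helper84.LinRedAll

open Groth.Agent.Lib.Helper84.ComodHomDual Groth.Agent.Lib.Helper84.LDual
open Groth.Agent.Lib.Helper93.Comod Groth.Agent.Lib.Helper84.LinRedKL
open Groth.Agent.H40

section Reynolds
variable {k : Type u} [Field k] {A : Type v} [CommRing A] [Bialgebra k A]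
variable {X : Type w} [AddCommGroup X] [Module k X] [HopfRep.Comod k A X]

omit [HopfRep.Comod k A X] in
theorem slice_assoc_symm (I : A →ₗ[k] k) (x : X) (s : A ⊗[k] A) :
    slice I ((TensorProduct.assoc k X A A).symm (x ⊗ₜ[k] s)) = x ⊗ₜ[k] slice I s := by
  induction s using TensorProduct.induction_on with
  | zero => simp
  | tmul a b => simp [TensorProduct.tmul_smul]
  | add s t hs ht => simp only [TensorProduct.tmul_add, map_add, hs, ht]

omit [HopfRep.Comod k A X] in
theorem slice_assoc_symm_comul (I : A →ₗ[k] k)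
    (hI : ∀ a : A, slice I (Coalgebra.comul (R := k) a) = I a • (1 : A)) (t : X ⊗[k] A) :
    slice I ((TensorProduct.assoc k X A A).symm
      ((CoalgebraStruct.comul (R := k) (A := A)).lTensor X t)) = (slice I t) ⊗ₜ[k] (1 : A) := by
  induction t using TensorProduct.induction_on with
  | zero => simp
  | tmul x a =>
    rw [LinearMap.lTensor_tmul, slice_assoc_symm]
    have := hI a
    change slice I (CoalgebraStruct.comul (R := k) a) = _ at this
    rw [this, slice_tmul, TensorProduct.tmul_smul, TensorProduct.smul_tmul']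
  | add s t hs ht => simp only [map_add, hs, ht, TensorProduct.add_tmul]

/-- The Reynolds operator attached to a normalised integral takes values in the fixed vectors. -/
theorem coact_dualAct_of_integral (I : A →ₗ[k] k)
    (hI : ∀ a : A, slice I (Coalgebra.comul (R := k) a) = I a • (1 : A)) (x : X) :
    HopfRep.Comod.coact (k := k) (A := A) (dualAct A X I x) = (dualAct A X I x) ⊗ₜ[k] (1 : A) := by
  have h0 : dualAct A X I x = slice I (HopfRep.Comod.coact (k := k) (A := A) x) := rfl
  rw [h0, ← slice_rTensor]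
  have hco := LinearMap.congr_fun (HopfRep.Comod.coassoc (k := k) (A := A) (V := X)) x
  simp only [LinearMap.comp_apply, LinearEquiv.coe_coe] at hco
  rw [← slice_assoc_symm_comul I hI, ← hco, LinearEquiv.symm_apply_apply]

end Reynolds

section KL
variable {k : Type u} [Field k] {A : Type v} [CommRing A] [HopfAlgebra k A]

/-- The condition `Cond` for comodules in an arbitrary universe and of arbitrary dimension. -/
def CondW (k : Type u) [Field k] (A : Type v) [CommRing A] [HopfAlgebra k A] : Prop :=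
  ∀ (V : Type w) [AddCommGroup V] [Module k V] [HopfRep.Comod k A V],
    ∀ π : V →ₗ[k] k, Function.Surjective π →
      LinearMap.rTensor A π ∘ₗ HopfRep.Comod.coact (k := k) (A := A) (V := V) =
        (TensorProduct.mk k k A).flip (1 : A) ∘ₗ π →
      ∃ v ∈ HopfRep.fixedPts k A V, π v ≠ 0

theorem condW_of_hasIntegral (h : LinRedInt.HasIntegral k A) : CondW.{u, v, w} k A := by
  obtain ⟨I, hI1, hI⟩ := h
  intro V _ _ c π hsurj hπ
  obtain ⟨v, hv⟩ := hsurj 1
  refine ⟨dualAct A V I v, coact_dualAct_of_integral I hI v, ?_⟩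
  letI : HopfRep.Comod k A k := HopfRep.Comod.trivial k A k
  have hπ' : Hoch.IsComodHom A π := hπ.symm
  rw [← dualAct_comm_of_isComodHom π hπ' I v, hv, dualAct_apply]
  change (TensorProduct.rid k k) (I.lTensor k ((1 : k) ⊗ₜ[k] (1 : A))) ≠ 0
  simp [hI1]

variable {V : Type w} [AddCommGroup V] [Module k V] [Module.Finite k V]

/-- Under `CondW`, every subcomodule of a finite-dimensional comodule admits a comodule retraction. -/
theorem exists_retraction' (hcond : CondW.{u, v, w} k A) (c : HopfRep.Comod k A V) (W : Submodule k V)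
    (hW : @HopfRep.IsSubcomod k A _ _ _ _ V _ _ c W) (hW0 : W ≠ ⊥) :
    ∃ p : V →ₗ[k] W, @Hoch.IsComodHom k _ A _ _ _ V _ _ c W _ _ (ComodSub.Comod.restr c W hW) p ∧
      ∀ w : W, p w = w := by
  classical
  haveI : Module.FinitePresentation k V := Module.finitePresentation_of_projective k V
  -- the structures
  let cW : HopfRep.Comod k A W := ComodSub.Comod.restr c W hW
  have hι : ∀ w : W, c.coact (W.subtype w) = (W.subtype.rTensor A) (cW.coact w) := fun w =>
    (ComodSub.restr_coact_coe c W hW w).symm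
  obtain ⟨d, hd⟩ := Groth.Agent.S16471.result k A V c
  let T : HopfRep.Comod k A (W ⊗[k] Module.Dual k V) := ComodTens.Comod.tensor cW d
  have hbij : Function.Bijective (Theta (k := k) (B := W) (M := V)) := by
    unfold Theta
    rw [LinearMap.coe_comp]
    exact (dualTensorHom_bijective_of_finitePresentation_of_flat k V W).comp
      (TensorProduct.comm k W (Module.Dual k V)).bijective
  let Θ : (W ⊗[k] Module.Dual k V) ≃ₗ[k] (V →ₗ[k] W) := LinearEquiv.ofBijective Theta hbij
  have hΘ : ∀ x, Θ x = Theta x := fun x => rfl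
  let TH : HopfRep.Comod k A (V →ₗ[k] W) := ComodTens.Comod.ofEquiv Θ T
  -- the action of linear forms on `Hom(V, W)`
  have hact : ∀ (φ : A →ₗ[k] k) (p : V →ₗ[k] W),
      @dualAct k _ A _ _ _ (V →ₗ[k] W) _ _ TH φ p = act cW c φ p := by
    intro φ p
    obtain ⟨x, rfl⟩ := Θ.surjective p
    rw [dualAct_ofEquiv, hΘ, hΘ, Theta_dualAct cW c d hd]
  -- the restriction map and the subcomodule `Y`
  let R : (V →ₗ[k] W) →ₗ[k] (W →ₗ[k] W) := LinearMap.lcomp k W W.subtype
  have hR : ∀ p, R p = p ∘ₗ W.subtype := fun p => rfl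
  let Y : Submodule k (V →ₗ[k] W) := (Submodule.span k {(LinearMap.id : W →ₗ[k] W)}).comap R
  have hRact : ∀ (φ : A →ₗ[k] k) (p : V →ₗ[k] W) (a : k), R p = a • LinearMap.id →
      R (act cW c φ p) = (a * φ 1) • LinearMap.id := by
    intro φ p a hp
    rw [hR, ← act_comp cW c cW W.subtype hι, ← hR, hp, act_smul,
      act_of_isComodHom cW cW LinearMap.id (fun m => by simp), smul_smul]
  have hY : @HopfRep.IsSubcomod k A _ _ _ _ (V →ₗ[k] W) _ _ TH Y := by
    letI := TH
    rw [isSubcomod_iff]
    intro φ p hp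
    obtain ⟨a, ha⟩ := Submodule.mem_span_singleton.mp (Submodule.mem_comap.mp hp)
    rw [hact]
    apply Submodule.mem_comap.mpr
    rw [hRact φ p a ha.symm]
    exact Submodule.smul_mem _ _ (Submodule.mem_span_singleton_self _)
  -- a linear form with value one at the identity
  have hid : (LinearMap.id : W →ₗ[k] W) ≠ 0 := by
    intro h
    apply hW0
    rw [eq_bot_iff]
    intro w hw
    have : (LinearMap.id : W →ₗ[k] W) ⟨w, hw⟩ = 0 := by rw [h]; rfl
    rw [Submodule.mem_bot]
    exact congrArg Subtype.val this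
  obtain ⟨ℓ, hℓ⟩ := Module.Projective.exists_dual_eq_one k hid
  let cY : HopfRep.Comod k A Y := @ComodSub.Comod.restr k _ A _ _ _ _ (V →ₗ[k] W) _ _ TH Y hY
  let π : Y →ₗ[k] k := ℓ ∘ₗ R ∘ₗ Y.subtype
  have hπ : ∀ (y : Y) (a : k), R y = a • LinearMap.id → π y = a := by
    intro y a hy
    change ℓ (R y) = a
    rw [hy, map_smul, hℓ, smul_eq_mul, mul_one]
  -- surjectivity
  obtain ⟨p₀, hp₀⟩ := LinearMap.exists_leftInverse_of_injective W.subtype W.ker_subtype
  have hp₀Y : p₀ ∈ Y := by
    apply Submodule.mem_comap.mpr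
    rw [hR, hp₀]
    exact Submodule.mem_span_singleton_self _
  have hsurj : Function.Surjective π := by
    intro a
    refine ⟨a • ⟨p₀, hp₀Y⟩, ?_⟩
    apply hπ
    change R (a • p₀) = _
    rw [map_smul, hR, hp₀]
  -- comodule map
  have hsubY : @Hoch.IsComodHom k _ A _ _ _ Y _ _ cY (V →ₗ[k] W) _ _ TH Y.subtype :=
    @ComodSub.isComodHom_subtype k _ A _ _ _ _ (V →ₗ[k] W) _ _ TH Y hY
  have hπhom : LinearMap.rTensor A π ∘ₗ cY.coact = (TensorProduct.mk k k A).flip (1 : A) ∘ₗ π := by
    letI := cY
    letI := TH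
    letI : HopfRep.Comod k A k := HopfRep.Comod.trivial k A k
    have : @Hoch.IsComodHom k _ A _ _ _ Y _ _ cY k _ _ (HopfRep.Comod.trivial k A k) π := by
      rw [isComodHom_iff]
      intro φ y
      obtain ⟨a, ha⟩ := Submodule.mem_span_singleton.mp (Submodule.mem_comap.mp y.2)
      have h1 : R (dualAct A Y φ y : Y) = (a * φ 1) • LinearMap.id := by
        have h0 : ((dualAct A Y φ y : Y) : V →ₗ[k] W) =
            dualAct A (V →ₗ[k] W) φ (y : V →ₗ[k] W) :=
          (dualAct_comm_of_isComodHom Y.subtype hsubY φ y).symm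
        rw [h0, hact, hRact φ _ a ha.symm]
      rw [hπ _ _ h1, hπ y a ha.symm, dualAct_apply]
      change (TensorProduct.rid k k) (φ.lTensor k (a ⊗ₜ[k] (1 : A))) = _
      simp [mul_comm]
    exact this.symm
  -- apply the condition
  obtain ⟨y, hyfix, hy0⟩ := @hcond Y _ _ cY π hsurj hπhom
  obtain ⟨a, ha⟩ := Submodule.mem_span_singleton.mp (Submodule.mem_comap.mp y.2)
  have hay : π y = a := hπ y a ha.symm
  have ha0 : a ≠ 0 := by rw [← hay]; exact hy0
  -- `y` is a fixed vector of `Hom(V, W)`
  have hyH : TH.coact (y : V →ₗ[k] W) = (y : V →ₗ[k] W) ⊗ₜ[k] (1 : A) := by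
    have h1 : cY.coact y = y ⊗ₜ[k] (1 : A) := hyfix
    have h2 := @ComodSub.restr_coact_coe k _ A _ _ _ _ (V →ₗ[k] W) _ _ TH Y hY y
    rw [← h2]
    change Y.subtype.rTensor A (cY.coact y) = _
    rw [h1]
    simp
  obtain ⟨x, hx⟩ := Θ.surjective (y : V →ₗ[k] W)
  have hxfix : T.coact x = x ⊗ₜ[k] (1 : A) := by
    apply coact_eq_of_ofEquiv_fixed Θ T 1 x
    rw [hx]
    exact hyH
  have hyhom : @Hoch.IsComodHom k _ A _ _ _ V _ _ c W _ _ cW (y : V →ₗ[k] W) := by
    rw [← hx, hΘ]
    exact (mem_fixedPts_iff cW c d hd x).mp hxfix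
  refine ⟨a⁻¹ • (y : V →ₗ[k] W), ?_, ?_⟩
  · unfold Hoch.IsComodHom at hyhom ⊢
    rw [LinearMap.comp_smul, LinearMap.rTensor_smul, LinearMap.smul_comp, hyhom]
  · intro w
    have : R (y : V →ₗ[k] W) w = (a • LinearMap.id : W →ₗ[k] W) w := by rw [ha]
    rw [hR] at this
    simp only [LinearMap.comp_apply, Submodule.subtype_apply, LinearMap.smul_apply,
      LinearMap.id_apply] at this
    rw [LinearMap.smul_apply, this, smul_smul, inv_mul_cancel₀ ha0, one_smul]


/-- Finite-dimensional comodules (in any universe) are semisimple. -/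
theorem isSemisimpleComod_of_finite (hcond : CondW.{u, v, w} k A) (c : HopfRep.Comod k A V) :
    HopfRep.IsSemisimpleComod k A V := by
  intro W hW
  by_cases hW0 : W = ⊥
  · refine ⟨⊤, isSubcomod_top, ?_⟩
    rw [hW0]
    exact isCompl_bot_top
  · obtain ⟨p, hp, hpW⟩ := exists_retraction' hcond c W hW hW0
    letI := ComodSub.Comod.restr c W hW
    exact ⟨LinearMap.ker p, Groth.Agent.Lib.Helper93.Comod.isSubcomod_ker p hp,
      LinearMap.isCompl_of_proj hpW⟩

end KL

section All
variable {k : Type u} [Field k] {A : Type v} [CommRing A] [HopfAlgebra k A]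
variable {V : Type w} [AddCommGroup V] [Module k V] [c : HopfRep.Comod k A V]

theorem isSemisimpleModule_toSub' (hcond : CondW.{u, v, w} k A)
    (W : Submodule k V) (hW : HopfRep.IsSubcomod (k := k) (A := A) W) [Module.Finite k W] :
    IsSemisimpleModule (DualAlg k A) (toSub W hW) := by
  letI cW : HopfRep.Comod k A ↥W := ComodSub.Comod.restr c W hW
  have hsub : Hoch.IsComodHom A W.subtype := ComodSub.isComodHom_subtype c W hW
  have hss : HopfRep.IsSemisimpleComod k A ↥W := isSemisimpleComod_of_finite hcond cW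
  rw [isSemisimpleComod_iff] at hss
  let f : AsMod k A ↥W →ₗ[DualAlg k A] AsMod k A V := toModHom W.subtype hsub
  have hf : Function.Injective f := by
    intro x y hxy
    simp only [f, toModHom_apply] at hxy
    have := (AsMod.equiv k A V).injective hxy
    exact (AsMod.equiv k A ↥W).symm.injective (Subtype.ext this)
  have hr : LinearMap.range f = toSub W hW := by
    ext x
    simp only [LinearMap.mem_range, mem_toSub]
    constructor
    · rintro ⟨y, rfl⟩
      simp [f]
    · intro hx
      refine ⟨AsMod.equiv k A ↥W ⟨_, hx⟩, ?_⟩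
      simp [f]
  have e : AsMod k A ↥W ≃ₗ[DualAlg k A] toSub W hW :=
    (LinearEquiv.ofInjective f hf).trans (LinearEquiv.ofEq _ _ hr)
  exact (e.isSemisimpleModule_iff).mp hss

/-- With a normalised integral, every comodule, of any dimension and in any universe, is
semisimple. -/
theorem isSemisimpleComod_of_hasIntegral (h : LinRedInt.HasIntegral k A) :
    HopfRep.IsSemisimpleComod k A V := by
  have hcond : CondW.{u, v, w} k A := condW_of_hasIntegral h
  rw [isSemisimpleComod_iff]
  let ι := {W : Submodule k V // HopfRep.IsSubcomod (k := k) (A := A) W ∧ Module.Finite k W}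
  refine isSemisimpleModule_of_isSemisimpleModule_submodule' (ι := ι)
    (p := fun W => toSub W.1 W.2.1) (fun W => ?_) ?_
  · haveI := W.2.2
    exact isSemisimpleModule_toSub' hcond W.1 W.2.1
  · rw [eq_top_iff]
    intro x _
    obtain ⟨W, hfin, hxW, hW⟩ :=
      Groth.Agent.H40.exists_finite_subcomod_mem (k := k) (C := A) ((AsMod.equiv k A V).symm x)
    have : x ∈ toSub W hW := by simpa using hxW
    exact (le_iSup (fun W : ι => toSub W.1 W.2.1) ⟨W, hW, hfin⟩) this

end All

end Groth.Agent.Lib.Helper84.LinRedAll
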