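import Groth.Agent.Lib.Helper84.LinRedKL
import Groth.Prelude.Def_Hoch

/-!
Vanishing of the first Hochschild cohomology of finite-dimensional comodules implies linear
reductivity (helper84).
-/

set_option autoImplicit false
set_option linter.style.haveILetI false
universe u v w w'
open TensorProduct

namespace Groth.Agent.Lib.Helper84.LinRedKL

open Groth.Agent.Lib.Helper93.Comod

section D1
variable {k : Type u} [CommRing k] {A : Type v} [Ring A] [Bialgebra k A]
variable (V : Type v) [AddCommGroup V] [Module k V] [HopfRep.Comod k A V]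

local notation "Δ" => (CoalgebraStruct.comul (R := k) (A := A))

omit [HopfRep.Comod k A V] in
theorem tail_apply (y : V ⊗[k] A) :
    Hoch.tail k A V y = (TensorProduct.assoc k V A A).symm (LinearMap.lTensor V Δ y) - y ⊗ₜ[k] (1 : A) -
      ((TensorProduct.mk k V A).flip 1).rTensor A y := by
  induction y using TensorProduct.induction_on with
  | zero => simp
  | tmul m a =>
    rw [Hoch.tail_tmul]
    simp [TensorProduct.tmul_sub]
  | add x y hx hy =>
    simp only [map_add, hx, hy, TensorProduct.add_tmul]
    abel

/-- A closed formula for the differential in degree one. -/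
theorem d_one_apply (y : V ⊗[k] A) :
    Hoch.d k A V 1 y = (HopfRep.Comod.coact (k := k) (A := A) (V := V)).rTensor A y -
      (TensorProduct.assoc k V A A).symm (LinearMap.lTensor V Δ y) + y ⊗ₜ[k] (1 : A) := by
  change Hoch.d k A V (0 + 1) y = _
  rw [Hoch.d_succ, Hoch.d_zero]
  have h := tail_apply V y
  simp only [LinearMap.add_apply, LinearMap.smul_apply, zero_add, pow_one, neg_smul, one_smul]
  rw [LinearMap.rTensor_sub, LinearMap.sub_apply]
  change _ - _ + -(Hoch.tail k A V y) = _
  rw [h]
  abel

/-- `∂ ∘ ∂ = 0` in degree zero. -/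
theorem d_one_d_zero (v : V) : Hoch.d k A V 1 (Hoch.d k A V 0 v) = 0 := by
  rw [d_one_apply, Hoch.d_zero_apply]
  have hco := LinearMap.congr_fun (HopfRep.Comod.coassoc (k := k) (A := A) (V := V)) v
  simp only [LinearMap.comp_apply, LinearEquiv.coe_coe] at hco
  rw [map_sub, map_sub, map_sub, ← hco, LinearEquiv.symm_apply_apply]
  simp only [LinearMap.rTensor_tmul, LinearMap.lTensor_tmul, Bialgebra.comul_one,
    Algebra.TensorProduct.one_def, TensorProduct.assoc_symm_tmul, TensorProduct.sub_tmul]
  abel

end D1

section Nat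
variable {k : Type u} [CommRing k] {A : Type v} [Ring A] [Bialgebra k A]
variable {U : Type v} [AddCommGroup U] [Module k U] [HopfRep.Comod k A U]
variable {V : Type v} [AddCommGroup V] [Module k V] [HopfRep.Comod k A V]

theorem d_zero_natural (f : U →ₗ[k] V) (hf : Hoch.IsComodHom A f) (u : U) :
    f.rTensor A (Hoch.d k A U 0 u) = Hoch.d k A V 0 (f u) := by
  have h := LinearMap.congr_fun hf u
  simp only [LinearMap.comp_apply] at h
  rw [Hoch.d_zero_apply, Hoch.d_zero_apply, map_sub, ← h, LinearMap.rTensor_tmul]

theorem d_one_natural (f : U →ₗ[k] V) (hf : Hoch.IsComodHom A f) (x : U ⊗[k] A) :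
    (f.rTensor A).rTensor A (Hoch.d k A U 1 x) = Hoch.d k A V 1 (f.rTensor A x) := by
  rw [d_one_apply, d_one_apply, map_add, map_sub, LinearMap.rTensor_tmul]
  have h1 : (f.rTensor A).rTensor A ((HopfRep.Comod.coact (k := k) (A := A) (V := U)).rTensor A x) =
      (HopfRep.Comod.coact (k := k) (A := A) (V := V)).rTensor A (f.rTensor A x) := by
    rw [← LinearMap.comp_apply, ← LinearMap.rTensor_comp, ← LinearMap.comp_apply,
      ← LinearMap.rTensor_comp, hf]
  have h2 : (f.rTensor A).rTensor A ((TensorProduct.assoc k U A A).symm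
      ((CoalgebraStruct.comul (R := k) (A := A)).lTensor U x)) =
      (TensorProduct.assoc k V A A).symm
        ((CoalgebraStruct.comul (R := k) (A := A)).lTensor V (f.rTensor A x)) := by
    rw [LinearEquiv.eq_symm_apply, ComodTens.assoc_rTensor_rTensor, LinearEquiv.apply_symm_apply,
      ComodTens.lTensor_rTensor_comm]
  rw [h1, h2]

end Nat

section H1
variable {k : Type u} [Field k] {A : Type v} [CommRing A] [HopfAlgebra k A]

/-- Vanishing of `H^1` on finite-dimensional comodules implies `Cond`. -/
theorem cond_of_H1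
    (h : ∀ (V : Type v) [AddCommGroup V] [Module k V] [HopfRep.Comod k A V], Module.Finite k V →
        Hoch.cocycles k A V 1 ≤ Hoch.coboundaries k A V 1) :
    Cond k A := by
  intro V _ _ c hfin π hsurj hπ
  have hker : HopfRep.IsSubcomod (k := k) (A := A) (LinearMap.ker π) := by
    letI : HopfRep.Comod k A k := HopfRep.Comod.trivial k A k
    have hπ' : Hoch.IsComodHom A π := hπ.symm
    exact isSubcomod_ker π hπ'
  let K := LinearMap.ker π
  letI cK : HopfRep.Comod k A K := ComodSub.Comod.restr c K hker
  have hι : Hoch.IsComodHom A K.subtype := ComodSub.isComodHom_subtype c K hker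
  obtain ⟨v₀, hv₀⟩ := hsurj 1
  -- the cocycle
  have hz : Hoch.d k A V 0 v₀ ∈ LinearMap.range (K.subtype.rTensor A) := by
    have hex : Function.Exact (K.subtype.rTensor A) (π.rTensor A) :=
      rTensor_exact A (LinearMap.exact_subtype_ker_map π) hsurj
    apply (hex _).mp
    have := LinearMap.congr_fun hπ v₀
    simp only [LinearMap.comp_apply] at this
    rw [Hoch.d_zero_apply, map_sub, this, LinearMap.rTensor_tmul]
    simp
  obtain ⟨z', hz'⟩ := hz
  have hinj1 : Function.Injective (K.subtype.rTensor A) :=
    Module.Flat.rTensor_preserves_injective_linearMap _ K.injective_subtype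
  have hinj2 : Function.Injective ((K.subtype.rTensor A).rTensor A) :=
    Module.Flat.rTensor_preserves_injective_linearMap _ hinj1
  have hcoc : z' ∈ Hoch.cocycles k A K 1 := by
    change Hoch.d k A K 1 z' = 0
    apply hinj2
    rw [d_one_natural K.subtype hι, hz', d_one_d_zero, map_zero]
  obtain ⟨w, hw⟩ := h K inferInstance hcoc
  have hw' : Hoch.d k A K 0 w = z' := hw
  refine ⟨v₀ - w, ?_, ?_⟩
  · change c.coact (v₀ - (w : V)) = (v₀ - (w : V)) ⊗ₜ[k] (1 : A)
    have h0 : Hoch.d k A V 0 (v₀ - (w : V)) = 0 := by
      rw [map_sub, ← hz', ← hw']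
      have := d_zero_natural K.subtype hι w
      rw [this]
      simp
    rw [Hoch.d_zero_apply] at h0
    exact sub_eq_zero.mp h0
  · rw [map_sub, hv₀, LinearMap.mem_ker.mp w.2, sub_zero]
    exact one_ne_zero

end H1

end Groth.Agent.Lib.Helper84.LinRedKL
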