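import Groth.Agent.Lib.Helper84.LinRedInt
import Mathlib.RingTheory.Bialgebra.MonoidAlgebra
import Mathlib.RingTheory.Bialgebra.Equiv

/-!
Group algebras have a normalised integral; transport of integrals along bialgebra isomorphisms
(helper84).
-/

set_option autoImplicit false
universe u v w w'
open TensorProduct

namespace Groth.Agent.Lib.Helper84.LinRedInt

open Groth.Agent.H40

section Transport
variable {K : Type u} [Field K] {B : Type v} [CommRing B] [Bialgebra K B]
  {C : Type w} [CommRing C] [Bialgebra K C]

theorem slice_map (e : B →ₗ[K] C) (I : C →ₗ[K] K) (t : B ⊗[K] B) :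
    e (slice (I ∘ₗ e) t) = slice I (TensorProduct.map e e t) := by
  induction t using TensorProduct.induction_on with
  | zero => simp
  | tmul a b => simp
  | add x y hx hy => simp only [map_add, hx, hy]

theorem hasIntegral_of_bialgEquiv (e : B ≃ₐc[K] C) (h : HasIntegral K C) : HasIntegral K B := by
  obtain ⟨I, hI1, hI⟩ := h
  refine ⟨I ∘ₗ (e : B →ₗ[K] C), ?_, ?_⟩
  · rw [LinearMap.comp_apply]
    have : (e : B →ₗ[K] C) 1 = 1 := map_one e
    rw [this, hI1]
  · intro x
    apply e.injective
    have h1 := slice_map (e : B →ₗ[K] C) I (Coalgebra.comul (R := K) x)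
    have h2 : TensorProduct.map (e : B →ₗ[K] C) (e : B →ₗ[K] C) (Coalgebra.comul (R := K) x) =
        Coalgebra.comul (R := K) (e x) := CoalgHomClass.map_comp_comul_apply e x
    rw [h2, hI] at h1
    change (e : B →ₗ[K] C) _ = (e : B →ₗ[K] C) _
    rw [h1, map_smul]
    have : (e : B →ₗ[K] C) 1 = 1 := map_one e
    rw [this]
    rfl

end Transport

section GroupAlgebra
variable (K : Type u) [Field K] (G : Type v) [CommGroup G]

theorem hasIntegral_monoidAlgebra : HasIntegral K (MonoidAlgebra K G) := by
  classical
  let I : MonoidAlgebra K G →ₗ[K] K :=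
    (Finsupp.lapply (1 : G)) ∘ₗ (MonoidAlgebra.coeffLinearEquiv K).toLinearMap
  have hIs : ∀ (g : G) (c : K), I (MonoidAlgebra.single g c) = if g = 1 then c else 0 := by
    intro g c
    change (MonoidAlgebra.single g c).coeff 1 = _
    rw [MonoidAlgebra.coeff_single, Finsupp.single_apply]
  refine ⟨I, ?_, ?_⟩
  · rw [MonoidAlgebra.one_def, hIs, if_pos rfl]
  · intro x
    induction x using MonoidAlgebra.induction_linear with
    | zero => simp
    | add x y hx hy => rw [map_add, map_add, hx, hy, map_add, add_smul]
    | single g c =>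
      rw [MonoidAlgebra.comul_single, CommSemiring.comul_apply, TensorProduct.map_tmul, slice_tmul]
      change I (MonoidAlgebra.single g c) • MonoidAlgebra.single g (1 : K) = _
      rw [hIs]
      by_cases hg : g = 1
      · subst hg
        rw [if_pos rfl, MonoidAlgebra.one_def]
      · rw [if_neg hg, zero_smul, zero_smul]

end GroupAlgebra

end Groth.Agent.Lib.Helper84.LinRedInt
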