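import Groth.Prelude.Def_Conn
import Groth.Prelude.Def_W4swconnpcurvhiggsLogLam
import Mathlib.RingTheory.Kaehler.Basic
import Mathlib.Data.Finset.Sort
import Mathlib.Data.Finset.Max

/-!
Helper lemmas on the pieces `E_I` of a logarithmic λ-connection (helper84).
-/

set_option autoImplicit false
universe v u
open TensorProduct

namespace Groth.Agent.Lib.Helper84.LogC

section
variable {A : Type v} {B L E : Type u} [CommRing A] [CommRing B]
    [Algebra A B] [AddCommGroup L] [Module B L] [Module A L] [IsScalarTower A B L]
    [AddCommGroup E] [Module B E] [Module A E] [IsScalarTower A B E]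
    {n : ℕ}

/-- The product of the `t i` over a finite set. -/
def tt (t : Fin n → B) (S : Finset (Fin n)) : B := ∏ i ∈ S, t i

omit [Module A L] [IsScalarTower A B L] in
theorem compProd_empty (nabla : E →ₗ[A] E ⊗[B] L) (ω : Module.Basis (Fin n) B L) :
    LogConn.compProd nabla ω ∅ = LinearMap.id := by
  simp [LogConn.compProd]

omit [Module A L] [IsScalarTower A B L] in
theorem compProd_insert (nabla : E →ₗ[A] E ⊗[B] L) (ω : Module.Basis (Fin n) B L)
    (j : Fin n) (J : Finset (Fin n)) (hj : ∀ x ∈ J, j < x) :
    LogConn.compProd nabla ω (insert j J) = LogConn.comp nabla ω j ∘ₗ LogConn.compProd nabla ω J := by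
  have hnot : j ∉ J := fun h => lt_irrefl _ (hj j h)
  unfold LogConn.compProd
  rw [Finset.sort_insert (r := (· ≤ ·)) (fun b hb => (hj b hb).le) hnot, List.foldr_cons]

omit [Module A L] [IsScalarTower A B L] in
theorem mem_piece (nabla : E →ₗ[A] E ⊗[B] L) (ω : Module.Basis (Fin n) B L) (t : Fin n → B)
    (I J : Finset (Fin n)) (hJ : J ⊆ I) (e : E) :
    tt t (I \ J) • LogConn.compProd nabla ω J e ∈ LogConn.piece nabla ω t I := by
  unfold LogConn.piece
  refine Submodule.mem_iSup_of_mem J (Submodule.mem_iSup_of_mem (Finset.mem_powerset.mpr hJ) ?_)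
  exact ⟨e, rfl⟩

omit [Module A L] [IsScalarTower A B L] in
theorem piece_le (nabla : E →ₗ[A] E ⊗[B] L) (ω : Module.Basis (Fin n) B L) (t : Fin n → B)
    (I : Finset (Fin n)) (Q : Submodule A E)
    (h : ∀ J, J ⊆ I → ∀ e : E, tt t (I \ J) • LogConn.compProd nabla ω J e ∈ Q) :
    LogConn.piece nabla ω t I ≤ Q := by
  unfold LogConn.piece
  refine iSup_le fun J => iSup_le fun hJ => ?_
  rintro _ ⟨e, rfl⟩
  exact h J (Finset.mem_powerset.mp hJ) e

omit [Module A L] [IsScalarTower A B L] in
/-- (M): multiplying `E_J` by `t_{I∖J}` lands in `E_I`. -/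
theorem tt_smul_mem_piece (nabla : E →ₗ[A] E ⊗[B] L) (ω : Module.Basis (Fin n) B L) (t : Fin n → B)
    (I J : Finset (Fin n)) (hJ : J ⊆ I) (x : E) (hx : x ∈ LogConn.piece nabla ω t J) :
    tt t (I \ J) • x ∈ LogConn.piece nabla ω t I := by
  have key : LogConn.piece nabla ω t J ≤
      (LogConn.piece nabla ω t I).comap ((LinearMap.lsmul B E (tt t (I \ J))).restrictScalars A) := by
    apply piece_le
    intro J' hJ' e
    rw [Submodule.mem_comap, LinearMap.restrictScalars_apply, LinearMap.lsmul_apply, smul_smul]
    have : tt t (I \ J) * tt t (J \ J') = tt t (I \ J') := by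
      unfold tt
      rw [← Finset.prod_union]
      · congr 1
        ext i
        simp only [Finset.mem_union, Finset.mem_sdiff]
        constructor
        · rintro (⟨h1, h2⟩ | ⟨h1, h2⟩)
          · exact ⟨h1, fun h => h2 (hJ' h)⟩
          · exact ⟨hJ h1, h2⟩
        · rintro ⟨h1, h2⟩
          by_cases h : i ∈ J
          · exact Or.inr ⟨h, h2⟩
          · exact Or.inl ⟨h1, h⟩
      · rw [Finset.disjoint_left]
        intro i hi hi'
        exact (Finset.mem_sdiff.mp hi).2 (Finset.mem_sdiff.mp hi').1
    rw [this]
    exact mem_piece nabla ω t I J' (hJ'.trans hJ) e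
  exact key hx

end

section Leib
variable {A : Type v} {B L E : Type u} [CommRing A] [CommRing B]
    [Algebra A B] [AddCommGroup L] [Module B L] [Module A L] [IsScalarTower A B L]
    [AddCommGroup E] [Module B E] [Module A E] [IsScalarTower A B E]
    {n : ℕ}
    (lam : B) (t : Fin n → B) (bΩ : Module.Basis (Fin n) B (KaehlerDifferential A B))
    (hbΩ : ∀ i, bΩ i = KaehlerDifferential.D A B (t i))
    (ω : Module.Basis (Fin n) B L) (ι : KaehlerDifferential A B →ₗ[B] L)
    (hι : ∀ i, ι (KaehlerDifferential.D A B (t i)) = t i • ω i)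
    (nabla : E →ₗ[A] E ⊗[B] L)
    (hc : Conn.IsLamConn (ι.compDer (KaehlerDifferential.D A B)) lam nabla)

/-- The partial derivative `∂_i b`: the coefficient of `d t_i` in `d b`. -/
noncomputable def pd (bΩ : Module.Basis (Fin n) B (KaehlerDifferential A B)) (i : Fin n) (b : B) : B :=
  bΩ.coord i (KaehlerDifferential.D A B b)

include hbΩ hι in
theorem coord_iota_D (i : Fin n) (b : B) :
    ω.coord i (ι (KaehlerDifferential.D A B b)) = pd bΩ i b * t i := by
  have h1 : KaehlerDifferential.D A B b = ∑ j, pd bΩ j b • bΩ j := by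
    unfold pd
    simp only [Module.Basis.coord_apply]
    exact (bΩ.sum_repr _).symm
  conv_lhs => rw [h1]
  simp only [map_sum, map_smul, hbΩ, hι, Module.Basis.coord_apply, Module.Basis.repr_self,
    smul_eq_mul]
  rw [Finset.sum_eq_single i]
  · simp
  · intro j _ hji
    simp [hji]
  · simp

include hbΩ hι hc in
/-- (L): the twisted Leibniz rule for the components of `∇`. -/
theorem comp_smul (i : Fin n) (b : B) (e : E) :
    LogConn.comp nabla ω i (b • e) =
      b • LogConn.comp nabla ω i e + (lam * pd bΩ i b * t i) • e := by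
  unfold LogConn.comp
  rw [Conn.along_apply, hc b e, map_add, map_add, map_smul, map_smul, ← Conn.along_apply,
    map_smul, map_smul, TensorProduct.map_tmul, TensorProduct.rid_tmul, LinearMap.id_apply]
  have e0 : (ι.compDer (KaehlerDifferential.D A B)) b = ι (KaehlerDifferential.D A B b) := rfl
  rw [e0, coord_iota_D t bΩ hbΩ ω ι hι, smul_smul, mul_assoc]

include hbΩ in
theorem pd_t (i j : Fin n) : pd bΩ i (t j) = if j = i then 1 else 0 := by
  unfold pd
  rw [← hbΩ j, Module.Basis.coord_apply, Module.Basis.repr_self, Finsupp.single_apply]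

theorem pd_mul (i : Fin n) (x y : B) : pd bΩ i (x * y) = x * pd bΩ i y + y * pd bΩ i x := by
  unfold pd
  rw [Derivation.leibniz, map_add, map_smul, map_smul, smul_eq_mul, smul_eq_mul]

theorem pd_one (i : Fin n) : pd bΩ i (1 : B) = 0 := by
  unfold pd
  rw [Derivation.map_one_eq_zero, map_zero]

include hbΩ in
/-- (V): `∂_j` kills products of the `t i`, `i ≠ j`. -/
theorem pd_tt (j : Fin n) (S : Finset (Fin n)) (hj : j ∉ S) : pd bΩ j (tt t S) = 0 := by
  classical
  unfold tt
  induction S using Finset.induction_on with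
  | empty => simp [pd_one]
  | insert a S ha ih =>
    rw [Finset.prod_insert ha, pd_mul, ih (fun h => hj (Finset.mem_insert_of_mem h)),
      pd_t t bΩ hbΩ]
    have : a ≠ j := fun h => hj (h ▸ Finset.mem_insert_self a S)
    simp [this]

include hbΩ hι hc in
/-- The key claim: `b • ∇_J e ∈ E_J`. -/
theorem smul_compProd_mem (J : Finset (Fin n)) :
    ∀ (b : B) (e : E), b • LogConn.compProd nabla ω J e ∈ LogConn.piece nabla ω t J := by
  classical
  induction J using Finset.induction_on_min with
  | empty =>
    intro b e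
    have := mem_piece nabla ω t ∅ ∅ (subset_refl _) (b • e)
    simpa [tt, compProd_empty] using this
  | insert j J'' hj ih =>
    intro b e
    have hnot : j ∉ J'' := fun h => lt_irrefl _ (hj j h)
    rw [compProd_insert nabla ω j J'' hj, LinearMap.comp_apply]
    have h1 := comp_smul lam t bΩ hbΩ ω ι hι nabla hc j b (LogConn.compProd nabla ω J'' e)
    have h2 : b • LogConn.comp nabla ω j (LogConn.compProd nabla ω J'' e) =
        LogConn.comp nabla ω j (b • LogConn.compProd nabla ω J'' e) -
          (lam * pd bΩ j b * t j) • LogConn.compProd nabla ω J'' e := by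
      rw [h1]; abel
    rw [h2]
    refine Submodule.sub_mem _ ?_ ?_
    · -- ∇_j maps E_{J''} into E_J
      have key : LogConn.piece nabla ω t J'' ≤
          (LogConn.piece nabla ω t (insert j J'')).comap (LogConn.comp nabla ω j) := by
        apply piece_le
        intro J' hJ' e'
        rw [Submodule.mem_comap, comp_smul lam t bΩ hbΩ ω ι hι nabla hc,
          pd_tt t bΩ hbΩ j (J'' \ J') (fun h => hnot (Finset.mem_sdiff.mp h).1)]
        simp only [mul_zero, zero_mul, zero_smul, add_zero]
        have hj' : ∀ x ∈ J', j < x := fun x hx => hj x (hJ' hx)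
        have e1 : LogConn.comp nabla ω j (LogConn.compProd nabla ω J' e') =
            LogConn.compProd nabla ω (insert j J') e' := by
          rw [compProd_insert nabla ω j J' hj', LinearMap.comp_apply]
        have e2 : J'' \ J' = insert j J'' \ insert j J' := by
          ext i
          simp only [Finset.mem_sdiff, Finset.mem_insert]
          constructor
          · rintro ⟨k1, k2⟩
            refine ⟨Or.inr k1, ?_⟩
            rintro (k3 | k3)
            · exact hnot (k3 ▸ k1)
            · exact k2 k3
          · rintro ⟨k1 | k1, k2⟩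
            · exact absurd (Or.inl k1) k2
            · exact ⟨k1, fun k3 => k2 (Or.inr k3)⟩
        rw [e1, e2]
        exact mem_piece nabla ω t (insert j J'') (insert j J') (Finset.insert_subset_insert j hJ') e'
      exact key (ih b e)
    · have e3 : (lam * pd bΩ j b * t j) • LogConn.compProd nabla ω J'' e =
          tt t (insert j J'' \ J'') • ((lam * pd bΩ j b) • LogConn.compProd nabla ω J'' e) := by
        have : insert j J'' \ J'' = {j} := by
          ext i
          simp only [Finset.mem_sdiff, Finset.mem_insert, Finset.mem_singleton]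
          constructor
          · rintro ⟨k1 | k1, k2⟩
            · exact k1
            · exact absurd k1 k2
          · intro k1
            exact ⟨Or.inl k1, k1 ▸ hnot⟩
        rw [this, smul_smul]
        simp [tt, mul_comm]
      rw [e3]
      exact tt_smul_mem_piece nabla ω t (insert j J'') J'' (Finset.subset_insert j J'') _ (ih _ e)

include hbΩ hι hc in
/-- The piece `E_I` is stable under multiplication by `B`. -/
theorem smul_mem_piece (I : Finset (Fin n)) (b : B) (x : E)
    (hx : x ∈ LogConn.piece nabla ω t I) : b • x ∈ LogConn.piece nabla ω t I := by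
  have key : LogConn.piece nabla ω t I ≤
      (LogConn.piece nabla ω t I).comap ((LinearMap.lsmul B E b).restrictScalars A) := by
    apply piece_le
    intro J hJ e
    rw [Submodule.mem_comap, LinearMap.restrictScalars_apply, LinearMap.lsmul_apply, smul_comm]
    exact tt_smul_mem_piece nabla ω t I J hJ _
      (smul_compProd_mem lam t bΩ hbΩ ω ι hι nabla hc J b e)
  exact key hx

end Leib

end Groth.Agent.Lib.Helper84.LogC

namespace Groth.Agent.Lib.Helper84.LogC

section Span
variable {A : Type v} {B L E : Type u} [CommRing A] [CommRing B]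
    [Algebra A B] [AddCommGroup L] [Module B L] [Module A L] [IsScalarTower A B L]
    [AddCommGroup E] [Module B E] [Module A E] [IsScalarTower A B E]
    {n : ℕ}
    (lam : B) (t : Fin n → B) (bΩ : Module.Basis (Fin n) B (KaehlerDifferential A B))
    (hbΩ : ∀ i, bΩ i = KaehlerDifferential.D A B (t i))
    (ω : Module.Basis (Fin n) B L) (ι : KaehlerDifferential A B →ₗ[B] L)
    (hι : ∀ i, ι (KaehlerDifferential.D A B (t i)) = t i • ω i)
    (nabla : E →ₗ[A] E ⊗[B] L)
    (hc : Conn.IsLamConn (ι.compDer (KaehlerDifferential.D A B)) lam nabla)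
    {m : ℕ} (e : Fin m → E)

/-- The finite generating set of `E_I`. -/
def gensS (I : Finset (Fin n)) : Set E :=
  ⋃ J ∈ I.powerset, Set.range (fun k : Fin m => tt t (I \ J) • LogConn.compProd nabla ω J (e k))

/-- The `B`-span of the generating set. -/
def SS (I : Finset (Fin n)) : Submodule B E := Submodule.span B (gensS t ω nabla e I)

omit [Module A L] [IsScalarTower A B L] in
theorem gen_mem_SS (I J : Finset (Fin n)) (hJ : J ⊆ I) (k : Fin m) :
    tt t (I \ J) • LogConn.compProd nabla ω J (e k) ∈ SS t ω nabla e I := by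
  apply Submodule.subset_span
  simp only [gensS, Set.mem_iUnion]
  exact ⟨J, Finset.mem_powerset.mpr hJ, k, rfl⟩

omit [Module A L] [IsScalarTower A B L] in
theorem SS_le (I : Finset (Fin n)) (Q : Submodule B E)
    (h : ∀ J, J ⊆ I → ∀ k : Fin m, tt t (I \ J) • LogConn.compProd nabla ω J (e k) ∈ Q) :
    SS t ω nabla e I ≤ Q := by
  apply Submodule.span_le.mpr
  intro x hx
  simp only [gensS, Set.mem_iUnion] at hx
  obtain ⟨J, hJ, k, rfl⟩ := hx
  exact h J (Finset.mem_powerset.mp hJ) k

omit [Module A L] [IsScalarTower A B L] in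
/-- (M''): multiplying `S_J` by `t_{I∖J}` lands in `S_I`. -/
theorem tt_smul_mem_SS (I J : Finset (Fin n)) (hJ : J ⊆ I) (y : E) (hy : y ∈ SS t ω nabla e J) :
    tt t (I \ J) • y ∈ SS t ω nabla e I := by
  have key : SS t ω nabla e J ≤ (SS t ω nabla e I).comap (LinearMap.lsmul B E (tt t (I \ J))) := by
    apply SS_le
    intro J' hJ' k
    rw [Submodule.mem_comap, LinearMap.lsmul_apply, smul_smul]
    have : tt t (I \ J) * tt t (J \ J') = tt t (I \ J') := by
      unfold tt
      rw [← Finset.prod_union]
      · congr 1
        ext i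
        simp only [Finset.mem_union, Finset.mem_sdiff]
        constructor
        · rintro (⟨k1, k2⟩ | ⟨k1, k2⟩)
          · exact ⟨k1, fun k3 => k2 (hJ' k3)⟩
          · exact ⟨hJ k1, k2⟩
        · rintro ⟨k1, k2⟩
          by_cases k3 : i ∈ J
          · exact Or.inr ⟨k3, k2⟩
          · exact Or.inl ⟨k1, k3⟩
      · rw [Finset.disjoint_left]
        intro i hi hi'
        exact (Finset.mem_sdiff.mp hi).2 (Finset.mem_sdiff.mp hi').1
    rw [this]
    exact gen_mem_SS t ω nabla e I J' (hJ'.trans hJ) k
  exact key hy

include hbΩ hι hc in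
/-- (C): `∇_j` maps `S_{J''}` into `S_{insert j J''}` when `j` is below `J''`. -/
theorem comp_mem_SS (j : Fin n) (J'' : Finset (Fin n)) (hj : ∀ x ∈ J'', j < x) (y : E)
    (hy : y ∈ SS t ω nabla e J'') :
    LogConn.comp nabla ω j y ∈ SS t ω nabla e (insert j J'') := by
  classical
  have hnot : j ∉ J'' := fun h => lt_irrefl _ (hj j h)
  have hsing : insert j J'' \ J'' = {j} := by
    ext i
    simp only [Finset.mem_sdiff, Finset.mem_insert, Finset.mem_singleton]
    constructor
    · rintro ⟨k1 | k1, k2⟩
      · exact k1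
      · exact absurd k1 k2
    · intro k1
      exact ⟨Or.inl k1, k1 ▸ hnot⟩
  unfold SS at hy
  induction hy using Submodule.span_induction with
  | mem x hx =>
    simp only [gensS, Set.mem_iUnion] at hx
    obtain ⟨J', hJ', k, rfl⟩ := hx
    have hJ'' := Finset.mem_powerset.mp hJ'
    rw [comp_smul lam t bΩ hbΩ ω ι hι nabla hc,
      pd_tt t bΩ hbΩ j (J'' \ J') (fun h => hnot (Finset.mem_sdiff.mp h).1)]
    simp only [mul_zero, zero_mul, zero_smul, add_zero]
    have hj' : ∀ x ∈ J', j < x := fun x hx => hj x (hJ'' hx)
    have e1 : LogConn.comp nabla ω j (LogConn.compProd nabla ω J' (e k)) =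
        LogConn.compProd nabla ω (insert j J') (e k) := by
      rw [compProd_insert nabla ω j J' hj', LinearMap.comp_apply]
    have e2 : J'' \ J' = insert j J'' \ insert j J' := by
      ext i
      simp only [Finset.mem_sdiff, Finset.mem_insert]
      constructor
      · rintro ⟨k1, k2⟩
        refine ⟨Or.inr k1, ?_⟩
        rintro (k3 | k3)
        · exact hnot (k3 ▸ k1)
        · exact k2 k3
      · rintro ⟨k1 | k1, k2⟩
        · exact absurd (Or.inl k1) k2
        · exact ⟨k1, fun k3 => k2 (Or.inr k3)⟩
    rw [e1, e2]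
    exact gen_mem_SS t ω nabla e (insert j J'') (insert j J') (Finset.insert_subset_insert j hJ'') k
  | zero => rw [map_zero]; exact Submodule.zero_mem _
  | add x y _ _ hx hy => rw [map_add]; exact Submodule.add_mem _ hx hy
  | smul b x hx ih =>
    rw [comp_smul lam t bΩ hbΩ ω ι hι nabla hc]
    refine Submodule.add_mem _ (Submodule.smul_mem _ _ ih) ?_
    have e3 : (lam * pd bΩ j b * t j) • x = (lam * pd bΩ j b) • (tt t (insert j J'' \ J'') • x) := by
      rw [hsing, smul_smul]
      simp [tt]
    rw [e3]
    exact Submodule.smul_mem _ _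
      (tt_smul_mem_SS t ω nabla e (insert j J'') J'' (Finset.subset_insert j J'') x hx)

include hbΩ hι hc in
/-- `∇_J x ∈ S_J` for every `x`, when the `e k` generate `E`. -/
theorem compProd_mem_SS (he : Submodule.span B (Set.range e) = ⊤) (J : Finset (Fin n)) :
    ∀ x : E, LogConn.compProd nabla ω J x ∈ SS t ω nabla e J := by
  classical
  induction J using Finset.induction_on_min with
  | empty =>
    intro x
    rw [compProd_empty, LinearMap.id_apply]
    have hx : x ∈ Submodule.span B (Set.range e) := by rw [he]; trivial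
    have hle : Submodule.span B (Set.range e) ≤ SS t ω nabla e ∅ := by
      apply Submodule.span_le.mpr
      rintro _ ⟨k, rfl⟩
      have := gen_mem_SS t ω nabla e ∅ ∅ (subset_refl _) k
      simpa [tt, compProd_empty] using this
    exact hle hx
  | insert j J'' hj ih =>
    intro x
    rw [compProd_insert nabla ω j J'' hj, LinearMap.comp_apply]
    exact comp_mem_SS lam t bΩ hbΩ ω ι hι nabla hc e j J'' hj _ (ih x)

include hbΩ hι hc in
/-- `E_I` is the `B`-span of the finitely many generators. -/
theorem SS_restrictScalars_eq_piece (he : Submodule.span B (Set.range e) = ⊤) (I : Finset (Fin n)) :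
    (SS t ω nabla e I).restrictScalars A = LogConn.piece nabla ω t I := by
  apply le_antisymm
  · -- the piece, made into a `B`-submodule
    let P' : Submodule B E :=
      { carrier := (LogConn.piece nabla ω t I : Set E)
        add_mem' := fun ha hb => Submodule.add_mem _ ha hb
        zero_mem' := Submodule.zero_mem _
        smul_mem' := fun b x hx => smul_mem_piece lam t bΩ hbΩ ω ι hι nabla hc I b x hx }
    have hle : SS t ω nabla e I ≤ P' := by
      apply SS_le
      intro J hJ k
      exact mem_piece nabla ω t I J hJ (e k)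
    intro x hx
    exact hle hx
  · apply piece_le
    intro J hJ x
    rw [Submodule.restrictScalars_mem]
    exact tt_smul_mem_SS t ω nabla e I J hJ _
      (compProd_mem_SS lam t bΩ hbΩ ω ι hι nabla hc e he J x)

end Span

end Groth.Agent.Lib.Helper84.LogC
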