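import Mathlib
import Groth.Agent.Lib.Helper84.PolyFFUnion
import Groth.Agent.Lib.Helper59.PointsOfFT

/-!
# Extension of rational points from Hopf subalgebras (helper84)

Over an algebraically closed field `k`, every `k`-point of a Hopf subalgebra `B` of a commutative
Hopf algebra `A` (not necessarily of finite type) extends to a `k`-point of `A`:
`G(k) → (G/N)(k)` is surjective for pro-algebraic affine groups.
-/

set_option autoImplicit false
set_option linter.style.haveILetI false
set_option linter.unusedSectionVars false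
open TensorProduct
universe u v

namespace Groth.Agent.Lib.Helper84.PointExt

open Groth.Agent.Lib.Helper86.HopfSub Groth.Agent.Lib.Helper84.PolyFFUnion

section OneStep

variable {k : Type u} [Field k] [IsAlgClosed k] {A : Type v} [CommRing A] [HopfAlgebra k A]

/-- one-step extension of a character along `B ≤ B ⊔ C`, `C` finitely generated. -/
theorem exists_extension_sup (B : Subalgebra k A) (hB : IsHopfSub k A B) (χ : B →ₐ[k] k)
    (C : Subalgebra k A) (hC : C.FG) :
    ∃ χ' : (B ⊔ C : Subalgebra k A) →ₐ[k] k,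
      ∀ b : B, χ' (Subalgebra.inclusion le_sup_left b) = χ b := by
  haveI : Module.FaithfullyFlat B A := faithfullyFlat_hopfSub B hB
  let m : Ideal B := RingHom.ker (χ : B →+* k)
  have hm : m ≠ ⊤ := RingHom.ker_ne_top _
  let mA : Ideal A := Ideal.map (algebraMap B A) m
  have hmA : mA ≠ ⊤ := by
    intro h
    apply hm
    have h1 := Ideal.comap_map_eq_self_of_faithfullyFlat (B := A) m
    rw [← h1]
    change Ideal.comap (algebraMap B A) mA = ⊤
    rw [h, Ideal.comap_top]
  let q : A →ₐ[k] A ⧸ mA := Ideal.Quotient.mkₐ k mA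
  let Cb : Subalgebra k (A ⧸ mA) := C.map q
  haveI : Algebra.FiniteType k Cb := (Subalgebra.fg_iff_finiteType _).1 (hC.map q)
  haveI : Nontrivial (A ⧸ mA) := Ideal.Quotient.nontrivial_iff.2 hmA
  obtain ⟨x, -⟩ := Groth.Agent.Lib.Helper59.exists_algHom_of_ne_top k Cb ⊥ bot_ne_top
  have hqB : ∀ b : B, q (b : A) = algebraMap k (A ⧸ mA) (χ b) := by
    intro b
    have h1 : b - algebraMap k B (χ b) ∈ m := by
      rw [RingHom.mem_ker, map_sub]
      change χ b - χ (algebraMap k B (χ b)) = 0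
      rw [AlgHom.commutes]
      exact sub_self _
    have h2 : algebraMap B A (b - algebraMap k B (χ b)) ∈ mA := Ideal.mem_map_of_mem _ h1
    have h3 : q (algebraMap B A (b - algebraMap k B (χ b))) = 0 :=
      Ideal.Quotient.eq_zero_iff_mem.2 h2
    rw [map_sub, map_sub, sub_eq_zero] at h3
    have h4 : algebraMap B A (algebraMap k B (χ b)) = algebraMap k A (χ b) :=
      (IsScalarTower.algebraMap_apply k B A _).symm
    rw [h4, AlgHom.commutes] at h3
    exact h3
  have hle : B ⊔ C ≤ Cb.comap q := by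
    refine sup_le ?_ ?_
    · intro b hb
      rw [Subalgebra.mem_comap, hqB ⟨b, hb⟩]
      exact Subalgebra.algebraMap_mem _ _
    · intro c hc
      exact ⟨c, hc, rfl⟩
  let r : (B ⊔ C : Subalgebra k A) →ₐ[k] Cb :=
    (q.comp (B ⊔ C).val).codRestrict Cb (fun y => hle y.2)
  refine ⟨x.comp r, ?_⟩
  intro b
  have h1 : r (Subalgebra.inclusion le_sup_left b) = algebraMap k Cb (χ b) :=
    Subtype.ext (hqB b)
  rw [AlgHom.comp_apply, h1, AlgHom.commutes]
  rfl

end OneStep

section Zorn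

variable (k : Type u) [Field k] (A : Type v) [CommRing A] [HopfAlgebra k A]

/-- a Hopf subalgebra with a rational point. -/
structure HPt where
  B : Subalgebra k A
  hB : IsHopfSub k A B
  χ : B →ₐ[k] k

variable {k A}

instance : Preorder (HPt k A) where
  le p q := ∃ h : p.B ≤ q.B, ∀ b : p.B, q.χ (Subalgebra.inclusion h b) = p.χ b
  le_refl p := ⟨le_rfl, fun b => rfl⟩
  le_trans p q r := by
    rintro ⟨h1, h1'⟩ ⟨h2, h2'⟩
    refine ⟨h1.trans h2, fun b => ?_⟩
    rw [← h1' b, ← h2' (Subalgebra.inclusion h1 b)]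
    rfl

theorem HPt.le_def (p q : HPt k A) :
    p ≤ q ↔ ∃ h : p.B ≤ q.B, ∀ b : p.B, q.χ (Subalgebra.inclusion h b) = p.χ b := Iff.rfl

/-- upper bounds of chains. -/
theorem exists_ub (c : Set (HPt k A)) (hc : IsChain (· ≤ ·) c) (y : HPt k A) (hy : y ∈ c) :
    ∃ ub : HPt k A, ∀ z ∈ c, z ≤ ub := by
  haveI : Nonempty c := ⟨⟨y, hy⟩⟩
  let K : c → Subalgebra k A := fun i => i.1.B
  have dir : Directed (· ≤ ·) K := by
    intro i j
    rcases hc.total i.2 j.2 with h | h
    · exact ⟨j, h.1, le_rfl⟩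
    · exact ⟨i, le_rfl, h.1⟩
  let f : ∀ i : c, K i →ₐ[k] k := fun i => i.1.χ
  have hf : ∀ (i j : c) (h : K i ≤ K j), f i = (f j).comp (Subalgebra.inclusion h) := by
    intro i j h
    ext b
    rcases hc.total i.2 j.2 with h' | h'
    · obtain ⟨h1, h2⟩ := h'
      exact (h2 b).symm
    · obtain ⟨h1, h2⟩ := h'
      have := h2 (Subalgebra.inclusion h b)
      rw [AlgHom.comp_apply, ← this]
      rfl
  have hmem : ∀ b : A, b ∈ iSup K → ∃ i, b ∈ K i := by
    intro b hb
    have h1 : b ∈ ((iSup K : Subalgebra k A) : Set A) := hb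
    rw [Subalgebra.coe_iSup_of_directed dir] at h1
    exact Set.mem_iUnion.1 h1
  have hB : IsHopfSub k A (iSup K) := by
    constructor
    · intro b hb
      obtain ⟨i, hi⟩ := hmem b hb
      exact range_jj_mono (le_iSup K i) (i.1.hB.comul_mem b hi)
    · intro b hb
      obtain ⟨i, hi⟩ := hmem b hb
      exact (le_iSup K i) (i.1.hB.antipode_mem b hi)
  refine ⟨⟨iSup K, hB, Subalgebra.iSupLift K dir f hf (iSup K) le_rfl⟩, ?_⟩
  intro z hz
  refine ⟨le_iSup K ⟨z, hz⟩, fun b => ?_⟩
  exact Subalgebra.iSupLift_inclusion (K := K) (dir := dir) (f := f) (hf := hf) (T := iSup K)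
    (hT := le_rfl) (i := ⟨z, hz⟩) b (le_iSup K ⟨z, hz⟩)

end Zorn

section Main

variable {k : Type u} [Field k] [IsAlgClosed k] {A : Type v} [CommRing A] [HopfAlgebra k A]

/-- **rational points extend from Hopf subalgebras** (`k` algebraically closed). -/
theorem exists_extension (B : Subalgebra k A) (hB : IsHopfSub k A B) (χ : B →ₐ[k] k) :
    ∃ g : A →ₐ[k] k, ∀ b : B, g (b : A) = χ b := by
  obtain ⟨m, hxm, -, hmax⟩ := zorn_le_nonempty₀ (Set.univ : Set (HPt k A))
    (fun c _ hc y hy => by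
      obtain ⟨ub, hub⟩ := exists_ub c hc y hy
      exact ⟨ub, Set.mem_univ _, hub⟩) ⟨B, hB, χ⟩ (Set.mem_univ _)
  have htop : m.B = ⊤ := by
    by_contra hne
    obtain ⟨a, ha⟩ : ∃ a : A, a ∉ m.B := by
      by_contra hcon
      push Not at hcon
      exact hne (Algebra.eq_top_iff.2 hcon)
    obtain ⟨C, haC, hfg, hHC⟩ := exists_fg_hopfSub_mem (k := k) a
    obtain ⟨χ', hχ'⟩ := exists_extension_sup m.B m.hB m.χ C hfg
    have h1 : m ≤ ⟨m.B ⊔ C, isHopfSub_sup m.hB hHC, χ'⟩ := ⟨le_sup_left, hχ'⟩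
    obtain ⟨h2, -⟩ := hmax (Set.mem_univ _) h1
    exact ha (h2 ((le_sup_right : C ≤ m.B ⊔ C) haC))
  obtain ⟨h1, h2⟩ := hxm
  refine ⟨m.χ.comp ((AlgHom.id k A).codRestrict m.B (fun a => by rw [htop]; exact Algebra.mem_top)),
    fun b => ?_⟩
  rw [← h2 b]
  rfl

/-- an element killed by all rational points is nilpotent. -/
theorem isNilpotent_of_forall_algHom (a : A) (h : ∀ g : A →ₐ[k] k, g a = 0) : IsNilpotent a := by
  obtain ⟨C, haC, hfg, hHC⟩ := exists_fg_hopfSub_mem (k := k) a
  haveI : Algebra.FiniteType k C := (Subalgebra.fg_iff_finiteType _).1 hfg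
  have h1 : ∀ x : C →ₐ[k] k, x ⟨a, haC⟩ = 0 := by
    intro x
    obtain ⟨g, hg⟩ := exists_extension C hHC x
    rw [← hg ⟨a, haC⟩]
    exact h g
  have h2 : (⟨a, haC⟩ : C) ∈ nilradical C := by
    haveI : IsJacobsonRing C := isJacobsonRing_of_finiteType (A := k)
    have hJ : (nilradical C).jacobson = nilradical C :=
      IsJacobsonRing.out' _ (by rw [nilradical]; exact Ideal.radical_isRadical _)
    rw [← hJ, Ideal.jacobson, Ideal.mem_sInf]
    rintro M ⟨-, hM⟩
    haveI := hM
    obtain ⟨x, hx⟩ := Groth.Agent.Lib.Helper59.exists_algHom_ker_eq_of_isMaximal k C M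
    rw [← hx, RingHom.mem_ker]
    exact h1 x
  have h3 : IsNilpotent (⟨a, haC⟩ : C) := h2
  exact h3.map C.val

end Main

end Groth.Agent.Lib.Helper84.PointExt
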