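import Mathlib
import Groth.Prelude.Def_HopfRep
import Groth.Agent.Lib.Helper84.PointExt
import Groth.Agent.Lib.Helper84.HopfCartier
import Groth.Agent.H40.Comod

/-!
# Density of rational points in characteristic zero (helper84)

Over an algebraically closed field of characteristic zero the rational points of an affine group
scheme (not necessarily of finite type) separate the elements of its coordinate ring; hence a
subspace of a comodule stable under all rational points is a subcomodule.
-/

set_option autoImplicit false
set_option linter.style.haveILetI false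
set_option linter.unusedSectionVars false
open TensorProduct
universe u v w

namespace Groth.Agent.Lib.Helper84.PointDense

open Groth.Agent.Lib.Helper86.HopfSub Groth.Agent.Lib.Helper84.PolyFFUnion
open Groth.Agent.Lib.Helper84.PointExt Groth.Agent.H40

section Slice

variable {k : Type u} [Field k] {V : Type v} [AddCommGroup V] [Module k V]
  {C : Type w} [AddCommGroup C] [Module k C]

/-- an element of `V ⊗ C` all of whose slices vanish is zero (modules only). -/
theorem eq_zero_of_forall_slice' (t : V ⊗[k] C) (h : ∀ φ : C →ₗ[k] k, slice φ t = 0) : t = 0 := by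
  have h1 := mem_range_rTensor_subtype_of_forall_slice (⊥ : Submodule k V) t
    (fun φ => by rw [h φ]; exact Submodule.zero_mem _)
  obtain ⟨y, rfl⟩ := h1
  have h0 : ∀ y : (⊥ : Submodule k V) ⊗[k] C, y = 0 := by
    intro y
    induction y using TensorProduct.induction_on with
    | zero => rfl
    | tmul x a =>
      have : x = 0 := Subsingleton.elim _ _
      rw [this, TensorProduct.zero_tmul]
    | add y z hy hz => rw [hy, hz, add_zero]
  rw [h0 y, map_zero]

/-- slicing on the two sides commutes. -/
theorem slice_comm_slice (g : C →ₗ[k] k) (ψ : V →ₗ[k] k) (t : V ⊗[k] C) :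
    g (slice ψ (TensorProduct.comm k V C t)) = ψ (slice g t) := by
  induction t using TensorProduct.induction_on with
  | zero => simp
  | tmul x y => simp [mul_comm]
  | add x y hx hy => simp only [map_add, hx, hy]

end Slice

section Main

variable {k : Type u} [Field k] [IsAlgClosed k] [CharZero k] {A : Type v} [CommRing A]
  [HopfAlgebra k A]

/-- **in characteristic zero the rational points separate elements.** -/
theorem eq_zero_of_forall_algHom (a : A) (h : ∀ g : A →ₐ[k] k, g a = 0) : a = 0 := by
  have hnil := isNilpotent_of_forall_algHom a h
  obtain ⟨C, haC, hfg, hHC⟩ := exists_fg_hopfSub_mem (k := k) a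
  letI : HopfAlgebra k C := hopfAlgebraB hHC
  haveI : Algebra.FiniteType k C := (Subalgebra.fg_iff_finiteType _).1 hfg
  haveI : IsReduced C := Groth.Agent.Lib.Helper84.HopfCartier.isReduced_of_charZero k C
  have h1 : IsNilpotent (⟨a, haC⟩ : C) := by
    obtain ⟨n, hn⟩ := hnil
    exact ⟨n, Subtype.ext (by simpa using hn)⟩
  have h2 := IsReduced.eq_zero _ h1
  exact congrArg Subtype.val h2

/-- a tensor killed by all rational points is zero. -/
theorem eq_zero_of_forall_point {U : Type w} [AddCommGroup U] [Module k U] (t : U ⊗[k] A)
    (h : ∀ g : A →ₐ[k] k, slice g.toLinearMap t = 0) : t = 0 := by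
  have h1 : TensorProduct.comm k U A t = 0 := by
    apply eq_zero_of_forall_slice'
    intro ψ
    apply eq_zero_of_forall_algHom (k := k)
    intro g
    have := slice_comm_slice g.toLinearMap ψ t
    rw [h g, map_zero] at this
    exact this
  exact (LinearEquiv.map_eq_zero_iff _).1 h1

/-- **a subspace stable under all rational points is a subcomodule.** -/
theorem isSubcomod_of_forall_point {V : Type w} [AddCommGroup V] [Module k V]
    [HopfRep.Comod k A V] (W : Submodule k V)
    (hW : ∀ g : A →ₐ[k] k, W.map (HopfRep.Comod.act k A V g) ≤ W) :
    HopfRep.IsSubcomod (k := k) (A := A) W := by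
  intro w hw
  have hex : Function.Exact (W.subtype.rTensor A) (W.mkQ.rTensor A) :=
    rTensor_exact A (LinearMap.exact_subtype_mkQ W) (Submodule.mkQ_surjective W)
  apply (hex _).1
  apply eq_zero_of_forall_point
  intro g
  rw [slice_rTensor]
  have h1 : slice g.toLinearMap (HopfRep.Comod.coact (k := k) (A := A) w) =
      HopfRep.Comod.act k A V g w := rfl
  rw [h1, Submodule.mkQ_apply, Submodule.Quotient.mk_eq_zero]
  exact hW g ⟨w, hw, rfl⟩

end Main

end Groth.Agent.Lib.Helper84.PointDense
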