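import Groth.Prelude.Def_HopfRep
import Mathlib.RingTheory.HopfAlgebra.Convolution
import Mathlib.RingTheory.TensorProduct.Maps
import Mathlib.RingTheory.Flat.Basic
import Mathlib.Algebra.GroupWithZero.NonZeroDivisors

/-!
# The shear map of a comodule algebra

For a commutative comodule algebra `S` over a commutative Hopf algebra `H`, the map
`S ⊗ H → S ⊗ H`, `s ⊗ h ↦ ρ(s) (1 ⊗ h)`, is an algebra automorphism.  Consequently the coaction
preserves non-zero-divisors (when `H` is flat).
-/

set_option linter.unusedSectionVars false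
set_option linter.unusedVariables false
set_option linter.style.longLine false

universe u v w

open TensorProduct

namespace Groth.Agent.Lib.Helper84.Shear

section

variable {k : Type u} [CommRing k] {H : Type v} [CommRing H] [HopfAlgebra k H]
  {S : Type w} [CommRing S] [Algebra k S] [HopfRep.Comod k H S]
  (hmul : ∀ x y : S, HopfRep.Comod.coact (k := k) (A := H) (x * y) =
    HopfRep.Comod.coact (k := k) (A := H) x * HopfRep.Comod.coact (k := k) (A := H) y)
  (hone : HopfRep.Comod.coact (k := k) (A := H) (1 : S) = 1)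

/-- The coaction as an algebra map. -/
noncomputable def coactAlg : S →ₐ[k] S ⊗[k] H :=
  AlgHom.ofLinearMap (HopfRep.Comod.coact (k := k) (A := H)) hone hmul

theorem coactAlg_apply (s : S) :
    coactAlg hmul hone s = HopfRep.Comod.coact (k := k) (A := H) s := rfl

/-- The shear map `s ⊗ h ↦ ρ(s) (1 ⊗ h)`. -/
noncomputable def Phi : S ⊗[k] H →ₐ[k] S ⊗[k] H :=
  Algebra.TensorProduct.lift (coactAlg hmul hone) Algebra.TensorProduct.includeRight
    (fun _ _ => Commute.all _ _)

/-- The inverse shear map `s ⊗ h ↦ (id ⊗ S)(ρ(s)) (1 ⊗ h)`. -/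
noncomputable def Psi : S ⊗[k] H →ₐ[k] S ⊗[k] H :=
  Algebra.TensorProduct.lift
    ((Algebra.TensorProduct.map (AlgHom.id k S) (HopfAlgebra.antipodeAlgHom k H)).comp
      (coactAlg hmul hone))
    Algebra.TensorProduct.includeRight (fun _ _ => Commute.all _ _)

theorem Phi_tmul (s : S) (h : H) :
    Phi hmul hone (s ⊗ₜ[k] h) = HopfRep.Comod.coact (k := k) (A := H) s * ((1 : S) ⊗ₜ[k] h) := by
  rw [Phi, Algebra.TensorProduct.lift_tmul]
  rfl

theorem Psi_tmul (s : S) (h : H) :
    Psi hmul hone (s ⊗ₜ[k] h) =
      (HopfAlgebra.antipode k (A := H)).lTensor S (HopfRep.Comod.coact (k := k) (A := H) s) *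
        ((1 : S) ⊗ₜ[k] h) := by
  rw [Psi, Algebra.TensorProduct.lift_tmul]
  congr 1

/-- `x ⊗ h ↦ (id ⊗ S)(x) (1 ⊗ h)` in terms of the structure maps. -/
theorem aux_antipode_left (x : S ⊗[k] H) (h : H) :
    (LinearMap.mul' k H ∘ₗ (HopfAlgebra.antipode k (A := H)).rTensor H).lTensor S
        ((TensorProduct.assoc k S H H) (x ⊗ₜ[k] h)) =
      (HopfAlgebra.antipode k (A := H)).lTensor S x * ((1 : S) ⊗ₜ[k] h) := by
  induction x using TensorProduct.induction_on with
  | zero => simp
  | tmul a b => simp
  | add x y hx hy => simp only [TensorProduct.add_tmul, map_add, hx, hy, add_mul]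

/-- `x ⊗ h ↦ x (1 ⊗ S h)` in terms of the structure maps. -/
theorem aux_antipode_right (x : S ⊗[k] H) (h : H) :
    (LinearMap.mul' k H ∘ₗ (HopfAlgebra.antipode k (A := H)).lTensor H).lTensor S
        ((TensorProduct.assoc k S H H) (x ⊗ₜ[k] h)) =
      x * ((1 : S) ⊗ₜ[k] HopfAlgebra.antipode k h) := by
  induction x using TensorProduct.induction_on with
  | zero => simp
  | tmul a b => simp
  | add x y hx hy => simp only [TensorProduct.add_tmul, map_add, hx, hy, add_mul]

theorem Psi_eq_lin (x : S ⊗[k] H) :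
    Psi hmul hone x =
      (LinearMap.mul' k H ∘ₗ (HopfAlgebra.antipode k (A := H)).rTensor H).lTensor S
        ((TensorProduct.assoc k S H H)
          ((HopfRep.Comod.coact (k := k) (A := H) (V := S)).rTensor H x)) := by
  induction x using TensorProduct.induction_on with
  | zero => simp
  | tmul a b => rw [Psi_tmul, LinearMap.rTensor_tmul, aux_antipode_left]
  | add x y hx hy => simp only [map_add, hx, hy]

theorem Phi_antipode_eq_lin (x : S ⊗[k] H) :
    Phi hmul hone ((HopfAlgebra.antipode k (A := H)).lTensor S x) =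
      (LinearMap.mul' k H ∘ₗ (HopfAlgebra.antipode k (A := H)).lTensor H).lTensor S
        ((TensorProduct.assoc k S H H)
          ((HopfRep.Comod.coact (k := k) (A := H) (V := S)).rTensor H x)) := by
  induction x using TensorProduct.induction_on with
  | zero => simp
  | tmul a b =>
    rw [LinearMap.lTensor_tmul, Phi_tmul, LinearMap.rTensor_tmul, aux_antipode_right]
  | add x y hx hy => simp only [map_add, hx, hy]

theorem coassoc_apply (s : S) :
    (TensorProduct.assoc k S H H)
        ((HopfRep.Comod.coact (k := k) (A := H) (V := S)).rTensor H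
          (HopfRep.Comod.coact (k := k) (A := H) s)) =
      (CoalgebraStruct.comul (R := k) (A := H)).lTensor S
        (HopfRep.Comod.coact (k := k) (A := H) s) :=
  LinearMap.congr_fun (HopfRep.Comod.coassoc (k := k) (A := H) (V := S)) s

theorem counit_apply (s : S) :
    (CoalgebraStruct.counit (R := k) (A := H)).lTensor S
        (HopfRep.Comod.coact (k := k) (A := H) s) = s ⊗ₜ[k] (1 : k) :=
  LinearMap.congr_fun (HopfRep.Comod.counit_comp (k := k) (A := H) (V := S)) s

theorem Psi_coact (s : S) :
    Psi hmul hone (HopfRep.Comod.coact (k := k) (A := H) s) = s ⊗ₜ[k] (1 : H) := by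
  rw [Psi_eq_lin, coassoc_apply, ← LinearMap.comp_apply, ← LinearMap.lTensor_comp,
    LinearMap.comp_assoc, HopfAlgebra.mul_antipode_rTensor_comul, LinearMap.lTensor_comp,
    LinearMap.comp_apply, counit_apply, LinearMap.lTensor_tmul, Algebra.linearMap_apply, map_one]

theorem Phi_antipode_coact (s : S) :
    Phi hmul hone ((HopfAlgebra.antipode k (A := H)).lTensor S
      (HopfRep.Comod.coact (k := k) (A := H) s)) = s ⊗ₜ[k] (1 : H) := by
  rw [Phi_antipode_eq_lin, coassoc_apply, ← LinearMap.comp_apply, ← LinearMap.lTensor_comp,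
    LinearMap.comp_assoc, HopfAlgebra.mul_antipode_lTensor_comul, LinearMap.lTensor_comp,
    LinearMap.comp_apply, counit_apply, LinearMap.lTensor_tmul, Algebra.linearMap_apply, map_one]

theorem Psi_comp_Phi : (Psi hmul hone).comp (Phi hmul hone) = AlgHom.id k (S ⊗[k] H) := by
  apply Algebra.TensorProduct.ext'
  intro s h
  rw [AlgHom.comp_apply, Phi_tmul, map_mul, Psi_coact, Psi_tmul, hone,
    Algebra.TensorProduct.one_def, LinearMap.lTensor_tmul, HopfAlgebra.antipode_one,
    Algebra.TensorProduct.tmul_mul_tmul, Algebra.TensorProduct.tmul_mul_tmul, AlgHom.id_apply]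
  simp

theorem Phi_comp_Psi : (Phi hmul hone).comp (Psi hmul hone) = AlgHom.id k (S ⊗[k] H) := by
  apply Algebra.TensorProduct.ext'
  intro s h
  rw [AlgHom.comp_apply, Psi_tmul, map_mul, Phi_antipode_coact, Phi_tmul, hone,
    Algebra.TensorProduct.one_def, Algebra.TensorProduct.tmul_mul_tmul,
    Algebra.TensorProduct.tmul_mul_tmul, AlgHom.id_apply]
  simp

theorem Phi_tmul_one (s : S) :
    Phi hmul hone (s ⊗ₜ[k] (1 : H)) = HopfRep.Comod.coact (k := k) (A := H) s := by
  rw [Phi_tmul, ← Algebra.TensorProduct.one_def, mul_one]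

theorem Psi_injective : Function.Injective (Psi hmul hone) := by
  intro x y hxy
  have := congrArg (Phi hmul hone) hxy
  rw [← AlgHom.comp_apply, ← AlgHom.comp_apply, Phi_comp_Psi] at this
  exact this

/-- `s ⊗ 1` is a non-zero-divisor when `s` is and `H` is flat. -/
theorem tmul_one_mem_nonZeroDivisors [Module.Flat k H] {s : S} (hs : s ∈ nonZeroDivisors S) :
    s ⊗ₜ[k] (1 : H) ∈ nonZeroDivisors (S ⊗[k] H) := by
  rw [mem_nonZeroDivisors_iff_right]
  intro y hy
  have hinj : Function.Injective (LinearMap.mulLeft k s) := by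
    intro a b hab
    have h1 : s * (a - b) = 0 := by
      rw [mul_sub]
      exact sub_eq_zero.mpr hab
    have h2 := (mem_nonZeroDivisors_iff_right.mp hs) (a - b) (by rw [mul_comm]; exact h1)
    exact sub_eq_zero.mp h2
  have hinj2 := Module.Flat.rTensor_preserves_injective_linearMap (M := H)
    (LinearMap.mulLeft k s) hinj
  have h3 : ∀ z : S ⊗[k] H, (LinearMap.mulLeft k s).rTensor H z = (s ⊗ₜ[k] (1 : H)) * z := by
    intro z
    induction z using TensorProduct.induction_on with
    | zero => simp
    | tmul a b => simp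
    | add z w hz hw => simp only [map_add, hz, hw, mul_add]
  apply hinj2
  rw [h3, map_zero, mul_comm]
  exact hy

/-- The coaction preserves non-zero-divisors. -/
theorem coact_mem_nonZeroDivisors [Module.Flat k H]
    (hmul : ∀ x y : S, HopfRep.Comod.coact (k := k) (A := H) (x * y) =
      HopfRep.Comod.coact (k := k) (A := H) x * HopfRep.Comod.coact (k := k) (A := H) y)
    (hone : HopfRep.Comod.coact (k := k) (A := H) (1 : S) = 1)
    {s : S} (hs : s ∈ nonZeroDivisors S) :
    HopfRep.Comod.coact (k := k) (A := H) s ∈ nonZeroDivisors (S ⊗[k] H) := by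
  rw [mem_nonZeroDivisors_iff_right]
  intro y hy
  apply Psi_injective hmul hone
  rw [map_zero]
  have h1 := congrArg (Psi hmul hone) hy
  rw [map_mul, Psi_coact, map_zero] at h1
  exact (mem_nonZeroDivisors_iff_right.mp (tmul_one_mem_nonZeroDivisors hs)) _ h1

end

end Groth.Agent.Lib.Helper84.Shear
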