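import Mathlib
import Groth.Agent.Lib.Helper84.PointExt

/-!
# Density of rational points in the prime spectrum (helper84)
-/

set_option autoImplicit false
set_option linter.style.haveILetI false
set_option linter.unusedSectionVars false
universe u v

namespace Groth.Agent.Lib.Helper84.PointDenseSpec

open Groth.Agent.Lib.Helper84.PointExt

/-- the rational points of an affine group scheme over an algebraically closed field are dense in
its prime spectrum. -/
theorem dense_points (k : Type u) [Field k] [IsAlgClosed k] (A : Type v) [CommRing A]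
    [HopfAlgebra k A] :
    Dense {p : PrimeSpectrum A | ∃ χ : A →ₐ[k] k, p.asIdeal = RingHom.ker (χ : A →+* k)} := by
  rw [dense_iff_closure_eq, ← PrimeSpectrum.zeroLocus_vanishingIdeal_eq_closure,
    Set.eq_univ_iff_forall]
  intro p
  rw [PrimeSpectrum.mem_zeroLocus]
  intro f hf
  have hnil : IsNilpotent f := by
    apply isNilpotent_of_forall_algHom (k := k)
    intro χ
    have hprime : (RingHom.ker (χ : A →+* k)).IsPrime := RingHom.ker_isPrime _
    exact (PrimeSpectrum.mem_vanishingIdeal _ _).1 hf ⟨_, hprime⟩ ⟨χ, rfl⟩
  obtain ⟨n, hn⟩ := hnil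
  exact p.2.mem_of_pow_mem n (hn ▸ Ideal.zero_mem _)

end Groth.Agent.Lib.Helper84.PointDenseSpec
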