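import Mathlib
import Groth.Agent.Lib.Helper84.PointExt
import Groth.Agent.Lib.Helper84.HopfFFEpi

/-!
# Lifting rational points along homomorphisms (helper84)

Over an algebraically closed field, for a bialgebra map `φ : A' → A` of commutative Hopf algebras,
every rational point of `A'` vanishing on `ker φ` lifts to `A`.
-/

set_option autoImplicit false
set_option linter.style.haveILetI false
set_option linter.unusedSectionVars false
universe u v w

namespace Groth.Agent.Lib.Helper84.PointExtHom

open Groth.Agent.Lib.Helper84.PointExt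

variable {k : Type u} [Field k] [IsAlgClosed k] {A' : Type v} [CommRing A'] [HopfAlgebra k A']
  {A : Type w} [CommRing A] [HopfAlgebra k A]

theorem exists_extension_hom (φ : A' →ₐc[k] A) (χ' : A' →ₐ[k] k)
    (hker : ∀ a, φ a = 0 → χ' a = 0) : ∃ g : A →ₐ[k] k, ∀ a, g (φ a) = χ' a := by
  let f : A' →ₐ[k] (φ : A' →ₐ[k] A).range := (φ : A' →ₐ[k] A).rangeRestrict
  have hf : Function.Surjective f := (φ : A' →ₐ[k] A).rangeRestrict_surjective
  have hk : ∀ a ∈ RingHom.ker f, χ' a = 0 := by
    intro a ha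
    apply hker
    have h1 : f a = 0 := ha
    exact congrArg Subtype.val h1
  let e := Ideal.quotientKerAlgEquivOfSurjective hf
  let χB : (φ : A' →ₐ[k] A).range →ₐ[k] k :=
    (Ideal.Quotient.liftₐ (RingHom.ker f) χ' hk).comp
      (e.symm : (φ : A' →ₐ[k] A).range →ₐ[k] _)
  obtain ⟨g, hg⟩ := exists_extension (φ : A' →ₐ[k] A).range
    (Groth.Agent.Lib.Helper84.HopfFFEpi.isHopfSub_range φ) χB
  refine ⟨g, fun a => ?_⟩
  have h1 := hg (f a)
  have h2 : ((f a : (φ : A' →ₐ[k] A).range) : A) = φ a := rfl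
  rw [h2] at h1
  rw [h1]
  have h3 : e.symm (f a) = Ideal.Quotient.mk _ a := by
    rw [AlgEquiv.symm_apply_eq]
    rfl
  change Ideal.Quotient.liftₐ _ χ' hk (e.symm (f a)) = χ' a
  rw [h3]
  rfl

end Groth.Agent.Lib.Helper84.PointExtHom
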