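import Groth.Agent.Lib.Helper84.TranspComod
import Groth.Agent.Lib.Helper84.CoeffMat
import Groth.Agent.Lib.Helper84.DualFree

/-!
# The double dual comodule: evaluation, extension and uniqueness

* `transp_transp_eval`: `ev : V → V^**` is a comodule map for the doubly transposed coaction.
* `extend`: a linear map `h : V → Q` into a flat module extends to `V^** → Q`.
* `eq_zero_of_comp_eval`: over a regular ring of dimension `≤ 2`, a map `V^** → Q` into a
  projective module which vanishes on `ev(V)` is zero.
-/

set_option linter.unusedSectionVars false
set_option linter.unusedVariables false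
set_option linter.style.longLine false

universe u v w

open TensorProduct

namespace Groth.Agent.Lib.Helper84.TranspComod

section Eval

variable {R : Type u} [CommRing R] {V : Type v} [AddCommGroup V] [Module R V]
  {C : Type w} [AddCommGroup C] [Module R C]

/-- `ev : V → V^**` commutes with the coactions. -/
theorem transp_transp_eval (hb : Function.Bijective (dualTensorHom R V C))
    (hb' : Function.Bijective (dualTensorHom R (Module.Dual R V) C))
    (ρ : V →ₗ[R] V ⊗[R] C) (x : V) :
    transp hb' (transp hb ρ) (Module.Dual.eval R V x) =
      ((Module.Dual.eval R V).rTensor C) (ρ x) := by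
  apply hb'.1
  apply LinearMap.ext
  intro f
  rw [dth_transp_apply, pair2_eval, dth_transp_apply]
  generalize ρ x = y
  induction y using TensorProduct.induction_on with
  | zero => simp
  | tmul a c => simp
  | add a b ha hb => simp only [map_add, LinearMap.add_apply, ha, hb]

/-- Extension of `h : V → Q` to the double dual (for `dualTensorHom R V Q` bijective). -/
noncomputable def extend {Q : Type*} [AddCommGroup Q] [Module R Q]
    (hbQ : Function.Bijective (dualTensorHom R V Q)) (h : V →ₗ[R] Q) :
    Module.Dual R (Module.Dual R V) →ₗ[R] Q where
  toFun p := pair2 Q p ((LinearEquiv.ofBijective _ hbQ).symm h)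
  map_add' p q := pair2_add p q _
  map_smul' r p := pair2_smul r p _

theorem extend_eval {Q : Type*} [AddCommGroup Q] [Module R Q]
    (hbQ : Function.Bijective (dualTensorHom R V Q)) (h : V →ₗ[R] Q) (x : V) :
    extend hbQ h (Module.Dual.eval R V x) = h x := by
  change pair2 Q (Module.Dual.eval R V x) ((LinearEquiv.ofBijective _ hbQ).symm h) = h x
  rw [pair2_eval]
  have := (LinearEquiv.ofBijective (dualTensorHom R V Q) hbQ).apply_symm_apply h
  exact LinearMap.congr_fun this x

end Eval

section Unique

theorem eq_zero_of_forall_dual {R : Type u} [CommRing R] {Q : Type v} [AddCommGroup Q]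
    [Module R Q] [Module.Projective R Q] (q : Q) (h : ∀ l : Module.Dual R Q, l q = 0) : q = 0 := by
  obtain ⟨s, hs⟩ := Module.projective_def'.mp ‹Module.Projective R Q›
  have h0 : s q = 0 := by
    ext i
    exact h ((Finsupp.lapply i : (Q →₀ R) →ₗ[R] R) ∘ₗ s)
  have := LinearMap.congr_fun hs q
  rw [LinearMap.comp_apply, h0, map_zero] at this
  exact this.symm

/-- Over a regular ring of dimension `≤ 2`, a map from the double dual of a finite module to a
projective module is determined by its restriction along `ev`. -/
theorem eq_zero_of_comp_eval (R : Type u) [CommRing R] [IsRegularRing R]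
    (hdim : ringKrullDim R ≤ 2) (V : Type u) [AddCommGroup V] [Module R V] [Module.Finite R V]
    {Q : Type v} [AddCommGroup Q] [Module R Q] [Module.Projective R Q]
    (g : Module.Dual R (Module.Dual R V) →ₗ[R] Q)
    (hg : ∀ x, g (Module.Dual.eval R V x) = 0) : g = 0 := by
  haveI : Module.Finite R (Module.Dual R V) := CoeffMat.finite_dual R V
  haveI : Module.Projective R (Module.Dual R V) :=
    DualFree.projective_dual_of_dim_le_two R hdim V
  apply LinearMap.ext
  intro p
  rw [LinearMap.zero_apply]
  apply eq_zero_of_forall_dual (R := R)
  intro l
  obtain ⟨f, hf⟩ := (Module.bijective_dual_eval R (Module.Dual R V)).2 (l ∘ₗ g)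
  have hf0 : f = 0 := by
    apply LinearMap.ext
    intro x
    have := LinearMap.congr_fun hf (Module.Dual.eval R V x)
    simpa [hg] using this
  have := LinearMap.congr_fun hf p
  rw [hf0] at this
  simpa using this.symm

end Unique

end Groth.Agent.Lib.Helper84.TranspComod
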