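import Groth.Agent.Lib.Helper84.ComodCover
import Groth.Agent.Lib.Helper84.TranspComod2

/-!
# Resolution property for comodules over a regular base of dimension ≤ 2

`exists_cover`: a finitely generated comodule `F` (flat coalgebra, Noetherian base) is the image
under a comodule map of a finitely generated subcomodule of a cofree comodule `Rⁿ ⊗ C`.
`stepB`: if moreover `F` embeds `R`-linearly in a projective module, `C` is projective and `R` is
regular of dimension `≤ 2`, then `F` is a quotient of a finite projective comodule.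
`main`: the general case.
-/

set_option linter.unusedSectionVars false
set_option linter.unusedVariables false
set_option linter.style.longLine false

universe u

open TensorProduct

namespace Groth.Agent.Lib.Helper84.ResolveComod

open Groth.Agent.Lib.Helper84

variable {R : Type u} [CommRing R] {C : Type u} [AddCommGroup C] [Module R C] [Coalgebra R C]

/-- `SerreSubM.core` inside the cofree comodule `L ⊗ C`. -/
noncomputable abbrev coreQ (L : Type u) [AddCommGroup L] [Module R L] (N : Submodule R (L ⊗[R] C)) :
    Submodule R (L ⊗[R] C) :=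
  @SerreSubM.core R _ C _ _ _ (L ⊗[R] C) _ _ (ComodCover.cofree L) N

theorem exists_cover [IsNoetherianRing R] [Module.Flat R C]
    (F : Type u) [AddCommGroup F] [Module R F] [HopfRep.Comod R C F] [Module.Finite R F] :
    ∃ (n : ℕ) (π : (Fin n → R) →ₗ[R] F) (N : Submodule R ((Fin n → R) ⊗[R] C)),
      N.FG ∧ coreQ (C := C) (Fin n → R) N ≤ ComodCover.E (C := C) π ∧
      ∀ f : F, ∃ x ∈ coreQ (C := C) (Fin n → R) N, ComodCover.sig (C := C) π x = f := by
  classical
  obtain ⟨n, π, hπ⟩ := Module.Finite.exists_fin' R F
  letI instQ : HopfRep.Comod R C ((Fin n → R) ⊗[R] C) := ComodCover.cofree (Fin n → R)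
  obtain ⟨S, hS⟩ := (Module.Finite.fg_top : (⊤ : Submodule R F).FG)
  choose g hgE hgs using fun f : F => ComodCover.exists_mem_E_sig (C := C) π hπ f
  obtain ⟨N, hNE, hN, hXN⟩ := SerreSubM.exists_fg_core_le (C := C) (ComodCover.E (C := C) π)
    (fun x hx => ComodCover.coact_mem_E π hx) (S.image g) (by
      intro x hx
      rw [Finset.coe_image] at hx
      obtain ⟨f, _, rfl⟩ := hx
      exact hgE f)
  refine ⟨n, π, N, hN, le_trans (SerreSubM.core_le (C := C) N) hNE, ?_⟩
  have htop : Submodule.map (ComodCover.sig (C := C) π) (coreQ (C := C) (Fin n → R) N) = ⊤ := by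
    rw [eq_top_iff, ← hS, Submodule.span_le]
    intro f hf
    refine ⟨g f, hXN ?_, hgs f⟩
    rw [Finset.coe_image]
    exact ⟨f, hf, rfl⟩
  intro f
  have : f ∈ Submodule.map (ComodCover.sig (C := C) π) (coreQ (C := C) (Fin n → R) N) := by
    rw [htop]; trivial
  obtain ⟨x, hx, hxf⟩ := this
  exact ⟨x, hx, hxf⟩

set_option maxSynthPendingDepth 3 in
theorem stepB [IsRegularRing R] (hdim : ringKrullDim R ≤ 2) [Module.Projective R C]
    (F₁ : Type u) [AddCommGroup F₁] [Module R F₁] [HopfRep.Comod R C F₁] [Module.Finite R F₁]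
    {Q₀ : Type u} [AddCommGroup Q₀] [Module R Q₀] [Module.Projective R Q₀]
    (j : F₁ →ₗ[R] Q₀) (hj : Function.Injective j) :
    ∃ (V : Type u) (_ : AddCommGroup V) (_ : Module R V) (_ : HopfRep.Comod R C V)
      (φ : V →ₗ[R] F₁), Module.Finite R V ∧ Module.Projective R V ∧ Function.Surjective φ ∧
      HopfRep.Comod.coact (k := R) (A := C) ∘ₗ φ =
        φ.rTensor C ∘ₗ HopfRep.Comod.coact (k := R) (A := C) (V := V) := by
  classical
  haveI : IsNoetherianRing R := inferInstance
  haveI : Module.Flat R C := inferInstance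
  obtain ⟨n, π, N, hN, hNE, hsurj⟩ := exists_cover (R := R) (C := C) F₁
  letI instQ : HopfRep.Comod R C ((Fin n → R) ⊗[R] C) := ComodCover.cofree (Fin n → R)
  haveI : Module.Finite R (SerreSubM.core (C := C) N) :=
    Module.Finite.iff_fg.mpr (SerreSubM.fg_core (C := C) hN)
  haveI : Module.FinitePresentation R (SerreSubM.core (C := C) N) :=
    Module.finitePresentation_of_finite R (SerreSubM.core (C := C) N)
  haveI : Module.Finite R (Module.Dual R (SerreSubM.core (C := C) N)) :=
    CoeffMat.finite_dual R (SerreSubM.core (C := C) N)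
  haveI : Module.FinitePresentation R (Module.Dual R (SerreSubM.core (C := C) N)) :=
    Module.finitePresentation_of_finite R (Module.Dual R (SerreSubM.core (C := C) N))
  haveI : Module.Finite R (Module.Dual R (Module.Dual R (SerreSubM.core (C := C) N))) :=
    CoeffMat.finite_dual R (Module.Dual R (SerreSubM.core (C := C) N))
  haveI : Module.Projective R (Module.Dual R (Module.Dual R (SerreSubM.core (C := C) N))) :=
    DualFree.projective_dual_of_dim_le_two R hdim (Module.Dual R (SerreSubM.core (C := C) N))
  letI instE' : HopfRep.Comod R C (SerreSubM.core (C := C) N) := SerreSubM.coreComod (C := C) N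
  have hρ' : TranspComod.IsCoact (V := SerreSubM.core (C := C) N)
      (CoalgebraStruct.comul (R := R) (A := C))
      (CoalgebraStruct.counit (R := R) (A := C)) (SerreSubM.coreCoact (C := C) N) := by
    exact CoeffMat.isCoact_of_comod (inst := instE')
  have hb : Function.Bijective (dualTensorHom R (SerreSubM.core (C := C) N) C) :=
    TranspComod.dth_bijective
  have hb' : Function.Bijective (dualTensorHom R (Module.Dual R (SerreSubM.core (C := C) N)) C) :=
    TranspComod.dth_bijective
  have h1 := hρ'.transp hb TranspComod.dth_injective TranspComod.dth_injective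
  have h2 := h1.transp hb' TranspComod.dth_injective TranspComod.dth_injective
  rw [TranspComod.comm_comm_comp] at h2
  letI instP : HopfRep.Comod R C (Module.Dual R (Module.Dual R (SerreSubM.core (C := C) N))) :=
    CoeffMat.comodOfIsCoact _ h2
  haveI : Module.Projective R ((Fin n → R) ⊗[R] C) := inferInstance
  haveI : Module.Projective R (((Fin n → R) ⊗[R] C) ⊗[R] C) := inferInstance
  haveI : Module.Projective R (Q₀ ⊗[R] C) := inferInstance
  have hbQ : Function.Bijective (dualTensorHom R (SerreSubM.core (C := C) N)
      ((Fin n → R) ⊗[R] C)) := TranspComod.dth_bijective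
  set θ := TranspComod.extend hbQ (SerreSubM.core (C := C) N).subtype with hθ
  have hθev : ∀ x : SerreSubM.core (C := C) N,
      θ (Module.Dual.eval R (SerreSubM.core (C := C) N) x) = (x : (Fin n → R) ⊗[R] C) :=
    fun x => TranspComod.extend_eval hbQ _ x
  have hθcomp : θ ∘ₗ (Module.Dual.eval R (SerreSubM.core (C := C) N)) =
      (SerreSubM.core (C := C) N).subtype := LinearMap.ext hθev
  -- θ is a comodule map
  have hθco : (θ.rTensor C) ∘ₗ
      (TranspComod.transp hb' (TranspComod.transp hb (SerreSubM.coreCoact (C := C) N))) =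
      (HopfRep.Comod.coact (k := R) (A := C) (V := (Fin n → R) ⊗[R] C)) ∘ₗ θ := by
    rw [← sub_eq_zero]
    apply TranspComod.eq_zero_of_comp_eval R hdim (SerreSubM.core (C := C) N)
    intro x
    simp only [LinearMap.sub_apply, LinearMap.comp_apply]
    rw [TranspComod.transp_transp_eval, hθev, sub_eq_zero, ← LinearMap.comp_apply,
      ← LinearMap.rTensor_comp, hθcomp]
    exact SerreSubM.rTensor_coreCoact (C := C) N x
  -- θ lands in E
  have hτθ : ∀ p, ComodCover.tau (C := C) π (θ p) = 0 := by
    have h0 : (j.rTensor C) ∘ₗ ComodCover.tau (C := C) π ∘ₗ θ = 0 := by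
      apply TranspComod.eq_zero_of_comp_eval R hdim (SerreSubM.core (C := C) N)
      intro x
      simp only [LinearMap.comp_apply]
      rw [hθev]
      have hx : (x : (Fin n → R) ⊗[R] C) ∈ ComodCover.E (C := C) π := hNE x.2
      rw [ComodCover.E, LinearMap.mem_ker] at hx
      rw [hx, map_zero]
    intro p
    have hinj : Function.Injective (j.rTensor C) :=
      Module.Flat.rTensor_preserves_injective_linearMap _ hj
    apply hinj
    rw [map_zero]
    exact LinearMap.congr_fun h0 p
  refine ⟨Module.Dual R (Module.Dual R (SerreSubM.core (C := C) N)), inferInstance, inferInstance,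
    instP, ComodCover.sig (C := C) π ∘ₗ θ, inferInstance, inferInstance, ?_, ?_⟩
  · intro f
    obtain ⟨x, hx, hxf⟩ := hsurj f
    refine ⟨Module.Dual.eval R (SerreSubM.core (C := C) N) ⟨x, hx⟩, ?_⟩
    rw [LinearMap.comp_apply, hθev]
    exact hxf
  · apply LinearMap.ext
    intro p
    simp only [LinearMap.comp_apply]
    have hE : θ p ∈ ComodCover.E (C := C) π := by
      rw [ComodCover.E, LinearMap.mem_ker]
      exact hτθ p
    rw [← ComodCover.sig_comodHom π hE]
    have h3 := LinearMap.congr_fun hθco p
    simp only [LinearMap.comp_apply] at h3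
    rw [LinearMap.rTensor_comp, LinearMap.comp_apply]
    exact congrArg _ h3.symm

set_option maxSynthPendingDepth 3 in
/-- Resolution property: over a regular ring of dimension `≤ 2`, with `C` projective, every
finitely generated comodule is a quotient of a finite projective comodule. -/
theorem main [IsRegularRing R] (hdim : ringKrullDim R ≤ 2) [Module.Projective R C]
    (F : Type u) [AddCommGroup F] [Module R F] [HopfRep.Comod R C F] [Module.Finite R F] :
    ∃ (V : Type u) (_ : AddCommGroup V) (_ : Module R V) (_ : HopfRep.Comod R C V)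
      (φ : V →ₗ[R] F), Module.Finite R V ∧ Module.Projective R V ∧ Function.Surjective φ ∧
      HopfRep.Comod.coact (k := R) (A := C) ∘ₗ φ =
        φ.rTensor C ∘ₗ HopfRep.Comod.coact (k := R) (A := C) (V := V) := by
  classical
  haveI : IsNoetherianRing R := inferInstance
  haveI : Module.Flat R C := inferInstance
  obtain ⟨n, π, N, hN, hNE, hsurj⟩ := exists_cover (R := R) (C := C) F
  letI instQ : HopfRep.Comod R C ((Fin n → R) ⊗[R] C) := ComodCover.cofree (Fin n → R)
  haveI : Module.Finite R (SerreSubM.core (C := C) N) :=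
    Module.Finite.iff_fg.mpr (SerreSubM.fg_core (C := C) hN)
  letI instE' : HopfRep.Comod R C (SerreSubM.core (C := C) N) := SerreSubM.coreComod (C := C) N
  haveI : Module.Projective R ((Fin n → R) ⊗[R] C) := inferInstance
  obtain ⟨V, i1, i2, i3, φ₁, hfin, hproj, hφ₁, hco₁⟩ := stepB (C := C) hdim
    (SerreSubM.core (C := C) N) (SerreSubM.core (C := C) N).subtype
    (SerreSubM.core (C := C) N).injective_subtype
  refine ⟨V, i1, i2, i3, (ComodCover.sig (C := C) π ∘ₗ (SerreSubM.core (C := C) N).subtype) ∘ₗ φ₁,
    hfin, hproj, ?_, ?_⟩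
  · intro f
    obtain ⟨x, hx, hxf⟩ := hsurj f
    obtain ⟨v, hv⟩ := hφ₁ ⟨x, hx⟩
    refine ⟨v, ?_⟩
    rw [LinearMap.comp_apply, hv]
    exact hxf
  · apply LinearMap.ext
    intro v
    simp only [LinearMap.comp_apply]
    have hE : ((φ₁ v : SerreSubM.core (C := C) N) : (Fin n → R) ⊗[R] C) ∈
        ComodCover.E (C := C) π := hNE (φ₁ v).2
    have h2 := LinearMap.congr_fun hco₁ v
    simp only [LinearMap.comp_apply] at h2
    have h5 := SerreSubM.rTensor_coreCoact (C := C) N (φ₁ v)
    have h5' : ((SerreSubM.core (C := C) N).subtype.rTensor C)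
        ((φ₁.rTensor C) (HopfRep.Comod.coact (k := R) (A := C) v)) =
        HopfRep.Comod.coact (k := R) (A := C) ((φ₁ v : SerreSubM.core (C := C) N) :
          (Fin n → R) ⊗[R] C) := by
      rw [← h2]
      exact h5
    rw [LinearMap.rTensor_comp, LinearMap.comp_apply, LinearMap.rTensor_comp,
      LinearMap.comp_apply, h5', ComodCover.sig_comodHom π hE, Submodule.subtype_apply]

end Groth.Agent.Lib.Helper84.ResolveComod
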