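import Mathlib
import Groth.Prelude.Def_HopfRep
import Groth.Prelude.Def_CoactBr2
import Groth.Agent.Lib.Helper84.SmallestSubcomod
import Groth.Agent.Lib.Helper84.ComodBC
import Groth.Agent.Lib.Helper84.ComodRes

/-!
# Smallest subcomodule after a faithfully flat base change making the coalgebra projective (helper84)

`A → B` faithfully flat, `C` an `A`-coalgebra with `B ⊗ C` projective over `B`, `V` a `C`-comodule,
`M ≤ V`.  The smallest `B ⊗ C`-subcomodule `G'` of `B ⊗ V` containing `B ⊗ M` exists
(`SmallestSubcomod.gen`); its preimage `W` under `v ↦ 1 ⊗ v` is the smallest subcomodule of `V`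
containing `M`, `B ⊗ W = G'`, and `W` is f.g. when `M` is.
-/

set_option autoImplicit false

namespace Groth.Agent.Lib.Helper84.SmallestSubcomodFF

open TensorProduct HopfRep
open Groth.Agent.Lib.Helper84

universe u₁ u₂ u₃ u₄

variable (A : Type u₁) (B : Type u₂) [CommRing A] [CommRing B] [Algebra A B]
variable (C : Type u₃) [AddCommGroup C] [Module A C] [Coalgebra A C]
variable (V : Type u₄) [AddCommGroup V] [Module A V] [HopfRep.Comod A C V]

attribute [local instance] CoactBr.Comod.baseChange

lemma coact_one_tmul (v : V) :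
    Comod.coact (k := B) (A := B ⊗[A] C) ((1 : B) ⊗ₜ[A] v)
      = ComodBC.theta A B C V ((1 : B) ⊗ₜ[A] Comod.coact (k := A) (A := C) v) := by
  have := ComodBC.baseChange_coact_eq A B C V ((1 : B) ⊗ₜ[A] v)
  rw [LinearMap.baseChange_tmul] at this
  exact this

/-- the base change of a subcomodule is a subcomodule of the base-changed comodule. -/
lemma isSubcomod_baseChange (U : Submodule A V) (hU : IsSubcomod (k := A) (A := C) U) :
    IsSubcomod (k := B) (A := B ⊗[A] C) (U.baseChange B) := by
  intro x hx
  rw [Submodule.baseChange_eq_span] at hx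
  induction hx using Submodule.span_induction with
  | mem x hx =>
    obtain ⟨u, hu, rfl⟩ := hx
    show Comod.coact (k := B) (A := B ⊗[A] C) ((1 : B) ⊗ₜ[A] u) ∈ _
    rw [coact_one_tmul]
    obtain ⟨z, hz⟩ := hU u hu
    rw [← hz]
    clear hz
    induction z using TensorProduct.induction_on with
    | zero => simp
    | tmul u' c =>
      rw [LinearMap.rTensor_tmul, Submodule.subtype_apply, ComodBC.theta_tmul_tmul]
      exact ⟨(⟨(1 : B) ⊗ₜ[A] (u' : V), Submodule.tmul_mem_baseChange_of_mem 1 u'.2⟩ :
        U.baseChange B) ⊗ₜ[B] ((1 : B) ⊗ₜ[A] c), by simp⟩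
    | add a b ha hb =>
      rw [map_add, TensorProduct.tmul_add, map_add]
      exact Submodule.add_mem _ ha hb
  | zero => rw [map_zero]; exact Submodule.zero_mem _
  | add x y _ _ hx hy => rw [map_add]; exact Submodule.add_mem _ hx hy
  | smul b x _ hx => rw [map_smul]; exact Submodule.smul_mem _ b hx

/-- the preimage under `v ↦ 1 ⊗ v` of a subcomodule of `B ⊗ V` is a subcomodule of `V`
(`C` flat over `A`). -/
lemma isSubcomod_comap [Module.Flat A C] (G' : Submodule B (B ⊗[A] V))
    (hG' : IsSubcomod (k := B) (A := B ⊗[A] C) G') :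
    IsSubcomod (k := A) (A := C)
      ((G'.restrictScalars A).comap (TensorProduct.mk A B V 1)) := by
  set W := (G'.restrictScalars A).comap (TensorProduct.mk A B V 1) with hW
  let θ : V →ₗ[A] (B ⊗[A] V) ⧸ G' := (G'.mkQ.restrictScalars A) ∘ₗ (TensorProduct.mk A B V 1)
  have hex : Function.Exact W.subtype θ := by
    intro v
    constructor
    · intro hv
      have : v ∈ W := by
        show (1 : B) ⊗ₜ[A] v ∈ G'
        exact (Submodule.Quotient.mk_eq_zero G').1 hv
      exact ⟨⟨v, this⟩, rfl⟩
    · rintro ⟨w, rfl⟩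
      exact (Submodule.Quotient.mk_eq_zero G').2 w.2
  have hex2 := Module.Flat.rTensor_exact C hex
  intro w hw
  refine (hex2 _).1 ?_
  apply (ComodRes.jj A B C ((B ⊗[A] V) ⧸ G')).injective
  rw [map_zero]
  have hnat : ∀ y : V ⊗[A] C, ComodRes.jj A B C ((B ⊗[A] V) ⧸ G') (θ.rTensor C y)
      = (G'.mkQ.rTensor (B ⊗[A] C)) (ComodBC.theta A B C V ((1 : B) ⊗ₜ[A] y)) := by
    intro y
    induction y using TensorProduct.induction_on with
    | zero => simp
    | tmul v c =>
      rw [LinearMap.rTensor_tmul, ComodRes.jj_tmul, ComodBC.theta_tmul_tmul,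
        LinearMap.rTensor_tmul]
      rfl
    | add a b ha hb =>
      rw [map_add, map_add, ha, hb, TensorProduct.tmul_add, map_add, map_add]
  rw [hnat, ← coact_one_tmul]
  obtain ⟨z, hz⟩ := hG' ((1 : B) ⊗ₜ[A] w) hw
  rw [← hz, ← LinearMap.comp_apply, ← LinearMap.rTensor_comp]
  have : G'.mkQ ∘ₗ G'.subtype = 0 := by ext; simp
  rw [this, LinearMap.rTensor_zero, LinearMap.zero_apply]

/-- **Smallest subcomodule**, coalgebra projective after a faithfully flat base change. -/
theorem exists_smallest_subcomod_of_fflat [Module.FaithfullyFlat A B]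
    [Module.Projective B (B ⊗[A] C)] (M : Submodule A V) :
    ∃ W : Submodule A V, IsSubcomod (k := A) (A := C) W ∧ M ≤ W ∧
      (∀ W' : Submodule A V, IsSubcomod (k := A) (A := C) W' → M ≤ W' → W ≤ W') ∧
      (M.FG → W.FG) := by
  haveI : Module.Flat A C := Module.Flat.of_flat_tensorProduct A C B
  set G' : Submodule B (B ⊗[A] V) :=
    SmallestSubcomod.gen (C := B ⊗[A] C) (M.baseChange B) with hG'
  have hG'sub : IsSubcomod (k := B) (A := B ⊗[A] C) G' := SmallestSubcomod.isSubcomod_gen _
  set W : Submodule A V := (G'.restrictScalars A).comap (TensorProduct.mk A B V 1) with hW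
  have hWsub : IsSubcomod (k := A) (A := C) W := isSubcomod_comap A B C V G' hG'sub
  have hMW : M ≤ W := by
    intro m hm
    show (1 : B) ⊗ₜ[A] m ∈ G'
    exact SmallestSubcomod.le_gen _ (Submodule.tmul_mem_baseChange_of_mem 1 hm)
  have hWG : W.baseChange B = G' := by
    apply le_antisymm
    · rw [Submodule.baseChange_eq_span, Submodule.span_le]
      rintro _ ⟨w, hw, rfl⟩
      exact hw
    · exact SmallestSubcomod.gen_le _ _ (isSubcomod_baseChange A B C V W hWsub)
        (Submodule.baseChange_mono B hMW)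
  refine ⟨W, hWsub, hMW, ?_, ?_⟩
  · intro W' hW' hMW'
    rw [← Submodule.baseChange_le_iff (A := B), hWG]
    exact SmallestSubcomod.gen_le _ _ (isSubcomod_baseChange A B C V W' hW')
      (Submodule.baseChange_mono B hMW')
  · intro hM
    have h1 : (M.baseChange B).FG := by
      obtain ⟨S, rfl⟩ := hM
      rw [Submodule.baseChange_span]
      exact Submodule.fg_span (S.finite_toSet.image _)
    have h2 : G'.FG := SmallestSubcomod.gen_fg _ h1
    rw [← hWG] at h2
    haveI : Module.Finite B (W.baseChange B) := Module.Finite.iff_fg.2 h2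
    haveI : Module.Finite B (B ⊗[A] W) :=
      Module.Finite.equiv (Submodule.toBaseChange.toLinearEquiv B W).symm
    haveI : Module.Finite A W := Module.Finite.of_finite_tensorProduct_of_faithfullyFlat B
    exact Module.Finite.iff_fg.1 inferInstance

end Groth.Agent.Lib.Helper84.SmallestSubcomodFF
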