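import Mathlib
import Groth.Agent.Lib.Helper84.Rosenlicht.Sch.Grp
import Groth.Agent.Lib.Helper84.Obs.Comul
import Groth.Agent.Lib.Helper84.MultUnipHom
import Groth.Agent.H40.UnipFin
import Groth.Agent.Lib.Helper70.FixEtB
import Groth.Agent.H40.SepSplit3

/-!
# Units on smooth connected affine groups, Hopf form (helper84)

* `isGroupLikeElem_of_isUnit` : over an algebraically closed field, a unit `u` with `ε u = 1` of a
  finitely generated formally smooth Hopf algebra with connected spectrum is group-like
  (Rosenlicht).
-/

set_option autoImplicit false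
set_option linter.unusedSectionVars false
universe u
open CategoryTheory MonoidalCategory CartesianMonoidalCategory MonObj GrpObj AlgebraicGeometry Opposite
open CoactBr Limits TensorProduct

namespace Groth.Agent.Lib.Helper84.UnipUnits

open Groth.Agent.Lib.Helper84.Obs

section AlgClosed

variable {K : Type u} [Field K] [IsAlgClosed K] {H : Type u} [CommRing H] [HopfAlgebra K H]
  [Algebra.FiniteType K H] [Algebra.FormallySmooth K H]

theorem isGroupLikeElem_of_isUnit [ConnectedSpace ↥(Spec (CommRingCat.of H))] (u : H) (hu : IsUnit u)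
    (hε : CoalgebraStruct.counit (R := K) u = 1) : IsGroupLikeElem K u := by
  have hsm : Smooth (sp K H).hom := by
    show Smooth (Spec.map (CommRingCat.ofHom (algebraMap K H)))
    rw [HasRingHomProperty.Spec_iff (P := @Smooth)]
    exact RingHom.smooth_algebraMap.mpr
      ⟨inferInstance, (Algebra.FinitePresentation.of_finiteType (R := K) (A := H)).mp inferInstance⟩
  have hqc : QuasiCompact (sp K H).hom := by
    show QuasiCompact (Spec.map (CommRingCat.ofHom (algebraMap K H)))
    infer_instance
  have hconn : ConnectedSpace ↥(sp K H).left := ‹_›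
  let e : sp K H ≅ sp K H := Iso.refl _
  have he : IsMonHom e.hom := by
    dsimp only [e, Iso.refl_hom]; infer_instance
  have hf : IsUnit (fnOf e u) := hu.map (fnOfHom e)
  have h1 : η[sp K H].left.appTop (fnOf e u) = 1 := by
    have h2 : η[sp K H].left = Spec.map (CommRingCat.ofHom (Bialgebra.counitAlgHom K H).toRingHom) :=
      rfl
    rw [h2]
    unfold fnOf
    have h3 : (e.inv.left.appTop ((Scheme.ΓSpecIso (CommRingCat.of H)).inv u)) =
        (Scheme.ΓSpecIso (CommRingCat.of H)).inv u := rfl
    rw [h3]
    have h4 := Scheme.ΓSpecIso_inv_naturality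
      (CommRingCat.ofHom (Bialgebra.counitAlgHom K H).toRingHom)
    have h5 := congrArg (fun m => m.hom u) h4
    refine h5.symm.trans ?_
    show (Scheme.ΓSpecIso (CommRingCat.of K)).inv.hom
      ((CommRingCat.ofHom (Bialgebra.counitAlgHom K H).toRingHom).hom u) = 1
    have h6 : (CommRingCat.ofHom (Bialgebra.counitAlgHom K H).toRingHom).hom u = 1 := hε
    rw [h6]
    exact map_one (Scheme.ΓSpecIso (CommRingCat.of K)).inv.hom
  have h2 := Groth.Agent.Lib.Helper84.Rosenlicht.Sch.character_of_unit (sp K H) (fnOf e u) hf h1
  apply isGroupLikeElem_of_mul_appTop e u hε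
  have h3 : fst (sp K H) (sp K H) * snd (sp K H) (sp K H) = μ[sp K H] := by
    rw [Hom.mul_def]; simp
  rw [h3]
  exact h2

end AlgClosed

section Main

variable {k : Type u} [Field k] {C : Type u} [CommRing C] [HopfAlgebra k C]

omit [HopfAlgebra k C] in
/-- a nontrivial ring without non-trivial idempotents has a connected spectrum. -/
theorem connectedSpace_of_idem [Nontrivial C]
    (hconn : ∀ e : C, IsIdempotentElem e → e = 0 ∨ e = 1) :
    ConnectedSpace ↥(Spec (CommRingCat.of C)) := by
  have hne : Nonempty (PrimeSpectrum C) := inferInstance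
  have hpre : PreconnectedSpace (PrimeSpectrum C) := by
    rw [preconnectedSpace_iff_clopen]
    intro s hs
    obtain ⟨e, he, rfl⟩ := PrimeSpectrum.isClopen_iff.mp hs
    rcases hconn e he with rfl | rfl
    · left; simp
    · right; simp
  show ConnectedSpace (PrimeSpectrum C)
  exact { toPreconnectedSpace := hpre, toNonempty := hne }

/-- a connected Hopf algebra over a field is geometrically connected. -/
theorem connectedSpace_baseChange (hconn : ∀ e : C, IsIdempotentElem e → e = 0 ∨ e = 1)
    (K : Type u) [Field K] [Algebra k K] :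
    ConnectedSpace ↥(Spec (CommRingCat.of (K ⊗[k] C))) := by
  have hnt : Nontrivial C := by
    refine ⟨⟨0, 1, fun h01 => ?_⟩⟩
    have := congrArg (Bialgebra.counitAlgHom k C) h01
    simp at this
  have h0 := connectedSpace_of_idem hconn
  have he : Spec.map (CommRingCat.ofHom (Bialgebra.counitAlgHom k C).toRingHom) ≫
      Spec.map (CommRingCat.ofHom (algebraMap k C)) = 𝟙 _ := by
    rw [← Spec.map_comp, ← CommRingCat.ofHom_comp]
    have : (Bialgebra.counitAlgHom k C).toRingHom.comp (algebraMap k C) = RingHom.id k := by
      ext a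
      simp
    rw [this]
    exact Spec.map_id _
  have hgc := Groth.Agent.Lib.Helper70.FixEtB.geometricallyConnected_of_section
    (Spec.map (CommRingCat.ofHom (algebraMap k C)))
    (Spec.map (CommRingCat.ofHom (Bialgebra.counitAlgHom k C).toRingHom)) he
  have hpo := (CommRingCat.isPushout_tensorProduct k K C).flip
  have hpb := isPullback_SpecMap_of_isPushout _ _ _ _ hpo
  exact hgc.geometrically_connectedSpace
    (Spec.map (CommRingCat.ofHom (algebraMap k K))) _ _ hpb

variable [Algebra.FiniteType k C] [Algebra.FormallySmooth k C]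
  {B : Type u} [CommRing B] [HopfAlgebra k B]

/-- **every morphism from a smooth connected unipotent group to a group of multiplicative type
is constant** (Hopf form, after an algebraically closed splitting field is given). -/
theorem algHom_const (K : Type u) [Field K] [IsAlgClosed K] [Algebra k K]
    (hM : Submodule.span K {a : K ⊗[k] B | IsGroupLikeElem K a} = ⊤)
    (hconn : ∀ e : C, IsIdempotentElem e → e = 0 ∨ e = 1) (hU : HopfRep.IsUnipotent k C)
    (f : B →ₐ[k] C) (b : B) :
    f b = algebraMap k C (Coalgebra.counit (R := k) (f b)) := by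
  let fK : K ⊗[k] B →ₐ[K] K ⊗[k] C := Algebra.TensorProduct.map (AlgHom.id K K) f
  have hUK : HopfRep.IsUnipotent K (K ⊗[k] C) := Groth.Agent.H40.UnipFin.isUnipotent_baseChange K hU
  have hcK := connectedSpace_baseChange (k := k) hconn K
  have h1 : ∀ x : K ⊗[k] B,
      fK x = algebraMap K (K ⊗[k] C) (Coalgebra.counit (R := K) (fK x)) := by
    intro x
    have hx : x ∈ Submodule.span K {a : K ⊗[k] B | IsGroupLikeElem K a} := by
      rw [hM]; trivial
    induction hx using Submodule.span_induction with
    | mem a ha =>
      have ha' : IsGroupLikeElem K a := ha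
      have hu : IsUnit (fK a) := ha'.isUnit.map fK
      set c : K := Coalgebra.counit (R := K) (fK a) with hc
      have hcu : IsUnit c := hu.map (Bialgebra.counitAlgHom K (K ⊗[k] C))
      have hc0 : c ≠ 0 := hcu.ne_zero
      have hu' : IsUnit (c⁻¹ • fK a) := by
        rw [Algebra.smul_def]
        exact ((IsUnit.mk0 c⁻¹ (inv_ne_zero hc0)).map (algebraMap K (K ⊗[k] C))).mul hu
      have hε' : Coalgebra.counit (R := K) (c⁻¹ • fK a) = 1 := by
        rw [map_smul, ← hc, smul_eq_mul, inv_mul_cancel₀ hc0]
      have hgl := isGroupLikeElem_of_isUnit (K := K) (H := K ⊗[k] C) _ hu' hε'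
      have h1' := Groth.Agent.Lib.Helper84.MultUnipHom.groupLike_eq_one_of_unipotent hUK _ hgl
      have h2' : fK a = c • (1 : K ⊗[k] C) := by
        rw [← h1', smul_smul, mul_inv_cancel₀ hc0, one_smul]
      rw [h2', Algebra.algebraMap_eq_smul_one]
    | zero => simp
    | add a b _ _ ha hb => rw [map_add, map_add, map_add, ← ha, ← hb]
    | smul t a _ ha =>
      rw [map_smul, map_smul, smul_eq_mul, map_mul, ← ha, Algebra.smul_def]
  have h2 := h1 ((1 : K) ⊗ₜ[k] b)
  have h3 : fK ((1 : K) ⊗ₜ[k] b) = (1 : K) ⊗ₜ[k] f b := by
    simp [fK]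
  rw [h3, TensorProduct.counit_tmul, CommSemiring.counit_apply,
    Algebra.algebraMap_eq_smul_one (R := K), smul_assoc, one_smul,
    Algebra.TensorProduct.one_def, ← TensorProduct.tmul_smul] at h2
  have hinj : Function.Injective (Algebra.TensorProduct.includeRight (R := k) (A := K) (B := C)) :=
    Algebra.TensorProduct.includeRight_injective (algebraMap k K).injective
  apply hinj
  rw [Algebra.algebraMap_eq_smul_one]
  exact h2

end Main

end Groth.Agent.Lib.Helper84.UnipUnits
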