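import Groth.Prelude.Def_CAlgX
import Mathlib.RingTheory.LocalRing.Module
import Mathlib.RingTheory.Flat.Tensor

/-!
Universally injective maps and flatness (helper84).
-/

set_option autoImplicit false
universe u
open TensorProduct

namespace Groth.Agent.Lib.Helper84

section
variable {R : Type u} [CommRing R] {M₁ M₂ M₃ : Type u}
  [AddCommGroup M₁] [Module R M₁] [AddCommGroup M₂] [Module R M₂] [AddCommGroup M₃] [Module R M₃]

/-- A short exact sequence with flat cokernel is universally exact. -/
theorem univInj_of_exact_of_flat (f : M₁ →ₗ[R] M₂) (g : M₂ →ₗ[R] M₃)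
    (hf : Function.Injective f) (hexact : Function.Exact f g) (hg : Function.Surjective g)
    [Module.Flat R M₃] : CAlgX.UniversallyInjective R f := by
  intro Q _ _
  rw [← LinearMap.lTensor_inj_iff_rTensor_inj]
  let π : (Q →₀ R) →ₗ[R] Q := Finsupp.linearCombination R id
  have hπ : Function.Surjective π := fun q => ⟨Finsupp.single q 1, by simp [π]⟩
  have hex : Function.Exact (LinearMap.ker π).subtype π := LinearMap.exact_subtype_ker_map π
  refine lTensor_injective_of_exact_of_exact_of_rTensor_injective
    (M₁ := LinearMap.ker π) (M₂ := Q →₀ R) (M₃ := Q)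
    (f₁ := (LinearMap.ker π).subtype) (f₂ := π) (g₁ := f) (g₂ := g)
    hex hπ hexact hg ?_ ?_
  · exact Module.Flat.rTensor_preserves_injective_linearMap _ Subtype.val_injective
  · exact Module.Flat.lTensor_preserves_injective_linearMap _ hf

/-- The cokernel of a universally injective map into a flat module is flat. -/
theorem flat_of_univInj_of_exact (f : M₁ →ₗ[R] M₂) (g : M₂ →ₗ[R] M₃)
    (hexact : Function.Exact f g) (hg : Function.Surjective g)
    (hf : ∀ I : Ideal R, I.FG → Function.Injective (f.rTensor (R ⧸ I)))
    [Module.Flat R M₂] : Module.Flat R M₃ := by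
  rw [Module.Flat.iff_lTensor_injective]
  intro I hI
  refine lTensor_injective_of_exact_of_exact_of_rTensor_injective
    (f₁ := f) (f₂ := g) (g₁ := I.subtype) (g₂ := I.mkQ)
    hexact hg (LinearMap.exact_subtype_mkQ I) (Submodule.mkQ_surjective I) (hf I hI) ?_
  exact Module.Flat.lTensor_preserves_injective_linearMap _ Subtype.val_injective

/-- The source of a universally injective map into a flat module is flat. -/
theorem flat_of_univInj (f : M₁ →ₗ[R] M₂) (hf : CAlgX.UniversallyInjective R f)
    [Module.Flat R M₂] : Module.Flat R M₁ := by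
  rw [Module.Flat.iff_lTensor_injective]
  intro I _
  have h1 : Function.Injective (I.subtype.lTensor M₂ ∘ₗ f.rTensor I) :=
    (Module.Flat.lTensor_preserves_injective_linearMap _ Subtype.val_injective).comp (hf I)
  have h2 : I.subtype.lTensor M₂ ∘ₗ f.rTensor I = f.rTensor R ∘ₗ I.subtype.lTensor M₁ := by
    rw [LinearMap.lTensor_comp_rTensor, LinearMap.rTensor_comp_lTensor]
  rw [h2] at h1
  exact Function.Injective.of_comp h1

end

end Groth.Agent.Lib.Helper84
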